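import Mathlib
import Cfsg.Agent.Lib.Helper3.Decomp
import Cfsg.Agent.Lib.Helper3.Complete

set_option autoImplicit false

namespace Cfsg.Agent.Lib.Helper15

open Cfsg Cfsg.Agent.Lib.Helper3
open scoped ComplexConjugate

variable {G : Type*} [Group G]

/-- multiplicities of irreducible characters in a character are natural numbers -/
theorem exists_nat_classInner [Fintype G] {χ ψ : G → ℂ} (hχ : IsCharacter G χ)
    (hψ : IsCharacter G ψ) : ∃ m : ℕ, classInner χ ψ = (m : ℂ) := by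
  obtain ⟨n, ρ, rfl⟩ := hχ
  obtain ⟨k, σ, rfl⟩ := hψ
  exact ⟨_, classInner_character_eq_finrank ρ σ⟩

/-- decomposition of a character with natural multiplicities -/
theorem exists_nat_decomp [Fintype G] [Fintype (IrrCharacter G)] {χ : G → ℂ} (hχ : IsCharacter G χ) :
    ∃ m : IrrCharacter G → ℕ, (∀ ψ : IrrCharacter G, classInner χ (ψ : G → ℂ) = (m ψ : ℂ)) ∧
      χ = ∑ ψ : IrrCharacter G, (m ψ : ℂ) • (ψ : G → ℂ) := by
  have key : ∀ ψ : IrrCharacter G, ∃ m : ℕ, classInner χ (ψ : G → ℂ) = (m : ℂ) :=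
    fun ψ => exists_nat_classInner hχ (IsIrrCharacter.isCharacter ψ.2)
  choose m hm using key
  refine ⟨m, hm, ?_⟩
  have := classFunction_eq_sum (IsCharacter.isClassFunction hχ)
  conv_lhs => rw [this]
  exact Finset.sum_congr rfl (fun ψ _ => by rw [hm])

/-- A character of norm one is irreducible. -/
theorem isIrrCharacter_of_norm_one [Fintype G] {χ : G → ℂ} (hχ : IsCharacter G χ)
    (h1 : classInner χ χ = 1) : IsIrrCharacter G χ := by
  classical
  have : Fintype (IrrCharacter G) := Fintype.ofFinite _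
  obtain ⟨m, hm, hdec⟩ := exists_nat_decomp hχ
  have hnorm : classInner χ χ = ∑ ψ : IrrCharacter G, ((m ψ) ^ 2 : ℕ) := by
    conv_lhs => rw [hdec]
    rw [classInner_sum_left, Nat.cast_sum]
    refine Finset.sum_congr rfl (fun ψ _ => ?_)
    rw [classInner_smul_left, ← hdec, classInner_conj_symm, hm]
    simp [sq]
  rw [h1] at hnorm
  have hsum : ∑ ψ : IrrCharacter G, (m ψ) ^ 2 = 1 := by
    have : ((∑ ψ : IrrCharacter G, (m ψ) ^ 2 : ℕ) : ℂ) = ((1 : ℕ) : ℂ) := by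
      rw [Nat.cast_sum]
      simpa using hnorm.symm
    exact_mod_cast this
  have hne : ∑ ψ : IrrCharacter G, (m ψ) ^ 2 ≠ 0 := by rw [hsum]; exact one_ne_zero
  obtain ⟨ψ₀, -, hψ₀⟩ := Finset.exists_ne_zero_of_sum_ne_zero hne
  have hsplit := Finset.add_sum_erase Finset.univ (fun ψ : IrrCharacter G => (m ψ) ^ 2)
    (Finset.mem_univ ψ₀)
  rw [hsum] at hsplit
  have hm0 : m ψ₀ ≠ 0 := fun h => hψ₀ (by rw [h]; rfl)
  have hge : 1 ≤ (m ψ₀) ^ 2 := Nat.one_le_pow _ _ (Nat.pos_of_ne_zero hm0)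
  have hrest : ∑ ψ ∈ Finset.univ.erase ψ₀, (m ψ) ^ 2 = 0 := by omega
  have hm1 : (m ψ₀) ^ 2 = 1 := by omega
  have hm1' : m ψ₀ = 1 := by
    rcases Nat.eq_zero_or_pos (m ψ₀) with h | h
    · exact absurd h hm0
    · nlinarith
  have hzero : ∀ ψ : IrrCharacter G, ψ ≠ ψ₀ → m ψ = 0 := by
    intro ψ hψ
    have := (Finset.sum_eq_zero_iff.mp hrest) ψ (Finset.mem_erase.mpr ⟨hψ, Finset.mem_univ _⟩)
    exact pow_eq_zero_iff (two_ne_zero) |>.mp this
  have hχψ : χ = (ψ₀ : G → ℂ) := by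
    rw [hdec, Finset.sum_eq_single ψ₀]
    · rw [hm1']; simp
    · intro ψ _ hψ
      rw [hzero ψ hψ]; simp
    · intro h; exact absurd (Finset.mem_univ _) h
  rw [hχψ]
  exact ψ₀.2

end Cfsg.Agent.Lib.Helper15
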