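import Mathlib
import Cfsg.Prelude.Def_Characters

set_option autoImplicit false

namespace Cfsg.Agent.Lib.Helper15

open Cfsg

variable {G : Type*} [Group G]

/-- character of a representation on `Fin 1 → ℂ` is multiplicative. -/
theorem char_fin_one_mul (ρ : Representation ℂ G (Fin 1 → ℂ)) (a b : G) :
    ρ.character (a * b) = ρ.character a * ρ.character b := by
  have key : ∀ g : G, ρ.character g = (LinearMap.toMatrix' (ρ g)) 0 0 := by
    intro g
    unfold Representation.character
    rw [LinearMap.trace_eq_matrix_trace ℂ (Pi.basisFun ℂ (Fin 1)) (ρ g)]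
    rw [Matrix.trace_fin_one]
    rfl
  rw [key, key, key, map_mul, Module.End.mul_eq_comp, LinearMap.toMatrix'_comp, Matrix.mul_apply,
    Fin.sum_univ_one]

/-- A linear character (a character with value `1` at `1`) is multiplicative. -/
theorem linChar_mul {lam : G → ℂ} (h : IsCharacter G lam ∧ lam 1 = 1) (a b : G) :
    lam (a * b) = lam a * lam b := by
  obtain ⟨⟨n, ρ, rfl⟩, h1⟩ := h
  rw [Representation.char_one] at h1
  have hn : n = 1 := by
    simpa using h1
  subst hn
  exact char_fin_one_mul ρ a b

theorem linChar_ne_zero {lam : G → ℂ} (h : IsCharacter G lam ∧ lam 1 = 1) (a : G) :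
    lam a ≠ 0 := by
  intro h0
  have := linChar_mul h a a⁻¹
  rw [mul_inv_cancel, h.2, h0, zero_mul] at this
  exact one_ne_zero this

/-- The monoid hom to `ℂ` attached to a linear character. -/
noncomputable def linCharHom {lam : G → ℂ} (h : IsCharacter G lam ∧ lam 1 = 1) : G →* ℂ where
  toFun := lam
  map_one' := h.2
  map_mul' := linChar_mul h

@[simp] theorem linCharHom_apply {lam : G → ℂ} (h : IsCharacter G lam ∧ lam 1 = 1) (g : G) :
    linCharHom h g = lam g := rfl

/-- The hom to the units attached to a linear character. -/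
noncomputable def linCharUnitsHom {lam : G → ℂ} (h : IsCharacter G lam ∧ lam 1 = 1) : G →* ℂˣ :=
  (linCharHom h).toHomUnits

@[simp] theorem linCharUnitsHom_apply {lam : G → ℂ} (h : IsCharacter G lam ∧ lam 1 = 1) (g : G) :
    ((linCharUnitsHom h g : ℂˣ) : ℂ) = lam g := rfl

theorem linChar_inv {lam : G → ℂ} (h : IsCharacter G lam ∧ lam 1 = 1) (a : G) :
    lam a⁻¹ = (lam a)⁻¹ := by
  have := linChar_mul h a a⁻¹
  rw [mul_inv_cancel, h.2] at this
  exact eq_inv_of_mul_eq_one_right this.symm

theorem linChar_conj {lam : G → ℂ} (h : IsCharacter G lam ∧ lam 1 = 1) (a g : G) :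
    lam (g * a * g⁻¹) = lam a := by
  rw [linChar_mul h, linChar_mul h, linChar_inv h, mul_comm (lam g), mul_assoc,
    mul_inv_cancel₀ (linChar_ne_zero h g), mul_one]

/-- A monoid hom `G →* ℂ` is a linear character. -/
theorem isCharacter_of_hom (φ : G →* ℂ) : IsCharacter G (fun g => φ g) ∧ (fun g => φ g) 1 = 1 := by
  refine ⟨⟨1, ?_, ?_⟩, map_one φ⟩
  · exact
      { toFun := fun g => (φ g) • LinearMap.id
        map_one' := by simp [Module.End.one_eq_id]
        map_mul' := fun a b => by
          ext v i
          simp [mul_smul, Module.End.mul_eq_comp]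
          ring }
  · funext g
    unfold Representation.character
    simp

end Cfsg.Agent.Lib.Helper15
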