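import Mathlib
import Cfsg.Prelude.Def_Characters

set_option autoImplicit false

namespace Cfsg.Agent.Lib.Helper15

open Cfsg MulAction

variable {G : Type*} [Group G]

theorem extendByZero_one_apply (H : Subgroup G) [DecidablePred (· ∈ H)] (y : G) :
    extendByZero H (fun _ => (1 : ℂ)) y = if y ∈ H then 1 else 0 := by
  unfold extendByZero
  split_ifs with h
  · exact Subtype.val_injective.extend_apply (fun _ : H => (1 : ℂ)) 0 ⟨y, h⟩
  · rw [Function.extend_apply']
    · rfl
    · rintro ⟨a, rfl⟩
      exact h a.2

theorem conj_mem_iff_smul_eq (H : Subgroup G) (g x : G) :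
    x⁻¹ * g * x ∈ H ↔ g • (x : G ⧸ H) = (x : G ⧸ H) := by
  rw [MulAction.Quotient.smul_mk, QuotientGroup.eq, ← H.inv_mem_iff]
  simp [mul_assoc]

theorem card_conj_mem_eq [Finite G] (H : Subgroup G) (g : G) :
    Nat.card {x : G // x⁻¹ * g * x ∈ H} = Nat.card H * Nat.card {q : G ⧸ H // g • q = q} := by
  have := QuotientGroup.card_preimage_mk H {q : G ⧸ H | g • q = q}
  have e2 : Nat.card {q : G ⧸ H // g • q = q} = Nat.card ↑{q : G ⧸ H | g • q = q} := rfl
  rw [e2, ← this]
  apply Nat.card_congr
  refine Equiv.subtypeEquivRight (fun x => ?_)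
  rw [conj_mem_iff_smul_eq]
  rfl

/-- The function induced from the trivial character of `H` counts fixed points on `G ⧸ H`. -/
theorem indFun_one_eq_card_fixed [Fintype G] (H : Subgroup G) (g : G) :
    indFun H (fun _ => (1 : ℂ)) g = (Nat.card {q : G ⧸ H // g • q = q} : ℂ) := by
  classical
  unfold indFun
  simp only [extendByZero_one_apply]
  rw [Finset.sum_boole]
  have h1 : (Finset.univ.filter (fun x : G => x⁻¹ * g * x ∈ H)).card =
      Nat.card {x : G // x⁻¹ * g * x ∈ H} := by
    rw [Nat.card_eq_fintype_card, Fintype.card_subtype]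
  rw [h1, card_conj_mem_eq, Nat.cast_mul]
  have hH : (Nat.card H : ℂ) ≠ 0 := by
    exact_mod_cast Nat.card_pos.ne'
  field_simp

/-- fixed points inside one orbit correspond to fixed points on the coset space of the stabilizer -/
theorem card_fixed_orbit {X : Type*} [MulAction G X] (x₀ : X) (g : G) :
    Nat.card {x : X // x ∈ orbit G x₀ ∧ g • x = x} =
      Nat.card {q : G ⧸ stabilizer G x₀ // g • q = q} := by
  let e := orbitEquivQuotientStabilizer G x₀
  have key : ∀ y : orbit G x₀, g • (y : X) = y ↔ g • e y = e y := by
    intro y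
    obtain ⟨a, ha⟩ := QuotientGroup.mk_surjective (e y)
    have hy : (y : X) = a • x₀ := by
      have : y = e.symm (a : G ⧸ stabilizer G x₀) := by rw [ha, Equiv.symm_apply_apply]
      rw [this, orbitEquivQuotientStabilizer_symm_apply]
    rw [← ha, ← conj_mem_iff_smul_eq, mem_stabilizer_iff, hy, mul_smul, mul_smul]
    constructor
    · intro h; rw [h, inv_smul_smul]
    · intro h
      have := congrArg (fun z => a • z) h
      simpa using this
  calc Nat.card {x : X // x ∈ orbit G x₀ ∧ g • x = x}
      = Nat.card {y : orbit G x₀ // g • (y : X) = y} := by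
        apply Nat.card_congr
        exact
          { toFun := fun x => ⟨⟨x.1, x.2.1⟩, x.2.2⟩
            invFun := fun y => ⟨y.1.1, y.1.2, y.2⟩
            left_inv := fun x => rfl
            right_inv := fun y => rfl }
    _ = Nat.card {q : G ⧸ stabilizer G x₀ // g • q = q} :=
        Nat.card_congr (Equiv.subtypeEquiv e key)

/-- The number of fixed points of `g` on a finite `G`-set is the sum over orbits of the
fixed point numbers on the coset spaces of the stabilizers of chosen representatives. -/
theorem card_fixed_eq_sum {X : Type*} [Finite X] [MulAction G X] (g : G)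
    [Fintype (orbitRel.Quotient G X)]
    (r : orbitRel.Quotient G X → X) (hr : ∀ ω, Quotient.mk'' (r ω) = ω) :
    Nat.card {x : X // g • x = x} =
      ∑ ω : orbitRel.Quotient G X, Nat.card {q : G ⧸ stabilizer G (r ω) // g • q = q} := by
  classical
  have := Fintype.ofFinite X
  have h1 : Nat.card {x : X // g • x = x} = (Finset.univ.filter (fun x : X => g • x = x)).card := by
    rw [Nat.card_eq_fintype_card, Fintype.card_subtype]
  rw [h1, Finset.card_eq_sum_card_fiberwise (f := fun x : X => (Quotient.mk'' x : orbitRel.Quotient G X))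
    (t := Finset.univ) (fun x _ => Finset.mem_univ _)]
  refine Finset.sum_congr rfl (fun ω _ => ?_)
  rw [← card_fixed_orbit, Nat.card_eq_fintype_card, Fintype.card_subtype]
  congr 1
  ext x
  simp only [Finset.mem_filter, Finset.mem_univ, true_and]
  rw [and_comm]
  refine and_congr_left (fun _ => ?_)
  rw [← hr ω]
  rw [Quotient.eq'', orbitRel_apply, hr ω]

end Cfsg.Agent.Lib.Helper15
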