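import Mathlib
import Cfsg.Agent.Lib.Helper15.PermChar

set_option autoImplicit false

namespace Cfsg.Agent.Lib.Helper15

open Subgroup MulAction

variable {G : Type*} [Group G]

/-- `p'`-subgroups of `H` lie in `C` when `C ⊴ H` has `p`-power index. -/
theorem le_of_coprime_of_relIndex_pow [Finite G] {p : ℕ} (hp : p.Prime) {C H D : Subgroup G}
    (hCH : C ≤ H) (hHN : H ≤ normalizer (C : Set G)) {k : ℕ} (hk : C.relIndex H = p ^ k)
    (hDH : D ≤ H) (hD : Nat.Coprime (Nat.card D) p) : D ≤ C := by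
  have hnorm : (C.subgroupOf H).Normal := (normal_subgroupOf_iff_le_normalizer hCH).mpr hHN
  have h1 : (C.subgroupOf H).relIndex (D.subgroupOf H) ∣ (C.subgroupOf H).index :=
    relIndex_dvd_index_of_normal _ _
  rw [relIndex_subgroupOf hDH] at h1
  have h1' : C.relIndex D ∣ p ^ k := by
    rw [← hk]; exact h1
  have h2 : C.relIndex D ∣ Nat.card D := relIndex_dvd_card C D
  have h3 : C.relIndex D = 1 := by
    have hc : Nat.Coprime (Nat.card D) (p ^ k) := Nat.Coprime.pow_right k hD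
    exact Nat.eq_one_of_dvd_coprimes hc h2 h1'
  exact relIndex_eq_one.mp h3

/-- structure of `C ⊔ Q` for `Q` a Sylow `p`-subgroup of a subgroup `N` normalizing `C` -/
theorem relIndex_sup_sylow [Finite G] {p : ℕ} [Fact p.Prime] (C N : Subgroup G) (hCN : C ≤ N)
    (hNC : N ≤ normalizer (C : Set G)) (Q : Sylow p N) :
    ∃ k : ℕ, C.relIndex (C ⊔ (Q : Subgroup N).map N.subtype) = p ^ k := by
  have hnorm : (C.subgroupOf N).Normal := (normal_subgroupOf_iff_le_normalizer hCN).mpr hNC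
  have hQN : (Q : Subgroup N).map N.subtype ≤ N := map_subtype_le _
  have hHN : C ⊔ (Q : Subgroup N).map N.subtype ≤ N := sup_le hCN hQN
  rw [← relIndex_subgroupOf hHN, subgroupOf_sup hCN hQN]
  have : ((Q : Subgroup N).map N.subtype).subgroupOf N = (Q : Subgroup N) := by
    ext z
    simp [mem_subgroupOf]
  rw [this, relIndex_sup_left]
  have hdvd : (C.subgroupOf N).relIndex (Q : Subgroup N) ∣ Nat.card (Q : Subgroup N) :=
    relIndex_dvd_card _ _
  obtain ⟨j, hj⟩ := IsPGroup.iff_card.mp Q.isPGroup'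
  rw [hj] at hdvd
  obtain ⟨k, -, hk⟩ := (Nat.dvd_prime_pow (Fact.out : p.Prime)).mp hdvd
  exact ⟨k, hk⟩

theorem qe_mem_normalizer_of_conj_mem [Finite G] {p : ℕ} (hp : p.Prime) {H : Subgroup G} (y : G)
    (hCH : zpowers y ≤ H) (hHN : H ≤ normalizer (zpowers y : Set G)) {k : ℕ}
    (hk : (zpowers y).relIndex H = p ^ k)
    (hcop : Nat.Coprime (Nat.card (zpowers y)) p) (g : G) (hg : g⁻¹ * y * g ∈ H) :
    g ∈ normalizer (zpowers y : Set G) := by
  let φ : G →* G := (MulAut.conj g⁻¹).toMonoidHom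
  have hφ : ∀ h, φ h = g⁻¹ * h * g := fun h => by simp [φ]
  have hφinj : Function.Injective φ := (MulAut.conj g⁻¹).injective
  have hmap : (zpowers y).map φ = zpowers (g⁻¹ * y * g) := by
    rw [MonoidHom.map_zpowers, hφ]
  have hDH : (zpowers y).map φ ≤ H := by
    rw [hmap, zpowers_le]; exact hg
  have hcard : Nat.card ((zpowers y).map φ) = Nat.card (zpowers y) :=
    card_map_of_injective hφinj
  have hDC : (zpowers y).map φ ≤ zpowers y :=
    le_of_coprime_of_relIndex_pow hp hCH hHN hk hDH (by rw [hcard]; exact hcop)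
  have heq : (zpowers y).map φ = zpowers y := eq_of_le_of_card_ge hDC (by rw [hcard])
  rw [mem_normalizer_iff'']
  intro h
  rw [← hφ, ← mem_map_iff_mem hφinj (K := zpowers y), heq]

/-- the counting part -/
theorem not_dvd_card_fixed [Finite G] {p : ℕ} [Fact p.Prime] (x y c w : G) (a : ℕ)
    (hy : y = x ^ (p ^ a)) (hxcw : x = c * w) (hc : c ∈ zpowers y) (hw : w ^ (p ^ a) = 1)
    (hcop : Nat.Coprime (Nat.card (zpowers y)) p)
    (N : Subgroup G) (hN : N = normalizer (zpowers y : Set G))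
    (Q : Sylow p N)
    (hwQ : w ∈ (Q : Subgroup N).map N.subtype) :
    ¬ p ∣ Nat.card {q : G ⧸ (zpowers y ⊔ (Q : Subgroup N).map N.subtype) // x • q = q} := by
  classical
  have hp : p.Prime := Fact.out
  set C := zpowers y with hC
  set Q' := (Q : Subgroup N).map N.subtype with hQ'
  set H := C ⊔ Q' with hH
  have hCN : C ≤ N := hN ▸ le_normalizer
  have hNC : N ≤ normalizer (C : Set G) := hN.le
  have hQN : Q' ≤ N := map_subtype_le _
  have hHN : H ≤ N := sup_le hCN hQN
  have hCH : C ≤ H := le_sup_left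
  have hQH : Q' ≤ H := le_sup_right
  obtain ⟨k, hk⟩ := relIndex_sup_sylow C N hCN hNC Q
  have hwN : w ∈ N := hQN hwQ
  -- the set Y
  let Y : Set (G ⧸ H) := {q | ∃ g ∈ N, (g : G ⧸ H) = q}
  have hpre : (QuotientGroup.mk ⁻¹' Y : Set G) = (N : Set G) := by
    ext g
    simp only [Set.mem_preimage, Y, Set.mem_ofPred_eq, SetLike.mem_coe]
    constructor
    · rintro ⟨n, hn, hng⟩
      rw [QuotientGroup.eq] at hng
      have : g = n * (n⁻¹ * g) := by group
      rw [this]
      exact N.mul_mem hn (hHN hng)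
    · intro hg
      exact ⟨g, hg, rfl⟩
  have hcardN : Nat.card N = Nat.card H * Nat.card Y := by
    rw [← QuotientGroup.card_preimage_mk, hpre]
    rfl
  have hYnd : ¬ p ∣ Nat.card Y := by
    have hidx : ¬ p ∣ (Q : Subgroup N).index := Q.not_dvd_index
    have h1 : Nat.card (Q : Subgroup N) * (Q : Subgroup N).index = Nat.card N :=
      Subgroup.card_mul_index _
    have h2 : Nat.card Q' = Nat.card (Q : Subgroup N) :=
      card_map_of_injective N.subtype_injective
    have h3 : Nat.card Q' ∣ Nat.card H := card_dvd_of_le hQH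
    obtain ⟨t, ht⟩ := h3
    intro hdvd
    apply hidx
    have h4 : Nat.card Q' * (Q : Subgroup N).index = Nat.card Q' * (t * Nat.card Y) := by
      rw [h2, h1, hcardN, ht, h2, mul_assoc]
    have hpos : 0 < Nat.card Q' := Nat.card_pos
    have h5 := Nat.eq_of_mul_eq_mul_left hpos h4
    rw [h5]
    exact Dvd.dvd.mul_left hdvd t
  -- the p-group
  let P : Subgroup G := zpowers w
  have hPN : P ≤ N := by
    rw [zpowers_le]; exact hwN
  have hP : IsPGroup p P := by
    have h1 : orderOf w ∣ p ^ a := orderOf_dvd_of_pow_eq_one hw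
    obtain ⟨j, -, hj⟩ := (Nat.dvd_prime_pow hp).mp h1
    apply IsPGroup.of_card (n := j)
    rw [Nat.card_zpowers, hj]
  let Ysub : SubMulAction P (G ⧸ H) :=
    { carrier := Y
      smul_mem' := by
        rintro t q ⟨g, hg, rfl⟩
        exact ⟨(t : G) * g, N.mul_mem (hPN t.2) hg, rfl⟩ }
  have hcong := hP.card_modEq_card_fixedPoints Ysub
  -- c acts trivially on Y
  have hctriv : ∀ q ∈ Y, c • q = q := by
    rintro q ⟨g, hg, rfl⟩
    rw [MulAction.Quotient.smul_mk, QuotientGroup.eq, smul_eq_mul]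
    have h1 : g⁻¹ * c⁻¹ * g ∈ C := (mem_normalizer_iff''.mp (hNC hg) c⁻¹).mp (C.inv_mem hc)
    have : (c * g)⁻¹ * g = g⁻¹ * c⁻¹ * g := by group
    rw [this]
    exact hCH h1
  have hwY : ∀ q ∈ Y, w • q ∈ Y := by
    rintro q ⟨g, hg, rfl⟩
    exact ⟨w * g, N.mul_mem hwN hg, rfl⟩
  have hfixY : ∀ q : G ⧸ H, x • q = q → q ∈ Y := by
    intro q hq
    obtain ⟨g, rfl⟩ := QuotientGroup.mk_surjective q
    rw [← conj_mem_iff_smul_eq] at hq
    have h1 : g⁻¹ * y * g ∈ H := by
      have : g⁻¹ * y * g = (g⁻¹ * x * g) ^ (p ^ a) := by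
        have := conj_pow (a := g⁻¹) (b := x) (i := p ^ a)
        rw [inv_inv] at this
        rw [hy, this]
      rw [this]
      exact H.pow_mem hq _
    refine ⟨g, ?_, rfl⟩
    rw [hN]
    exact qe_mem_normalizer_of_conj_mem hp y hCH (hHN.trans hNC) hk hcop g h1
  have hxw : ∀ q ∈ Y, (x • q = q ↔ w • q = q) := by
    intro q hq
    rw [hxcw, mul_smul, hctriv _ (hwY q hq)]
  have e : MulAction.fixedPoints P Ysub ≃ {q : G ⧸ H // x • q = q} :=
    { toFun := fun z => ⟨z.1.1, (hxw z.1.1 z.1.2).mpr (by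
        have := congrArg Subtype.val (z.2 ⟨w, mem_zpowers w⟩)
        exact this)⟩
      invFun := fun q => ⟨⟨q.1, hfixY q.1 q.2⟩, by
        intro t
        apply Subtype.ext
        show (t : G) • q.1 = q.1
        have hw' : w ∈ stabilizer G q.1 := (hxw q.1 (hfixY q.1 q.2)).mp q.2
        have : P ≤ stabilizer G q.1 := by rw [zpowers_le]; exact hw'
        exact this t.2⟩
      left_inv := fun z => rfl
      right_inv := fun q => rfl }
  rw [← Nat.card_congr e]
  intro hdvd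
  apply hYnd
  have h1 : Nat.card Ysub ≡ 0 [MOD p] := hcong.trans (Nat.modEq_zero_iff_dvd.mpr hdvd)
  exact Nat.modEq_zero_iff_dvd.mp h1

theorem exists_quasi_elementary [Finite G] (x : G) (p : ℕ) [Fact p.Prime] :
    ∃ H C : Subgroup G, C ≤ H ∧ H ≤ normalizer (C : Set G) ∧ IsCyclic C ∧
      Nat.Coprime (Nat.card C) p ∧ (∃ k : ℕ, C.relIndex H = p ^ k) ∧
      ¬ p ∣ Nat.card {q : G ⧸ H // x • q = q} := by
  classical
  have hp : p.Prime := Fact.out
  have ho : orderOf x ≠ 0 := (orderOf_pos x).ne'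
  obtain ⟨a, m', hm', hom⟩ := Nat.exists_eq_pow_mul_and_not_dvd ho p hp.ne_one
  set y := x ^ (p ^ a) with hy
  have hpa : p ^ a ≠ 0 := pow_ne_zero _ hp.ne_zero
  have hordy : orderOf y = m' := by
    rw [hy, orderOf_pow_of_dvd hpa (by rw [hom]; exact dvd_mul_right _ _), hom,
      Nat.mul_div_cancel_left _ (Nat.pos_of_ne_zero hpa)]
  have hcardC : Nat.card (zpowers y) = m' := by rw [Nat.card_zpowers, hordy]
  have hcop : Nat.Coprime (Nat.card (zpowers y)) p := by
    rw [hcardC]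
    exact ((Nat.Prime.coprime_iff_not_dvd hp).mpr hm').symm
  -- Bezout
  have hcop2 : Nat.Coprime (p ^ a) m' :=
    Nat.Coprime.pow_left a ((Nat.Prime.coprime_iff_not_dvd hp).mpr hm')
  have hbez : ((p ^ a : ℕ) : ℤ) * Nat.gcdA (p ^ a) m' + (m' : ℤ) * Nat.gcdB (p ^ a) m' = 1 := by
    have := Nat.gcd_eq_gcd_ab (p ^ a) m'
    rw [hcop2] at this
    simpa using this.symm
  set u : ℤ := Nat.gcdA (p ^ a) m' with hu
  set v : ℤ := Nat.gcdB (p ^ a) m' with hv
  let c : G := x ^ (((p ^ a : ℕ) : ℤ) * u)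
  let w : G := x ^ ((m' : ℤ) * v)
  have hxcw : x = c * w := by
    show x = x ^ (((p ^ a : ℕ) : ℤ) * u) * x ^ ((m' : ℤ) * v)
    rw [← zpow_add, hbez, zpow_one]
  have hc : c ∈ zpowers y := by
    refine ⟨u, ?_⟩
    show (x ^ (p ^ a)) ^ u = x ^ (((p ^ a : ℕ) : ℤ) * u)
    rw [zpow_mul, zpow_natCast]
  have hw : w ^ (p ^ a) = 1 := by
    show (x ^ ((m' : ℤ) * v)) ^ (p ^ a) = 1
    rw [← zpow_natCast, ← zpow_mul]
    have : (m' : ℤ) * v * ((p ^ a : ℕ) : ℤ) = ((orderOf x : ℕ) : ℤ) * v := by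
      rw [hom]; push_cast; ring
    rw [this, zpow_mul, zpow_natCast, pow_orderOf_eq_one, one_zpow]
  set N := normalizer (zpowers y : Set G) with hN
  have hxN : x ∈ N := by
    apply centralizer_le_normalizer
    rw [mem_centralizer_iff]
    rintro h ⟨j, rfl⟩
    show (x ^ (p ^ a)) ^ j * x = x * (x ^ (p ^ a)) ^ j
    exact ((Commute.refl x).pow_left _).zpow_left j |>.eq
  have hwN : w ∈ N := N.zpow_mem hxN _
  -- Sylow subgroup containing w
  have hPw : IsPGroup p (zpowers (⟨w, hwN⟩ : N)) := by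
    have h1 : orderOf (⟨w, hwN⟩ : N) ∣ p ^ a := by
      apply orderOf_dvd_of_pow_eq_one
      apply Subtype.ext
      simpa using hw
    obtain ⟨j, -, hj⟩ := (Nat.dvd_prime_pow hp).mp h1
    apply IsPGroup.of_card (n := j)
    rw [Nat.card_zpowers, hj]
  obtain ⟨Q, hQ⟩ := hPw.exists_le_sylow
  have hwQ : w ∈ (Q : Subgroup N).map N.subtype := by
    refine ⟨⟨w, hwN⟩, hQ (mem_zpowers _), rfl⟩
  refine ⟨zpowers y ⊔ (Q : Subgroup N).map N.subtype, zpowers y, le_sup_left, ?_, ?_, hcop, ?_, ?_⟩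
  · exact sup_le le_normalizer (map_subtype_le _)
  · infer_instance
  · exact relIndex_sup_sylow (zpowers y) N le_normalizer le_rfl Q
  · exact not_dvd_card_fixed x y c w a hy hxcw hc hw hcop N hN Q hwQ

end Cfsg.Agent.Lib.Helper15
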