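import Mathlib
import Cfsg.Prelude.Def_ClassicalGeometry
import Cfsg.Prelude.Def_GeometricClasses
import Cfsg.Prelude.Def_Classical
import Cfsg.Agent.Lib.Helper5.HyDefs
import Cfsg.Agent.Lib.Helper81.OnDefs
import Cfsg.Agent.Lib.Helper8.OrthForms
import Cfsg.Agent.Lib.Helper8.InvolChar2

/-! # Definitions for the Hq hive (helper15): S5974, `PΩ⁺_{2d}(q)`, ALL `q`, on hyperbolic `m`-spaces.

Reused vocabulary: `Cfsg.Agent.Lib.Helper99.Nd`, `Cfsg.Agent.Lib.Helper2.BG.Inv`,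
`Cfsg.Agent.Lib.Helper48.Ti.Isom`/`TI`, `Cfsg.Agent.Lib.Helper5.Hy.Plus`/`Fixes`,
`Cfsg.Agent.Lib.Helper81.On.plusB`/`VP`, `Cfsg.Agent.Lib.Helper8.plusForm`/`IsInvIso`/`nilPart`. -/

set_option autoImplicit false

namespace Cfsg.Agent.Lib.Helper15.Hq

open Module

section defs

variable {F : Type*} [Field F]

/-- the frozen predicate of S5974: `W` is a hyperbolic `m`-space of `quadFormPlus d` -/
def IsHyp (d m : ℕ) (W : Submodule F (Fin d ⊕ Fin d → F)) : Prop :=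
  Module.finrank F ↥W = m ∧
    (∀ u ∈ W, u ≠ 0 → ∃ v ∈ W, QuadraticMap.polar (Cfsg.quadFormPlus d F) u v ≠ 0) ∧
    ∃ U : Submodule F (Fin d ⊕ Fin d → F), U ≤ W ∧ 2 * Module.finrank F ↥U = m ∧
      ∀ u ∈ U, Cfsg.quadFormPlus d F u = 0

/-- the linear map `t` leaves a hyperbolic `m`-space invariant -/
def FixHL (d m : ℕ) (t : (Fin d ⊕ Fin d → F) →ₗ[F] (Fin d ⊕ Fin d → F)) : Prop :=
  ∃ W : Submodule F (Fin d ⊕ Fin d → F), IsHyp d m W ∧ W.map t ≤ W

/-- the matrix `x` leaves a hyperbolic `m`-space invariant (the frozen conclusion of S5974) -/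
def FixH (d m : ℕ) (x : GL (Fin d ⊕ Fin d) F) : Prop :=
  FixHL d m (Matrix.toLin' (x : Matrix (Fin d ⊕ Fin d) (Fin d ⊕ Fin d) F))

/-- `x` is not a scalar matrix -/
def NonScal (d : ℕ) (x : GL (Fin d ⊕ Fin d) F) : Prop :=
  ∀ z : F, (x : Matrix (Fin d ⊕ Fin d) (Fin d ⊕ Fin d) F) ≠
    z • (1 : Matrix (Fin d ⊕ Fin d) (Fin d ⊕ Fin d) F)

/-- the coordinate subspace on the index set `S`: vectors supported on `inl i`, `inr i` with `i ∈ S` -/
def coordSub (d : ℕ) (S : Set (Fin d)) : Submodule F (Fin d ⊕ Fin d → F) where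
  carrier := {v | ∀ i, i ∉ S → v (Sum.inl i) = 0 ∧ v (Sum.inr i) = 0}
  add_mem' := by
    intro a b ha hb i hi
    simp only [Pi.add_apply, (ha i hi).1, (ha i hi).2, (hb i hi).1, (hb i hi).2, add_zero,
      and_self]
  zero_mem' := by
    intro i _
    simp
  smul_mem' := by
    intro c a ha i hi
    simp only [Pi.smul_apply, (ha i hi).1, (ha i hi).2, smul_zero, and_self]

theorem mem_coordSub {d : ℕ} {S : Set (Fin d)} {v : Fin d ⊕ Fin d → F} :
    v ∈ coordSub (F := F) d S ↔ ∀ i, i ∉ S → v (Sum.inl i) = 0 ∧ v (Sum.inr i) = 0 :=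
  Iff.rfl

end defs

end Cfsg.Agent.Lib.Helper15.Hq
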