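import Mathlib
import Cfsg.Prelude.Def_Transfer

set_option autoImplicit false

/-!
# S4016 hive: definitions

`G` finite, a Sylow `p`-subgroup cyclic, every `p'`-subgroup abelian  ⇒  `G` has a normal
`p`-complement or a normal Sylow `p`-subgroup.  Definitions shared by all leaves.
-/

namespace Cfsg.Agent.Lib.Helper15.CycSyl

universe u

/-- The hypotheses of S4016, in Sylow-free form. -/
def CycAb (p : ℕ) (G : Type*) [Group G] : Prop :=
  (∀ P : Sylow p G, IsCyclic (P : Subgroup G)) ∧
  ∀ H : Subgroup G, (Nat.card H).Coprime p → ∀ a ∈ H, ∀ b ∈ H, a * b = b * a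

/-- The conclusion of S4016: `p`-nilpotent or `p`-closed. -/
def Good (p : ℕ) (G : Type*) [Group G] : Prop :=
  Cfsg.HasNormalPComplement p G ∨ ∀ P : Sylow p G, (P : Subgroup G).Normal

/-- `X ≤ G` is `p`-closed, in ambient terms: a normal `p`-subgroup `Q` of `X` containing all
`p`-elements of `X`. -/
def PClosedSub (p : ℕ) {G : Type*} [Group G] (X : Subgroup G) : Prop :=
  ∃ Q : Subgroup G, Q ≤ X ∧ IsPGroup p Q ∧ X ≤ Subgroup.normalizer (Q : Set G) ∧
    ∀ g ∈ X, (∃ k : ℕ, g ^ p ^ k = 1) → g ∈ Q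

/-- The minimal counterexample, after the reduction to the simple case. -/
structure Setup (p : ℕ) (G : Type*) [Group G] : Prop where
  cyc : ∀ P : Sylow p G, IsCyclic (P : Subgroup G)
  ab : ∀ H : Subgroup G, (Nat.card H).Coprime p → ∀ a ∈ H, ∀ b ∈ H, a * b = b * a
  proper : ∀ X : Subgroup G, X ≠ ⊤ → Cfsg.HasNormalPComplement p ↥X ∨ PClosedSub p X
  simple : IsSimpleGroup G
  notnil : ¬ Cfsg.HasNormalPComplement p G
  notclosed : ∀ P : Sylow p G, ¬ (P : Subgroup G).Normal

/-- The local structure of the minimal counterexample (all consequences of `Setup`; proved by the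
planner from `Setup`, taken as a hypothesis bundle by the later leaves).
`N(P) = normalizer P`, `C(P) = centralizer P`. -/
structure Local (p : ℕ) (G : Type*) [Group G] : Prop extends Setup p G where
  /-- `N(P) ≠ C(P)` (else Burnside gives a normal `p`-complement). -/
  nc : ∀ P : Sylow p G, ¬ Subgroup.normalizer ((P : Subgroup G) : Set G) ≤
      Subgroup.centralizer ((P : Subgroup G) : Set G)
  /-- `N(P)` is a maximal subgroup. -/
  max : ∀ (P : Sylow p G) (X : Subgroup G), X ≠ ⊤ →
      Subgroup.normalizer ((P : Subgroup G) : Set G) ≤ X →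
      X = Subgroup.normalizer ((P : Subgroup G) : Set G)
  /-- `N(Q) = N(P)` for `1 ≠ Q ≤ P`. -/
  nsub : ∀ (P : Sylow p G) (Q : Subgroup G), Q ≤ (P : Subgroup G) → Q ≠ ⊥ →
      Subgroup.normalizer (Q : Set G) = Subgroup.normalizer ((P : Subgroup G) : Set G)
  /-- `P` is a TI-subgroup. -/
  ti : ∀ (P : Sylow p G) (g a : G), a ∈ (P : Subgroup G) → a ≠ 1 → g * a * g⁻¹ ∈ (P : Subgroup G) →
      g ∈ Subgroup.normalizer ((P : Subgroup G) : Set G)
  /-- a `p'`-element commuting with a nontrivial element of `P` centralizes `P`. -/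
  f1 : ∀ (P : Sylow p G) (v : G), v ∈ (P : Subgroup G) → v ≠ 1 → ∀ y : G, Commute y v →
      (orderOf y).Coprime p → y ∈ Subgroup.centralizer ((P : Subgroup G) : Set G)
  /-- the centralizer of a nontrivial `p'`-element of `C(P)` is `N(P)`. -/
  f2 : ∀ (P : Sylow p G) (x : G), x ∈ Subgroup.centralizer ((P : Subgroup G) : Set G) → x ≠ 1 →
      (orderOf x).Coprime p →
      Subgroup.centralizer ({x} : Set G) = Subgroup.normalizer ((P : Subgroup G) : Set G)
  /-- the `p'`-part of `C(P)` is TI with normalizer `N(P)`. -/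
  f3 : ∀ (P : Sylow p G) (g x : G), x ∈ Subgroup.centralizer ((P : Subgroup G) : Set G) → x ≠ 1 →
      (orderOf x).Coprime p → g * x * g⁻¹ ∈ Subgroup.centralizer ((P : Subgroup G) : Set G) →
      g ∈ Subgroup.normalizer ((P : Subgroup G) : Set G)
  /-- Burnside at `r ≠ p`: a `p`-element normalizing, not centralizing, a Sylow `r`-subgroup. -/
  burn : ∀ r : ℕ, r.Prime → r ≠ p → ∀ R : Sylow r G, (R : Subgroup G) ≠ ⊥ →
      ∃ u : G, u ∈ Subgroup.normalizer ((R : Subgroup G) : Set G) ∧
        u ∉ Subgroup.centralizer ((R : Subgroup G) : Set G) ∧ ∃ k : ℕ, u ^ p ^ k = 1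

/-- The configuration of the case `T = O_{p'}(C(P)) ≠ 1`: an abelian complement `L` of `P` in
`N(P)` with `C(L) ≤ L`, and a `p`-element `u ∉ N(P)` normalizing `L`. -/
structure TConf (p : ℕ) {G : Type*} [Group G] (P : Sylow p G) (L : Subgroup G) (u : G) : Prop where
  le : L ≤ Subgroup.normalizer ((P : Subgroup G) : Set G)
  inf : L ⊓ (P : Subgroup G) = ⊥
  sup : (P : Subgroup G) ⊔ L = Subgroup.normalizer ((P : Subgroup G) : Set G)
  cop : (Nat.card L).Coprime p
  self : Subgroup.centralizer (L : Set G) ≤ L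
  un : u ∈ Subgroup.normalizer (L : Set G)
  unot : u ∉ Subgroup.normalizer ((P : Subgroup G) : Set G)
  upow : ∃ k : ℕ, u ^ p ^ k = 1

end Cfsg.Agent.Lib.Helper15.CycSyl
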