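import Cfsg.Agent.Lib.Helper3.Decomp
import Cfsg.Agent.Lib.Helper3.CharOps
import Cfsg.Agent.Lib.Helper3.Complete
import Cfsg.Agent.Lib.Helper80.Schur
import Cfsg.Agent.Lib.Helper15.IrrCrit

set_option autoImplicit false

namespace Cfsg.Agent.Lib.Helper15

open Cfsg
open scoped ComplexConjugate

section RepLevel

variable {G : Type*} [Group G] {V : Type*} [AddCommGroup V] [Module ℂ V] [FiniteDimensional ℂ V]

/-- Restriction of a representation to a subgroup. -/
abbrev resRep (ρ : Representation ℂ G V) (N : Subgroup G) : Representation ℂ N V :=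
  MonoidHom.comp ρ N.subtype

omit [FiniteDimensional ℂ V] in
theorem resRep_apply (ρ : Representation ℂ G V) (N : Subgroup G) (n : N) :
    resRep ρ N n = ρ (n : G) := rfl

/-- Averaging an endomorphism over a subgroup acting irreducibly gives a scalar. -/
theorem sum_conj_eq_smul (ρ : Representation ℂ G V) (N : Subgroup G) [Fintype N]
    (hirr : (resRep ρ N).IsIrreducible) (A : V →ₗ[ℂ] V) :
    ∑ n : N, ρ n ∘ₗ A ∘ₗ ρ (n : G)⁻¹
      = (((Nat.card N : ℂ) / (Module.finrank ℂ V : ℂ)) * LinearMap.trace ℂ V A) • LinearMap.id := by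
  have := hirr
  have hcomm : ∀ m : N, (∑ n : N, ρ n ∘ₗ A ∘ₗ ρ (n : G)⁻¹) ∘ₗ (resRep ρ N) m
      = (resRep ρ N) m ∘ₗ (∑ n : N, ρ n ∘ₗ A ∘ₗ ρ (n : G)⁻¹) := by
    intro m
    show (∑ n : N, ρ n * (A * ρ (n : G)⁻¹)) * ρ (m : G) = ρ (m : G) * ∑ n : N, ρ n * (A * ρ (n : G)⁻¹)
    rw [Finset.sum_mul, Finset.mul_sum]
    refine Fintype.sum_equiv (Equiv.mulLeft m⁻¹) _ _ ?_
    intro n
    simp only [Equiv.coe_mulLeft, Subgroup.coe_mul, Subgroup.coe_inv, mul_inv_rev, inv_inv,
      map_mul]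
    have h1 : ρ (m : G) * ρ (m : G)⁻¹ = 1 := by rw [← map_mul, mul_inv_cancel, map_one]
    simp only [mul_assoc]
    rw [← mul_assoc (ρ (m : G)) (ρ (m : G)⁻¹), h1, one_mul]
  obtain ⟨c, hc⟩ := Cfsg.Agent.Lib.Helper80.schur_scalar (resRep ρ N) _ hcomm
  have hd : (Module.finrank ℂ V : ℂ) ≠ 0 :=
    Cfsg.Agent.Lib.Helper80.finrank_ne_zero_of_irreducible (resRep ρ N)
  have htr : LinearMap.trace ℂ V (∑ n : N, ρ n ∘ₗ A ∘ₗ ρ (n : G)⁻¹)
      = (Nat.card N : ℂ) * LinearMap.trace ℂ V A := by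
    rw [map_sum]
    have : ∀ n : N, LinearMap.trace ℂ V (ρ n ∘ₗ A ∘ₗ ρ (n : G)⁻¹) = LinearMap.trace ℂ V A := by
      intro n
      show LinearMap.trace ℂ V (ρ n * (A * ρ (n : G)⁻¹)) = _
      rw [LinearMap.trace_mul_comm, mul_assoc, ← map_mul, inv_mul_cancel, map_one, mul_one]
    rw [Finset.sum_congr rfl (fun n _ => this n)]
    simp [Nat.card_eq_fintype_card]
  rw [hc] at htr ⊢
  rw [map_smul, LinearMap.trace_id, smul_eq_mul] at htr
  congr 1
  field_simp
  rw [← htr]

/-- Coset orthogonality, representation level: if `ρ` restricted to `N` is irreducible then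
`∑_{n ∈ N} χ((n g)⁻¹) χ(n g) = |N|` for every `g`. -/
theorem coset_sum_rep (ρ : Representation ℂ G V) (N : Subgroup G) [Fintype N]
    (hirr : (resRep ρ N).IsIrreducible) (g : G) :
    ∑ n : N, ρ.character ((n : G) * g)⁻¹ * ρ.character ((n : G) * g) = Nat.card N := by
  have := hirr
  have hd : (Module.finrank ℂ V : ℂ) ≠ 0 :=
    Cfsg.Agent.Lib.Helper80.finrank_ne_zero_of_irreducible (resRep ρ N)
  have hL : ∀ x, (Representation.linHom ρ ρ).character x = ρ.character x⁻¹ * ρ.character x :=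
    fun x => Representation.char_linHom ρ ρ x
  simp_rw [← hL]
  unfold Representation.character
  simp_rw [map_mul]
  rw [← map_sum, ← Finset.sum_mul]
  have key : (∑ n : N, Representation.linHom ρ ρ (n : G)) * Representation.linHom ρ ρ g
      = (((Nat.card N : ℂ) / (Module.finrank ℂ V : ℂ)) • LinearMap.trace ℂ V).smulRight
        LinearMap.id := by
    apply LinearMap.ext
    intro A
    rw [Module.End.mul_apply, LinearMap.sum_apply]
    simp only [Representation.linHom_apply]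
    rw [sum_conj_eq_smul ρ N hirr]
    rw [LinearMap.smulRight_apply, LinearMap.smul_apply, smul_eq_mul]
    congr 2
    show LinearMap.trace ℂ V (ρ g * (A * ρ g⁻¹)) = _
    rw [LinearMap.trace_mul_comm, mul_assoc, ← map_mul, inv_mul_cancel, map_one, mul_one]
  rw [key, LinearMap.trace_smulRight, LinearMap.smul_apply, LinearMap.trace_id, smul_eq_mul]
  field_simp

/-- For an irreducible representation and a normal subgroup `N`: either `N` acts trivially, or
the sum of the operators of `N` vanishes. -/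
theorem normal_sum_rep (ρ : Representation ℂ G V) (hρ : ρ.IsIrreducible) (N : Subgroup G)
    [N.Normal] [Fintype N] :
    (∀ n : N, ρ (n : G) = 1) ∨ ∑ n : N, ρ (n : G) = 0 := by
  have := hρ
  have hcomm : ∀ g : G, (∑ n : N, ρ (n : G)) ∘ₗ ρ g = ρ g ∘ₗ (∑ n : N, ρ (n : G)) := by
    intro g
    show (∑ n : N, ρ (n : G)) * ρ g = ρ g * ∑ n : N, ρ (n : G)
    rw [Finset.sum_mul, Finset.mul_sum]
    refine Fintype.sum_equiv (MulAut.conjNormal g⁻¹ : MulAut N).toEquiv _ _ ?_
    intro n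
    rw [← map_mul, ← map_mul]
    congr 1
    simp [mul_assoc]
  obtain ⟨c, hc⟩ := Cfsg.Agent.Lib.Helper80.schur_scalar ρ _ hcomm
  by_cases h0 : c = 0
  · right
    rw [hc, h0, zero_smul]
  · left
    intro m
    have h1 : ρ (m : G) * ∑ n : N, ρ (n : G) = ∑ n : N, ρ (n : G) := by
      rw [Finset.mul_sum]
      exact Fintype.sum_equiv (Equiv.mulLeft m) _ _ (fun n => by simp [map_mul])
    rw [hc] at h1
    have h2 : c • ρ (m : G) = c • (1 : V →ₗ[ℂ] V) := by
      rw [mul_smul_comm] at h1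
      exact h1
    exact smul_right_injective _ h0 h2

end RepLevel

section CharLevel

variable {G : Type*} [Group G] [Fintype G]

/-- If `χ ∈ Irr(G)` restricts irreducibly to `N`, an affording representation restricts
irreducibly. -/
theorem resRep_irreducible {n : ℕ} (ρ : Representation ℂ G (Fin n → ℂ)) (N : Subgroup G)
    (hN : IsIrrCharacter N (fun x : N => ρ.character x)) : (resRep ρ N).IsIrreducible := by
  classical
  have : Fintype N := Fintype.ofFinite N
  obtain ⟨d, σ, hσ, hchar⟩ := hN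
  have h1 : σ.character = (resRep ρ N).character := by
    rw [hchar]
    rfl
  obtain ⟨φ⟩ := Cfsg.Agent.Lib.Helper3.nonempty_equiv_of_character_eq σ (resRep ρ N) h1
  exact Cfsg.Agent.Lib.Helper3.isIrreducible_of_equiv φ hσ

/-- Coset orthogonality: if `χ ∈ Irr(G)` restricts irreducibly to the subgroup `N`, then
`∑_{n ∈ N} |χ(n g)|² = |N|` for every `g`. -/
theorem coset_sum_norm (N : Subgroup G) [Fintype N] {χ : G → ℂ} (hχ : IsIrrCharacter G χ)
    (hχN : IsIrrCharacter N (fun n : N => χ n)) (g : G) :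
    ∑ n : N, χ ((n : G) * g) * conj (χ ((n : G) * g)) = Nat.card N := by
  obtain ⟨d, ρ, hρ, rfl⟩ := hχ
  have hirr := resRep_irreducible ρ N hχN
  have h := coset_sum_rep ρ N hirr g
  rw [← h]
  refine Finset.sum_congr rfl (fun n _ => ?_)
  rw [Cfsg.Agent.Lib.Helper3.character_inv ρ, mul_comm]

omit [Fintype G] in
/-- For `φ ∈ Irr(G)` and `N` normal: either `φ` is constant on cosets of `N`, or all its coset sums
vanish. -/
theorem coset_sum_irr (N : Subgroup G) [N.Normal] [Fintype N] {φ : G → ℂ}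
    (hφ : IsIrrCharacter G φ) :
    (∀ (n : N) (g : G), φ ((n : G) * g) = φ g) ∨ ∀ g : G, ∑ n : N, φ ((n : G) * g) = 0 := by
  obtain ⟨d, ρ, hρ, rfl⟩ := hφ
  rcases normal_sum_rep ρ hρ N with h | h
  · left
    intro n g
    unfold Representation.character
    rw [map_mul, h, one_mul]
  · right
    intro g
    unfold Representation.character
    simp_rw [map_mul]
    rw [← map_sum, ← Finset.sum_mul, h, zero_mul, map_zero]

theorem sum_coset_avg (N : Subgroup G) [Fintype N] (f : G → ℂ) :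
    ∑ g : G, ∑ n : N, f ((n : G) * g) = (Nat.card N : ℂ) * ∑ g : G, f g := by
  rw [Finset.sum_comm]
  have : ∀ n : N, ∑ g : G, f ((n : G) * g) = ∑ g : G, f g :=
    fun n => Fintype.sum_equiv (Equiv.mulLeft (n : G)) _ _ (fun _ => rfl)
  simp [this, Nat.card_eq_fintype_card]

theorem card_ne_zero_complex (N : Subgroup G) : (Nat.card N : ℂ) ≠ 0 := by
  have : 0 < Nat.card N := Nat.card_pos
  exact_mod_cast this.ne'

/-- If `a` is constant on the cosets of `N` and `χ ∈ Irr(G)` restricts irreducibly to `N`, then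
`∑ a |χ|² = ∑ a`. -/
theorem sum_mul_normSq (N : Subgroup G) [Fintype N] {χ : G → ℂ} (hχ : IsIrrCharacter G χ)
    (hχN : IsIrrCharacter N (fun n : N => χ n)) (a : G → ℂ)
    (ha : ∀ (n : N) (g : G), a ((n : G) * g) = a g) :
    ∑ g : G, a g * (χ g * conj (χ g)) = ∑ g : G, a g := by
  have hN0 := card_ne_zero_complex N
  have h1 := sum_coset_avg N (fun g => a g * (χ g * conj (χ g)))
  have h2 : ∀ g : G, ∑ n : N, a ((n : G) * g) * (χ ((n : G) * g) * conj (χ ((n : G) * g)))
      = (Nat.card N : ℂ) * a g := by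
    intro g
    simp_rw [ha]
    rw [← Finset.mul_sum, coset_sum_norm N hχ hχN g, mul_comm]
  simp only [h2] at h1
  rw [← Finset.mul_sum] at h1
  exact (mul_left_cancel₀ hN0 h1).symm

/-- Inner products of products with an extension: `[aχ, bχ] = [a, b]` when `a conj b` is constant
on cosets of `N`. -/
theorem classInner_mul_ext (N : Subgroup G) [Fintype N] {χ : G → ℂ} (hχ : IsIrrCharacter G χ)
    (hχN : IsIrrCharacter N (fun n : N => χ n)) (a b : G → ℂ)
    (ha : ∀ (n : N) (g : G), a ((n : G) * g) = a g)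
    (hb : ∀ (n : N) (g : G), b ((n : G) * g) = b g) :
    classInner (a * χ) (b * χ) = classInner a b := by
  unfold classInner
  congr 1
  have := sum_mul_normSq N hχ hχN (fun g => a g * conj (b g)) (by
    intro n g
    simp only [ha, hb])
  rw [← this]
  refine Finset.sum_congr rfl (fun g _ => ?_)
  simp only [Pi.mul_apply, map_mul]
  ring

/-- Gallagher, part 1: `φχ` is irreducible for `φ ∈ Irr(G)` constant on cosets of `N`. -/
theorem isIrrCharacter_mul_ext (N : Subgroup G) [Fintype N] {χ : G → ℂ} (hχ : IsIrrCharacter G χ)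
    (hχN : IsIrrCharacter N (fun n : N => χ n)) {φ : G → ℂ} (hφ : IsIrrCharacter G φ)
    (hφN : ∀ (n : N) (g : G), φ ((n : G) * g) = φ g) : IsIrrCharacter G (φ * χ) := by
  apply isIrrCharacter_of_norm_one
  · exact Cfsg.Agent.Lib.Helper3.IsCharacter.mul
      (Cfsg.Agent.Lib.Helper3.IsIrrCharacter.isCharacter hφ)
      (Cfsg.Agent.Lib.Helper3.IsIrrCharacter.isCharacter hχ)
  · rw [classInner_mul_ext N hχ hχN φ φ hφN hφN, Cfsg.Agent.Lib.Helper3.classInner_irr hφ hφ,
      if_pos rfl]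

/-- Gallagher, part 2: `φ ↦ φχ` is injective. -/
theorem mul_ext_injective (N : Subgroup G) [Fintype N] {χ : G → ℂ} (hχ : IsIrrCharacter G χ)
    (hχN : IsIrrCharacter N (fun n : N => χ n)) {φ φ' : G → ℂ} (hφ : IsIrrCharacter G φ)
    (hφN : ∀ (n : N) (g : G), φ ((n : G) * g) = φ g) (hφ' : IsIrrCharacter G φ')
    (hφ'N : ∀ (n : N) (g : G), φ' ((n : G) * g) = φ' g) (h : φ * χ = φ' * χ) : φ = φ' := by
  by_contra hne
  have h1 := classInner_mul_ext N hχ hχN φ φ' hφN hφ'N
  have h2 := classInner_mul_ext N hχ hχN φ φ hφN hφN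
  rw [Cfsg.Agent.Lib.Helper3.classInner_irr hφ hφ', if_neg hne] at h1
  rw [Cfsg.Agent.Lib.Helper3.classInner_irr hφ hφ, if_pos rfl] at h2
  rw [← h, h2] at h1
  exact one_ne_zero h1

/-- The coset average of `ψ conj χ`. -/
noncomputable def cosetAvg (N : Subgroup G) [Fintype N] (ψ χ : G → ℂ) : G → ℂ :=
  fun g => (Nat.card N : ℂ)⁻¹ * ∑ n : N, ψ ((n : G) * g) * conj (χ ((n : G) * g))

/-- Expansion of the coset average of `ψ conj χ` in terms of the irreducible characters that are
constant on cosets of `N`. -/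
theorem cosetAvg_eq_sum (N : Subgroup G) [N.Normal] [Fintype N] [Fintype (IrrCharacter G)]
    [DecidablePred (fun φ : IrrCharacter G => ∀ (n : N) (g : G), (φ : G → ℂ) ((n : G) * g) = (φ : G → ℂ) g)]
    {χ ψ : G → ℂ} (hχ : IsCharacter G χ) (hψ : IsClassFunction G ψ) :
    cosetAvg N ψ χ = ∑ φ ∈ Finset.univ.filter
        (fun φ : IrrCharacter G => ∀ (n : N) (g : G), (φ : G → ℂ) ((n : G) * g) = (φ : G → ℂ) g),
      classInner ψ ((φ : G → ℂ) * χ) • (φ : G → ℂ) := by
  have hN0 := card_ne_zero_complex N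
  have hF : IsClassFunction G (fun g => ψ g * conj (χ g)) := by
    intro g x
    have := Cfsg.Agent.Lib.Helper3.IsCharacter.isClassFunction hχ g x
    simp only [hψ g x, this]
  have hexp := Cfsg.Agent.Lib.Helper3.classFunction_eq_sum hF
  have hcoef : ∀ φ : IrrCharacter G, classInner (fun g => ψ g * conj (χ g)) (φ : G → ℂ)
      = classInner ψ ((φ : G → ℂ) * χ) := by
    intro φ
    unfold classInner
    congr 1
    refine Finset.sum_congr rfl (fun g _ => ?_)
    simp only [Pi.mul_apply, map_mul]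
    ring
  funext g
  have hg : ∀ x : G, ψ x * conj (χ x)
      = ∑ φ : IrrCharacter G, classInner ψ ((φ : G → ℂ) * χ) * (φ : G → ℂ) x := by
    intro x
    have := congrFun hexp x
    simp only [Finset.sum_apply, Pi.smul_apply, smul_eq_mul, hcoef] at this
    exact this
  unfold cosetAvg
  simp_rw [hg]
  rw [Finset.sum_comm, Finset.mul_sum, Finset.sum_apply, Finset.sum_filter]
  refine Finset.sum_congr rfl (fun φ _ => ?_)
  rw [← Finset.mul_sum]
  split_ifs with hφ
  · simp_rw [hφ]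
    simp only [Finset.sum_const, Finset.card_univ, nsmul_eq_mul, Pi.smul_apply, smul_eq_mul]
    rw [← Nat.card_eq_fintype_card]
    field_simp
  · rcases coset_sum_irr N φ.2 with h | h
    · exact absurd h hφ
    · rw [h g, mul_zero, mul_zero]

omit [Fintype G] in
theorem cosetAvg_one (N : Subgroup G) [Fintype N] (ψ χ : G → ℂ) :
    cosetAvg N ψ χ 1 = classInner (fun n : N => ψ n) (fun n : N => χ n) := by
  unfold cosetAvg classInner
  simp only [mul_one]

/-- The coset average of `ψ conj χ` for irreducible `ψ`: it is either an irreducible character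
`φ` (constant on cosets of `N`) with `ψ = φ χ`, or zero. -/
theorem cosetAvg_irr (N : Subgroup G) [N.Normal] [Fintype N] {χ ψ : G → ℂ}
    (hχ : IsIrrCharacter G χ) (hχN : IsIrrCharacter N (fun n : N => χ n))
    (hψ : IsIrrCharacter G ψ) :
    (∃ φ : G → ℂ, IsIrrCharacter G φ ∧ (∀ (n : N) (g : G), φ ((n : G) * g) = φ g) ∧ ψ = φ * χ ∧
      cosetAvg N ψ χ = φ) ∨ cosetAvg N ψ χ = 0 := by
  classical
  have : Fintype (IrrCharacter G) := Fintype.ofFinite _
  rw [cosetAvg_eq_sum N (Cfsg.Agent.Lib.Helper3.IsIrrCharacter.isCharacter hχ)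
    (Cfsg.Agent.Lib.Helper3.IsCharacter.isClassFunction
      (Cfsg.Agent.Lib.Helper3.IsIrrCharacter.isCharacter hψ))]
  by_cases h : ∃ φ : IrrCharacter G,
      (∀ (n : N) (g : G), (φ : G → ℂ) ((n : G) * g) = (φ : G → ℂ) g) ∧ ψ = (φ : G → ℂ) * χ
  · left
    obtain ⟨φ₀, hφ₀N, hφ₀⟩ := h
    refine ⟨φ₀, φ₀.2, hφ₀N, hφ₀, ?_⟩
    rw [Finset.sum_eq_single φ₀]
    · rw [hφ₀, classInner_mul_ext N hχ hχN _ _ hφ₀N hφ₀N,
        Cfsg.Agent.Lib.Helper3.classInner_irr φ₀.2 φ₀.2, if_pos rfl, one_smul]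
    · intro φ hφ hne
      rw [Finset.mem_filter] at hφ
      rw [hφ₀, classInner_mul_ext N hχ hχN _ _ hφ₀N hφ.2,
        Cfsg.Agent.Lib.Helper3.classInner_irr φ₀.2 φ.2, if_neg, zero_smul]
      intro heq
      exact hne (Subtype.ext heq.symm)
    · intro hnot
      exact absurd (Finset.mem_filter.2 ⟨Finset.mem_univ _, hφ₀N⟩) hnot
  · right
    apply Finset.sum_eq_zero
    intro φ hφ
    rw [Finset.mem_filter] at hφ
    rw [Cfsg.Agent.Lib.Helper3.classInner_irr hψ (isIrrCharacter_mul_ext N hχ hχN φ.2 hφ.2),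
      if_neg, zero_smul]
    intro heq
    exact h ⟨φ, hφ.2, heq⟩

/-- Gallagher, part 3: every irreducible `ψ` of `G` lying over `χ_N` is `φ χ` for an irreducible
`φ` constant on cosets of `N`. -/
theorem exists_mul_ext (N : Subgroup G) [N.Normal] [Fintype N] {χ ψ : G → ℂ}
    (hχ : IsIrrCharacter G χ) (hχN : IsIrrCharacter N (fun n : N => χ n))
    (hψ : IsIrrCharacter G ψ)
    (hne : classInner (fun n : N => ψ n) (fun n : N => χ n) ≠ 0) :
    ∃ φ : G → ℂ, IsIrrCharacter G φ ∧ (∀ (n : N) (g : G), φ ((n : G) * g) = φ g) ∧ ψ = φ * χ ∧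
      cosetAvg N ψ χ = φ := by
  rcases cosetAvg_irr N hχ hχN hψ with h | h
  · exact h
  · exfalso
    apply hne
    rw [← cosetAvg_one, h]
    rfl

end CharLevel

end Cfsg.Agent.Lib.Helper15
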