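import Mathlib
import Cfsg.Agent.Lib.Helper76.CentralChar
import Cfsg.Agent.Lib.Helper3.CharOps
import Cfsg.Agent.Lib.Helper25.IndNormal

set_option autoImplicit false
set_option linter.unusedSectionVars false

/-!
# Translating a character by a central element

For a character `ψ` of `D`, a central element `z` of `D`, a homomorphism `j : C → D` and
`β ∈ Irr(C)`: the inner products `[ψ(j(·) z), β]` and `[ψ ∘ j, β]` are `∑ mᵢ ωᵢ` and `∑ mᵢ` for
natural numbers `mᵢ` and roots of unity `ωᵢ`.
-/

namespace Cfsg.Agent.Lib.Helper15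

open Cfsg
open scoped ComplexConjugate

universe u

section GlaubCentral

variable {D : Type u} [Group D] [Fintype D] {C : Type u} [Group C] [Fintype C]

theorem om_pow_eq_one (η : IrrCharacter D) {z : D} (hz : z ∈ Subgroup.center D) :
    Cfsg.Agent.Lib.Helper76.om η z ^ orderOf z = 1 := by
  have h : ∀ k : ℕ, Cfsg.Agent.Lib.Helper76.om η (z ^ k) = Cfsg.Agent.Lib.Helper76.om η z ^ k := by
    intro k
    induction k with
    | zero => rw [pow_zero, pow_zero, Cfsg.Agent.Lib.Helper76.om_one]
    | succ k ih => rw [pow_succ, pow_succ, Cfsg.Agent.Lib.Helper76.om_mul η _ _ hz, ih]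
  rw [← h, pow_orderOf_eq_one, Cfsg.Agent.Lib.Helper76.om_one]

theorem isIntegral_om (η : IrrCharacter D) {z : D} (hz : z ∈ Subgroup.center D) :
    IsIntegral ℤ (Cfsg.Agent.Lib.Helper76.om η z) := by
  apply IsIntegral.of_pow (orderOf_pos z)
  rw [om_pow_eq_one η hz]
  exact isIntegral_one

theorem classInner_sum_left {ι : Type*} (s : Finset ι) (f : ι → C → ℂ) (β : C → ℂ) :
    classInner (fun c => ∑ i ∈ s, f i c) β = ∑ i ∈ s, classInner (f i) β := by
  unfold classInner
  simp only [Finset.sum_mul]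
  rw [Finset.sum_comm, Finset.mul_sum]

theorem classInner_const_mul_left (k : ℂ) (f β : C → ℂ) :
    classInner (fun c => k * f c) β = k * classInner f β := by
  unfold classInner
  simp only [mul_assoc]
  rw [← Finset.mul_sum]
  ring

/-- the decomposition -/
theorem central_decomp [Fintype (IrrCharacter D)] (j : C →* D) {z : D} (hz : z ∈ Subgroup.center D)
    {ψ : D → ℂ} (hψ : IsCharacter D ψ) {β : C → ℂ} (hβ : IsIrrCharacter C β) :
    ∃ (m : IrrCharacter D → ℕ) (ω : IrrCharacter D → ℂ), (∀ η, IsIntegral ℤ (ω η)) ∧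
      classInner (fun c => ψ (j c * z)) β = ∑ η : IrrCharacter D, (m η : ℂ) * ω η ∧
      classInner (fun c => ψ (j c)) β = ∑ η : IrrCharacter D, (m η : ℂ) := by
  classical
  obtain ⟨n, -, hn⟩ := Cfsg.Agent.Lib.Helper3.IsCharacter.exists_mult hψ
  have hk : ∀ η : IrrCharacter D, ∃ k : ℕ, classInner (fun c => (η : D → ℂ) (j c)) β = (k : ℂ) :=
    fun η => Cfsg.Agent.Lib.Helper3.IsCharacter.classInner_irr_nat
      (Cfsg.Agent.Lib.Helper25.IsCharacter.comp_hom j
        (Cfsg.Agent.Lib.Helper3.IsIrrCharacter.isCharacter η.2)) hβ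
  choose k hk using hk
  refine ⟨fun η => n η * k η, fun η => Cfsg.Agent.Lib.Helper76.om η z,
    fun η => isIntegral_om η hz, ?_, ?_⟩
  · have h1 : (fun c => ψ (j c * z)) = fun c => ∑ η : IrrCharacter D,
        ((n η : ℂ) * Cfsg.Agent.Lib.Helper76.om η z) * (η : D → ℂ) (j c) := by
      funext c
      rw [hn]
      simp only [Finset.sum_apply, Pi.smul_apply, smul_eq_mul]
      refine Finset.sum_congr rfl fun η _ => ?_
      rw [Cfsg.Agent.Lib.Helper76.irr_mul_central' η z hz]
      ring
    rw [h1, classInner_sum_left]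
    refine Finset.sum_congr rfl fun η _ => ?_
    rw [classInner_const_mul_left, hk]
    push_cast
    ring
  · have h1 : (fun c => ψ (j c)) = fun c => ∑ η : IrrCharacter D,
        (n η : ℂ) * (η : D → ℂ) (j c) := by
      funext c
      rw [hn]
      simp only [Finset.sum_apply, Pi.smul_apply, smul_eq_mul]
    rw [h1, classInner_sum_left]
    refine Finset.sum_congr rfl fun η _ => ?_
    rw [classInner_const_mul_left, hk]
    push_cast
    ring

/-- integrality -/
theorem isIntegral_classInner_central (j : C →* D) {z : D} (hz : z ∈ Subgroup.center D)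
    {ψ : D → ℂ} (hψ : IsCharacter D ψ) {β : C → ℂ} (hβ : IsIrrCharacter C β) :
    IsIntegral ℤ (classInner (fun c => ψ (j c * z)) β) := by
  classical
  have := Fintype.ofFinite (IrrCharacter D)
  obtain ⟨m, ω, hω, h1, -⟩ := central_decomp j hz hψ hβ
  rw [h1]
  refine IsIntegral.sum _ fun η _ => ?_
  have h2 : IsIntegral ℤ ((m η : ℕ) : ℂ) := by
    have := isIntegral_algebraMap (R := ℤ) (A := ℂ) (x := (m η : ℤ))
    simpa using this
  exact IsIntegral.mul h2 (hω η)

/-- constituents -/
theorem classInner_ne_zero_of_central (j : C →* D) {z : D} (hz : z ∈ Subgroup.center D)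
    {ψ : D → ℂ} (hψ : IsCharacter D ψ) {β : C → ℂ} (hβ : IsIrrCharacter C β)
    (hne : classInner (fun c => ψ (j c * z)) β ≠ 0) :
    classInner (fun c => ψ (j c)) β ≠ 0 := by
  classical
  have := Fintype.ofFinite (IrrCharacter D)
  obtain ⟨m, ω, -, h1, h2⟩ := central_decomp j hz hψ hβ
  intro h0
  rw [h2] at h0
  apply hne
  rw [h1]
  have h3 : ∀ η : IrrCharacter D, m η = 0 := by
    have h4 : ((∑ η : IrrCharacter D, m η : ℕ) : ℂ) = 0 := by
      rw [← h0]; push_cast; rfl
    have h5 : ∑ η : IrrCharacter D, m η = 0 := by exact_mod_cast h4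
    intro η
    exact (Finset.sum_eq_zero_iff.1 h5) η (Finset.mem_univ _)
  apply Finset.sum_eq_zero
  intro η _
  rw [h3 η]
  simp

end GlaubCentral

end Cfsg.Agent.Lib.Helper15
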