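import Mathlib
import Cfsg.Prelude.Def_Characters
import Cfsg.Agent.Lib.Helper3.CharBasic
import Cfsg.Agent.Lib.Helper3.CharOps
import Cfsg.Agent.Lib.Helper3.Complete
import Cfsg.Agent.Lib.Helper79.Basic
import Cfsg.Agent.Lib.Helper25.IndNormal
import Cfsg.Agent.Lib.Helper15.GlaubCentral

set_option autoImplicit false
set_option linter.unusedSectionVars false

/-!
# Abstract form of a Glauberman-type correspondence `Irr_inv(K) ↔ Irr(C)` modulo `p`
-/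

namespace Cfsg.Agent.Lib.Helper15

open Cfsg
open scoped ComplexConjugate

universe u

section Transport

variable {H K : Type u} [Group H] [Group K]

/-- pull back an irreducible character along an isomorphism -/
def irrComp (e : H ≃* K) (θ : IrrCharacter K) : IrrCharacter H :=
  ⟨fun h => (θ : K → ℂ) (e h),
    Cfsg.Agent.Lib.Helper79.isIrrCharacter_comp_surjective θ.2 e.toMonoidHom e.surjective⟩

@[simp] theorem irrComp_apply (e : H ≃* K) (θ : IrrCharacter K) (h : H) :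
    (irrComp e θ : H → ℂ) h = (θ : K → ℂ) (e h) := rfl

theorem irrComp_symm_irrComp (e : H ≃* K) (θ : IrrCharacter K) :
    irrComp e.symm (irrComp e θ) = θ := by
  apply Subtype.ext
  funext k
  simp

theorem irrComp_irrComp_symm (e : H ≃* K) (θ : IrrCharacter H) :
    irrComp e (irrComp e.symm θ) = θ := by
  apply Subtype.ext
  funext k
  simp

theorem irrComp_injective (e : H ≃* K) : Function.Injective (irrComp e) := by
  intro θ θ' h
  rw [← irrComp_symm_irrComp e θ, h, irrComp_symm_irrComp]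

theorem classInner_comp_equiv [Fintype H] [Fintype K] (e : H ≃* K) (φ ψ : K → ℂ) :
    classInner (fun h => φ (e h)) (fun h => ψ (e h)) = classInner φ ψ := by
  unfold classInner
  rw [Nat.card_congr e.toEquiv]
  congr 1
  exact Equiv.sum_comp e.toEquiv (fun k => φ k * conj (ψ k))

end Transport

/-- The abstract correspondence. -/
structure GlaubData (p : ℕ) {K Cg : Type u} [Group K] [Group Cg] [Fintype Cg] (i : Cg →* K)
    (Inv : (K → ℂ) → Prop) : Prop where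
  ex : ∀ θ : IrrCharacter K, Inv θ → ∃ (β : IrrCharacter Cg) (ε : ℤ), (ε = 1 ∨ ε = -1) ∧
      ∀ β' : IrrCharacter Cg, ∃ m : ℕ,
        classInner (fun c => (θ : K → ℂ) (i c)) (β' : Cg → ℂ) = (m : ℂ) ∧
        (β' = β → (m : ℤ) ≡ ε [ZMOD p]) ∧ (β' ≠ β → p ∣ m)
  inj : ∀ θ θ' : IrrCharacter K, Inv θ → Inv θ' → ∀ (β : IrrCharacter Cg) (m m' : ℕ),
      classInner (fun c => (θ : K → ℂ) (i c)) (β : Cg → ℂ) = (m : ℂ) → ¬ p ∣ m →
      classInner (fun c => (θ' : K → ℂ) (i c)) (β : Cg → ℂ) = (m' : ℂ) → ¬ p ∣ m' → θ = θ'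
  surj : ∀ β : IrrCharacter Cg, ∃ θ : IrrCharacter K, Inv θ ∧ ∃ m : ℕ,
      classInner (fun c => (θ : K → ℂ) (i c)) (β : Cg → ℂ) = (m : ℂ) ∧ ¬ p ∣ m

theorem not_dvd_of_modEq_sign {p : ℕ} (hp : p.Prime) {m : ℕ} {ε : ℤ} (hε : ε = 1 ∨ ε = -1)
    (h : (m : ℤ) ≡ ε [ZMOD p]) : ¬ p ∣ m := by
  intro hd
  have h1 : (p : ℤ) ∣ (m : ℤ) := by exact_mod_cast hd
  have h2 : (p : ℤ) ∣ ε := (Int.ModEq.dvd_iff h).1 h1
  have h3 : (p : ℤ) ∣ 1 := by
    rcases hε with rfl | rfl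
    · exact h2
    · exact (Int.dvd_neg).1 h2
  have h4 : p ∣ 1 := by exact_mod_cast h3
  exact hp.one_lt.ne' (Nat.dvd_one.1 h4)

section Basic

variable {p : ℕ} {K Cg : Type u} [Group K] [Group Cg] [Fintype Cg] {i : Cg →* K}
  {Inv : (K → ℂ) → Prop}

/-- a "good" `β` is the correspondent -/
theorem GlaubData.exists_corr (hp : p.Prime) (D : GlaubData p i Inv) (θ : IrrCharacter K)
    (hθ : Inv θ) :
    ∃ (β : IrrCharacter Cg) (ε : ℤ) (n : ℕ), (ε = 1 ∨ ε = -1) ∧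
      classInner (fun c => (θ : K → ℂ) (i c)) (β : Cg → ℂ) = (n : ℂ) ∧ (n : ℤ) ≡ ε [ZMOD p] ∧
      ¬ p ∣ n ∧
      (∀ (β' : IrrCharacter Cg) (m : ℕ),
        classInner (fun c => (θ : K → ℂ) (i c)) (β' : Cg → ℂ) = (m : ℂ) → β' ≠ β → p ∣ m) := by
  obtain ⟨β, ε, hε, h⟩ := D.ex θ hθ
  obtain ⟨n, hn, hn1, -⟩ := h β
  refine ⟨β, ε, n, hε, hn, hn1 rfl, not_dvd_of_modEq_sign hp hε (hn1 rfl), ?_⟩
  intro β' m hm hne
  obtain ⟨m', hm', -, hm2⟩ := h β'
  have : m = m' := by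
    have : (m : ℂ) = (m' : ℂ) := by rw [← hm, ← hm']
    exact_mod_cast this
  rw [this]
  exact hm2 hne

end Basic

section TransportData

variable {p : ℕ} {K K' Cg Cg' : Type u} [Group K] [Group K'] [Group Cg] [Group Cg'] [Fintype Cg]
  [Fintype Cg']

theorem GlaubData.transport (eK : K' ≃* K) (eC : Cg' ≃* Cg) (i : Cg →* K) (i' : Cg' →* K')
    (hi : ∀ c', eK (i' c') = i (eC c')) (Inv : (K → ℂ) → Prop) (Inv' : (K' → ℂ) → Prop)
    (hInv : ∀ θ : IrrCharacter K, Inv θ ↔ Inv' (irrComp eK θ : K' → ℂ))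
    (D : GlaubData p i Inv) : GlaubData p i' Inv' := by
  have hinner : ∀ (θ : IrrCharacter K) (β : IrrCharacter Cg),
      classInner (fun c' => (irrComp eK θ : K' → ℂ) (i' c')) (irrComp eC β : Cg' → ℂ)
        = classInner (fun c => (θ : K → ℂ) (i c)) (β : Cg → ℂ) := by
    intro θ β
    rw [← classInner_comp_equiv eC]
    congr 1
    funext c'
    simp only [irrComp_apply]
    rw [hi]
  have hK : ∀ θ' : IrrCharacter K', ∃ θ : IrrCharacter K, irrComp eK θ = θ' :=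
    fun θ' => ⟨irrComp eK.symm θ', irrComp_irrComp_symm eK θ'⟩
  have hC : ∀ β' : IrrCharacter Cg', ∃ β : IrrCharacter Cg, irrComp eC β = β' :=
    fun β' => ⟨irrComp eC.symm β', irrComp_irrComp_symm eC β'⟩
  constructor
  · intro θ' hθ'
    obtain ⟨θ, rfl⟩ := hK θ'
    obtain ⟨β, ε, hε, h⟩ := D.ex θ ((hInv θ).2 hθ')
    refine ⟨irrComp eC β, ε, hε, ?_⟩
    intro β'
    obtain ⟨β'', rfl⟩ := hC β'
    obtain ⟨m, hm, hm1, hm2⟩ := h β''
    refine ⟨m, by rw [hinner]; exact hm, ?_, ?_⟩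
    · intro heq
      exact hm1 (irrComp_injective eC heq)
    · intro hne
      exact hm2 (fun heq => hne (by rw [heq]))
  · intro θ₁ θ₂ h₁ h₂ β' m m' hm hm1 hm' hm1'
    obtain ⟨θ, rfl⟩ := hK θ₁
    obtain ⟨θ', rfl⟩ := hK θ₂
    obtain ⟨β, rfl⟩ := hC β'
    rw [hinner] at hm hm'
    rw [D.inj θ θ' ((hInv θ).2 h₁) ((hInv θ').2 h₂) β m m' hm hm1 hm' hm1']
  · intro β'
    obtain ⟨β, rfl⟩ := hC β'
    obtain ⟨θ, hθ, m, hm, hm1⟩ := D.surj β
    exact ⟨irrComp eK θ, (hInv θ).1 hθ, m, by rw [hinner]; exact hm, hm1⟩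

end TransportData

section Comp

variable {p : ℕ} {K E C : Type u} [Group K] [Group E] [Group C] [Fintype E] [Fintype C]

theorem natCast_eq_of_complex {a b : ℕ} {z : ℂ} (ha : z = (a : ℂ)) (hb : z = (b : ℂ)) : a = b := by
  have : (a : ℂ) = (b : ℂ) := by rw [← ha, ← hb]
  exact_mod_cast this

/-- the composite correspondence, in detail -/
theorem GlaubData.comp_detail (hp : p.Prime) (i₁ : E →* K) (i₂ : C →* E) (αK : K ≃* K)
    (αE : E ≃* E) (hα : ∀ e, i₁ (αE e) = αK (i₁ e)) (InvT : (K → ℂ) → Prop)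
    (D₁ : GlaubData p i₁ InvT)
    (D₂ : GlaubData p i₂ (fun η : E → ℂ => ∀ e, η (αE e) = η e))
    (θ : IrrCharacter K) (hθT : InvT θ) (hθα : ∀ k, (θ : K → ℂ) (αK k) = (θ : K → ℂ) k) :
    ∃ (η₀ : IrrCharacter E) (β₀ : IrrCharacter C) (n k : ℕ) (ε : ℤ),
      (∀ e, (η₀ : E → ℂ) (αE e) = (η₀ : E → ℂ) e) ∧
      classInner (fun e => (θ : K → ℂ) (i₁ e)) (η₀ : E → ℂ) = (n : ℂ) ∧ ¬ p ∣ n ∧
      (∀ (η' : IrrCharacter E) (m : ℕ),
        classInner (fun e => (θ : K → ℂ) (i₁ e)) (η' : E → ℂ) = (m : ℂ) → η' ≠ η₀ → p ∣ m) ∧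
      classInner (fun c => (η₀ : E → ℂ) (i₂ c)) (β₀ : C → ℂ) = (k : ℂ) ∧ ¬ p ∣ k ∧
      (∀ (β' : IrrCharacter C) (m : ℕ),
        classInner (fun c => (η₀ : E → ℂ) (i₂ c)) (β' : C → ℂ) = (m : ℂ) → β' ≠ β₀ → p ∣ m) ∧
      (ε = 1 ∨ ε = -1) ∧
      ∀ β' : IrrCharacter C, ∃ m : ℕ,
        classInner (fun c => (θ : K → ℂ) (i₁ (i₂ c))) (β' : C → ℂ) = (m : ℂ) ∧
        (β' = β₀ → (m : ℤ) ≡ ε [ZMOD p]) ∧ (β' ≠ β₀ → p ∣ m) := by
  classical
  have : Fintype (IrrCharacter E) := Fintype.ofFinite _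
  obtain ⟨η₀, ε₁, n, hε₁, hn, hn1, hnd, hother₁⟩ := D₁.exists_corr hp θ hθT
  -- `η₀` is fixed
  have hfix : ∀ e, (η₀ : E → ℂ) (αE e) = (η₀ : E → ℂ) e := by
    by_contra hne
    have hne' : irrComp αE η₀ ≠ η₀ := by
      intro h
      apply hne
      intro e
      have := congrArg (fun x : IrrCharacter E => (x : E → ℂ) e) h
      simpa using this
    have h1 : classInner (fun e => (θ : K → ℂ) (i₁ e)) (irrComp αE η₀ : E → ℂ) = (n : ℂ) := by
      rw [← hn, ← classInner_comp_equiv αE (fun e => (θ : K → ℂ) (i₁ e)) (η₀ : E → ℂ)]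
      congr 1
      funext e
      rw [hα, hθα]
    exact hnd (hother₁ _ n h1 hne')
  obtain ⟨β₀, ε₂, k, hε₂, hk, hk1, hkd, hother₂⟩ := D₂.exists_corr hp η₀ hfix
  refine ⟨η₀, β₀, n, k, ε₁ * ε₂, hfix, hn, hnd, hother₁, hk, hkd, hother₂, ?_, ?_⟩
  · rcases hε₁ with rfl | rfl <;> rcases hε₂ with rfl | rfl <;> simp
  -- the expansion
  have hχE : IsCharacter E (fun e => (θ : K → ℂ) (i₁ e)) :=
    Cfsg.Agent.Lib.Helper25.IsCharacter.comp_hom i₁
      (Cfsg.Agent.Lib.Helper3.IsIrrCharacter.isCharacter θ.2)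
  obtain ⟨mult, hmult, hexp⟩ := Cfsg.Agent.Lib.Helper3.IsCharacter.exists_mult hχE
  have hmultn : mult η₀ = n := natCast_eq_of_complex (hmult η₀) hn
  intro β'
  have hkk : ∀ η : IrrCharacter E, ∃ kk : ℕ,
      classInner (fun c => (η : E → ℂ) (i₂ c)) (β' : C → ℂ) = (kk : ℂ) :=
    fun η => Cfsg.Agent.Lib.Helper3.IsCharacter.classInner_irr_nat
      (Cfsg.Agent.Lib.Helper25.IsCharacter.comp_hom i₂
        (Cfsg.Agent.Lib.Helper3.IsIrrCharacter.isCharacter η.2)) β'.2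
  choose kk hkk using hkk
  have hsum : classInner (fun c => (θ : K → ℂ) (i₁ (i₂ c))) (β' : C → ℂ)
      = ((∑ η : IrrCharacter E, mult η * kk η : ℕ) : ℂ) := by
    have h1 : (fun c => (θ : K → ℂ) (i₁ (i₂ c)))
        = fun c => ∑ η : IrrCharacter E, (mult η : ℂ) * (η : E → ℂ) (i₂ c) := by
      funext c
      have := congrFun hexp (i₂ c)
      simp only [Finset.sum_apply, Pi.smul_apply, smul_eq_mul] at this
      exact this
    rw [h1, classInner_sum_left]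
    push_cast
    refine Finset.sum_congr rfl fun η _ => ?_
    rw [classInner_const_mul_left, hkk]
  have hrest : p ∣ ∑ η ∈ Finset.univ.erase η₀, mult η * kk η := by
    apply Finset.dvd_sum
    intro η hη
    have hne : η ≠ η₀ := Finset.ne_of_mem_erase hη
    exact Dvd.dvd.mul_right (hother₁ η (mult η) (hmult η) hne) _
  have hsplit : ∑ η : IrrCharacter E, mult η * kk η
      = n * kk η₀ + ∑ η ∈ Finset.univ.erase η₀, mult η * kk η := by
    rw [← hmultn]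
    exact (Finset.add_sum_erase Finset.univ (fun η => mult η * kk η) (Finset.mem_univ η₀)).symm
  refine ⟨∑ η : IrrCharacter E, mult η * kk η, hsum, ?_, ?_⟩
  · intro hβ
    subst hβ
    have hkk0 : kk η₀ = k := natCast_eq_of_complex (hkk η₀) hk
    rw [hsplit, hkk0]
    obtain ⟨q, hq⟩ := hrest
    rw [hq]
    push_cast
    have h2 : (n : ℤ) * (k : ℤ) ≡ ε₁ * ε₂ [ZMOD p] := Int.ModEq.mul hn1 hk1
    have h3 : (n : ℤ) * (k : ℤ) + (p : ℤ) * (q : ℤ) ≡ (n : ℤ) * (k : ℤ) [ZMOD p] := by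
      have : (p : ℤ) * (q : ℤ) ≡ 0 [ZMOD p] := by
        exact (Int.modEq_zero_iff_dvd).2 (Dvd.intro _ rfl)
      have h4 := Int.ModEq.add_left ((n : ℤ) * (k : ℤ)) this
      rwa [add_zero] at h4
    exact h3.trans h2
  · intro hβ
    rw [hsplit]
    exact Dvd.dvd.add (Dvd.dvd.mul_left (hother₂ β' (kk η₀) (hkk η₀) hβ) _) hrest

/-- the composite correspondence -/
theorem GlaubData.comp (hp : p.Prime) (i₁ : E →* K) (i₂ : C →* E) (αK : K ≃* K)
    (αE : E ≃* E) (hα : ∀ e, i₁ (αE e) = αK (i₁ e)) (InvT : (K → ℂ) → Prop)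
    (hInvT : ∀ θ : IrrCharacter K, InvT θ → InvT (irrComp αK θ : K → ℂ))
    (D₁ : GlaubData p i₁ InvT)
    (D₂ : GlaubData p i₂ (fun η : E → ℂ => ∀ e, η (αE e) = η e)) :
    GlaubData p (i₁.comp i₂) (fun θ : K → ℂ => InvT θ ∧ ∀ k, θ (αK k) = θ k) := by
  constructor
  · intro θ hθ
    obtain ⟨η₀, β₀, n, k, ε, -, -, -, -, -, -, -, hε, h⟩ :=
      D₁.comp_detail hp i₁ i₂ αK αE hα InvT D₂ θ hθ.1 hθ.2
    exact ⟨β₀, ε, hε, h⟩
  · intro θ θ' hθ hθ' β m m' hm hmd hm' hmd'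
    obtain ⟨η₀, β₀, n, k, ε, hfix, hn, hnd, -, hk, hkd, -, -, h⟩ :=
      D₁.comp_detail hp i₁ i₂ αK αE hα InvT D₂ θ hθ.1 hθ.2
    obtain ⟨η₀', β₀', n', k', ε', hfix', hn', hnd', -, hk', hkd', -, -, h'⟩ :=
      D₁.comp_detail hp i₁ i₂ αK αE hα InvT D₂ θ' hθ'.1 hθ'.2
    have hβ : β = β₀ := by
      by_contra hne
      obtain ⟨m₁, hm₁, -, hd⟩ := h β
      have : m = m₁ := natCast_eq_of_complex hm hm₁
      exact hmd (this ▸ hd hne)
    have hβ' : β = β₀' := by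
      by_contra hne
      obtain ⟨m₁, hm₁, -, hd⟩ := h' β
      have : m' = m₁ := natCast_eq_of_complex hm' hm₁
      exact hmd' (this ▸ hd hne)
    subst hβ
    subst hβ'
    have hη : η₀ = η₀' := D₂.inj η₀ η₀' hfix hfix' β k k' hk hkd hk' hkd'
    subst hη
    exact D₁.inj θ θ' hθ.1 hθ'.1 η₀ n n' hn hnd hn' hnd'
  · intro β
    obtain ⟨η, hηfix, k, hk, hkd⟩ := D₂.surj β
    obtain ⟨θ, hθT, n, hn, hnd⟩ := D₁.surj η
    have hθα : ∀ x, (θ : K → ℂ) (αK x) = (θ : K → ℂ) x := by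
      have h1 : classInner (fun e => (irrComp αK θ : K → ℂ) (i₁ e)) (η : E → ℂ) = (n : ℂ) := by
        rw [← hn, ← classInner_comp_equiv αE (fun e => (θ : K → ℂ) (i₁ e)) (η : E → ℂ)]
        congr 1
        · funext e
          rw [hα]
          rfl
        · funext e
          exact (hηfix e).symm
      have h2 := D₁.inj (irrComp αK θ) θ (hInvT θ hθT) hθT η n n h1 hnd hn hnd
      intro x
      have := congrArg (fun y : IrrCharacter K => (y : K → ℂ) x) h2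
      simpa using this
    refine ⟨θ, ⟨hθT, hθα⟩, ?_⟩
    obtain ⟨η₀, β₀, n', k', ε, -, -, -, hother₁, -, -, hother₂, hε, h⟩ :=
      D₁.comp_detail hp i₁ i₂ αK αE hα InvT D₂ θ hθT hθα
    have hη : η = η₀ := by
      by_contra hne
      exact hnd (hother₁ η n hn hne)
    subst hη
    have hβ : β = β₀ := by
      by_contra hne
      exact hkd (hother₂ β k hk hne)
    subst hβ
    obtain ⟨m, hm, hm1, -⟩ := h β
    exact ⟨m, hm, not_dvd_of_modEq_sign hp hε (hm1 rfl)⟩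

end Comp

end Cfsg.Agent.Lib.Helper15
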