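import Mathlib
import Cfsg.Agent.Lib.Helper25.Ind
import Cfsg.Agent.Lib.Helper38.Mackey
import Cfsg.Agent.Lib.Helper3.IndAlg

/-!
# Induction from a supplement of a normal subgroup

If `M ◁ G` and `M H = G`, then `(Ind_H^G ϑ)(g) = |M ∩ H|⁻¹ ∑_{m ∈ M} ϑ°(m⁻¹ g m)` for a class
function `ϑ` of `H`, together with some bookkeeping lemmas about sums over subgroups.
-/

set_option autoImplicit false

namespace Cfsg.Agent.Lib.Helper15

open Cfsg
open scoped ComplexConjugate

variable {G : Type*} [Group G]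

/-- Elements of `M ⊔ H` with `M` normal are products. -/
theorem exists_mul_of_sup_eq_top (M H : Subgroup G) [M.Normal] (hMH : M ⊔ H = ⊤) (x : G) :
    ∃ m ∈ M, ∃ h ∈ H, m * h = x := by
  have hx : x ∈ ((M ⊔ H : Subgroup G) : Set G) := by rw [hMH]; trivial
  rw [Subgroup.normal_mul] at hx
  obtain ⟨m, hm, h, hh, rfl⟩ := Set.mem_mul.1 hx
  exact ⟨m, hm, h, hh, rfl⟩

/-- The fibres of the multiplication map `M × H → G` have `|M ∩ H|` elements. -/
theorem card_mul_fiber (M H : Subgroup G) [M.Normal] (hMH : M ⊔ H = ⊤) (x : G) :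
    Nat.card {p : M × H // (p.1 : G) * (p.2 : G) = x} = Nat.card (M ⊓ H : Subgroup G) := by
  obtain ⟨m₀, hm₀, h₀, hh₀, rfl⟩ := exists_mul_of_sup_eq_top M H hMH x
  refine (Nat.card_congr ?_).symm
  refine
    { toFun := fun k => ⟨(⟨m₀ * (k : G), M.mul_mem hm₀ (Subgroup.mem_inf.1 k.2).1⟩,
        ⟨(k : G)⁻¹ * h₀, H.mul_mem (H.inv_mem (Subgroup.mem_inf.1 k.2).2) hh₀⟩), by
          simp [mul_assoc]⟩
      invFun := fun p => ⟨m₀⁻¹ * (p.1.1 : G), Subgroup.mem_inf.2 ⟨M.mul_mem (M.inv_mem hm₀) p.1.1.2, by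
          have h := p.2
          have h2 : m₀⁻¹ * (p.1.1 : G) = h₀ * (p.1.2 : G)⁻¹ := by
            rw [inv_mul_eq_iff_eq_mul, ← mul_assoc]
            exact eq_mul_inv_of_mul_eq h
          rw [h2]
          exact H.mul_mem hh₀ (H.inv_mem p.1.2.2)⟩⟩
      left_inv := fun k => by
        apply Subtype.ext
        simp
      right_inv := fun p => by
        apply Subtype.ext
        have h := p.2
        apply Prod.ext
        · apply Subtype.ext
          simp
        · apply Subtype.ext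
          simp only
          have h2 : (p.1.2 : G) = (p.1.1 : G)⁻¹ * (m₀ * h₀) := eq_inv_mul_of_mul_eq h
          rw [h2]
          simp [mul_assoc] }

/-- Summing over `M × H` along the multiplication map. -/
theorem sum_prod_mul [Fintype G] (M H : Subgroup G) [M.Normal] [Fintype M] [Fintype H] (hMH : M ⊔ H = ⊤) (F : G → ℂ) :
    ∑ m : M, ∑ h : H, F ((m : G) * (h : G))
      = (Nat.card (M ⊓ H : Subgroup G) : ℂ) * ∑ x : G, F x := by
  classical
  rw [← Finset.sum_product', Finset.univ_product_univ]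
  rw [← Fintype.sum_fiberwise (fun p : M × H => (p.1 : G) * (p.2 : G))
    (fun p : M × H => F ((p.1 : G) * (p.2 : G)))]
  rw [Finset.mul_sum]
  refine Finset.sum_congr rfl (fun x _ => ?_)
  have h1 : ∀ a : {p : M × H // (p.1 : G) * (p.2 : G) = x},
      F ((a.1.1 : G) * (a.1.2 : G)) = F x := fun a => by rw [a.2]
  rw [Finset.sum_congr rfl (fun a _ => h1 a), Finset.sum_const, Finset.card_univ,
    ← Nat.card_eq_fintype_card, card_mul_fiber M H hMH x, nsmul_eq_mul]

/-- **Mackey for a supplement of a normal subgroup.** -/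
theorem indFun_eq_sum_of_sup_eq_top [Fintype G] (M H : Subgroup G) [M.Normal] [Fintype M] (hMH : M ⊔ H = ⊤)
    (ϑ : H → ℂ) (hϑ : IsClassFunction H ϑ) (g : G) :
    indFun H ϑ g = (Nat.card (M ⊓ H : Subgroup G) : ℂ)⁻¹ *
      ∑ m : M, extendByZero H ϑ ((m : G)⁻¹ * g * (m : G)) := by
  classical
  haveI : Fintype H := Fintype.ofFinite _
  have hD : (Nat.card (M ⊓ H : Subgroup G) : ℂ) ≠ 0 := by
    have : 0 < Nat.card (M ⊓ H : Subgroup G) := Nat.card_pos
    exact_mod_cast this.ne'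
  have hH : (Nat.card H : ℂ) ≠ 0 := by
    have : 0 < Nat.card H := Nat.card_pos
    exact_mod_cast this.ne'
  have key := sum_prod_mul M H hMH (fun x => extendByZero H ϑ (x⁻¹ * g * x))
  have h1 : ∀ (m : M) (h : H), extendByZero H ϑ (((m : G) * (h : G))⁻¹ * g * ((m : G) * (h : G)))
      = extendByZero H ϑ ((m : G)⁻¹ * g * (m : G)) := by
    intro m h
    have := Cfsg.Agent.Lib.Helper38.extendByZero_conj_mem H ϑ hϑ h⁻¹ ((m : G)⁻¹ * g * (m : G))
    rw [← this]
    congr 1
    simp [mul_assoc]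
  simp only [h1, Finset.sum_const, Finset.card_univ, nsmul_eq_mul] at key
  rw [← Finset.mul_sum, ← Nat.card_eq_fintype_card] at key
  unfold indFun
  rw [eq_comm, inv_mul_eq_iff_eq_mul₀ hD, ← mul_assoc, mul_comm _ ((Nat.card H : ℂ)⁻¹), mul_assoc,
    ← key, ← mul_assoc, inv_mul_cancel₀ hH, one_mul]

/-- Sum over a subgroup as a filtered sum over the group. -/
theorem sum_subgroup_eq_sum_filter [Fintype G] (A : Subgroup G) [Fintype A] [DecidablePred (· ∈ A)]
    {R : Type*} [AddCommMonoid R]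
    (F : G → R) : ∑ a : A, F (a : G) = ∑ g ∈ Finset.univ.filter (· ∈ A), F g := by
  rw [eq_comm]
  exact Finset.sum_subtype (Finset.univ.filter (· ∈ A)) (fun x => by simp) F

/-- A sum over `A` of an extension by zero from `H` is a sum over `A ⊓ H = B`. -/
theorem sum_extendByZero_mul [Fintype G] (A H B : Subgroup G) [Fintype A] [Fintype B] (hAB : A ⊓ H = B) (hBH : B ≤ H)
    (ϑ : H → ℂ) (c : G → ℂ) :
    ∑ a : A, extendByZero H ϑ (a : G) * c (a : G) = ∑ b : B, ϑ ⟨(b : G), hBH b.2⟩ * c (b : G) := by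
  classical
  rw [sum_subgroup_eq_sum_filter A (fun g => extendByZero H ϑ g * c g)]
  have hsub : Finset.univ.filter (· ∈ B) ⊆ Finset.univ.filter (· ∈ A) := by
    intro x hx
    simp only [Finset.mem_filter, Finset.mem_univ, true_and] at hx ⊢
    rw [← hAB] at hx
    exact (Subgroup.mem_inf.1 hx).1
  rw [← Finset.sum_subset hsub]
  · have : ∑ b : B, ϑ ⟨(b : G), hBH b.2⟩ * c (b : G)
        = ∑ b : B, (fun g => extendByZero H ϑ g * c g) (b : G) := by
      refine Finset.sum_congr rfl (fun b _ => ?_)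
      simp only
      rw [Cfsg.Agent.Lib.Helper25.extendByZero_of_mem H ϑ (hBH b.2)]
    rw [this, sum_subgroup_eq_sum_filter B (fun g => extendByZero H ϑ g * c g)]
  · intro x hxA hxB
    simp only [Finset.mem_filter, Finset.mem_univ, true_and] at hxA hxB
    have hxH : x ∉ H := fun h => hxB (hAB ▸ Subgroup.mem_inf.2 ⟨hxA, h⟩)
    rw [Cfsg.Agent.Lib.Helper25.extendByZero_of_not_mem H ϑ hxH, zero_mul]

end Cfsg.Agent.Lib.Helper15
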