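import Cfsg.Agent.Lib.Helper15.ProjExt
import Cfsg.Agent.Lib.Helper15.Gallagher
import Cfsg.Agent.Lib.Helper79.CenterIndex

set_option autoImplicit false
set_option linter.unusedSectionVars false

namespace Cfsg.Agent.Lib.Helper15

open Cfsg Cfsg.Agent.S0886
open scoped IsMulCommutative

section Cover

variable {G : Type*} [Group G] [Finite G] (N : Subgroup G) [hN : N.Normal]
  {V : Type*} [AddCommGroup V] [Module ℂ V] [FiniteDimensional ℂ V]
  (ρ : Representation ℂ N V)

/-- `t ↦ det(t)^k` as a hom `GL(V) → ℂˣ`. -/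
noncomputable def detPow (V : Type*) [AddCommGroup V] [Module ℂ V] (k : ℕ) :
    (V →ₗ[ℂ] V)ˣ →* ℂˣ :=
  (powMonoidHom k).comp (Units.map (LinearMap.det : (V →ₗ[ℂ] V) →* ℂ))

theorem detPow_apply (k : ℕ) (t : (V →ₗ[ℂ] V)ˣ) :
    ((detPow V k t : ℂˣ) : ℂ) = LinearMap.det (t : V →ₗ[ℂ] V) ^ k := rfl

/-- Scalars as units of `End V`. -/
noncomputable def scalarUnit (V : Type*) [AddCommGroup V] [Module ℂ V] : ℂˣ →* (V →ₗ[ℂ] V)ˣ :=
  Units.map (algebraMap ℂ (V →ₗ[ℂ] V)).toMonoidHom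

theorem scalarUnit_val (c : ℂˣ) :
    ((scalarUnit V c : (V →ₗ[ℂ] V)ˣ) : V →ₗ[ℂ] V) = (c : ℂ) • LinearMap.id := by
  show algebraMap ℂ (V →ₗ[ℂ] V) (c : ℂ) = _
  rw [Algebra.algebraMap_eq_smul_one]
  rfl

theorem scalarUnit_mem_center (c : ℂˣ) : scalarUnit V c ∈ Subgroup.center (V →ₗ[ℂ] V)ˣ := by
  rw [Subgroup.mem_center_iff]
  intro u
  apply Units.ext
  rw [Units.val_mul, Units.val_mul, scalarUnit_val]
  ext v
  simp

theorem detPow_scalarUnit (k : ℕ) (c : ℂˣ) :
    detPow V k (scalarUnit V c) = c ^ (Module.finrank ℂ V * k) := by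
  apply Units.ext
  rw [detPow_apply, scalarUnit_val, LinearMap.det_smul, LinearMap.det_id, mul_one,
    Units.val_pow_eq_pow_val, pow_mul]

/-- The finite cover: pairs `(g, t)` in `Γ` with `det(t)^|N| = 1`. -/
noncomputable def cover : Subgroup (G × (V →ₗ[ℂ] V)ˣ) :=
  compat N ρ.asGroupHom ⊓ (detPow V (Nat.card N)).ker.comap (MonoidHom.snd G _)

theorem mem_cover (g : G) (t : (V →ₗ[ℂ] V)ˣ) :
    (g, t) ∈ cover N ρ ↔ (g, t) ∈ compat N ρ.asGroupHom ∧ detPow V (Nat.card N) t = 1 := by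
  unfold cover
  rw [Subgroup.mem_inf, Subgroup.mem_comap, MonoidHom.mem_ker]
  rfl

theorem self_mem_cover (n : N) : ((n : G), ρ.asGroupHom n) ∈ cover N ρ := by
  rw [mem_cover]
  refine ⟨self_mem_compat N _ n, ?_⟩
  unfold detPow
  rw [MonoidHom.comp_apply, powMonoidHom_apply, ← map_pow, ← map_pow, pow_card_eq_one',
    map_one, map_one]

theorem exists_mem_cover (hρ : ρ.IsIrreducible)
    (hinv : ∀ (g : G) (n : N), ρ.character (MulAut.conjNormal g n) = ρ.character n) (g : G) :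
    ∃ t : (V →ₗ[ℂ] V)ˣ, (g, t) ∈ cover N ρ := by
  have := hρ
  obtain ⟨t₀, ht₀⟩ := exists_compat N ρ hinv g
  have hd : 0 < Module.finrank ℂ V := Cfsg.Agent.Lib.Helper80.finrank_pos_of_irreducible ρ
  have hk : 0 < Nat.card N := Nat.card_pos
  obtain ⟨c₀, hc₀⟩ := IsAlgClosed.exists_pow_nat_eq
    (((detPow V (Nat.card N) t₀)⁻¹ : ℂˣ) : ℂ) (Nat.mul_pos hd hk)
  have hc₀0 : c₀ ≠ 0 := by
    intro h
    rw [h, zero_pow (Nat.mul_pos hd hk).ne'] at hc₀
    exact (Units.ne_zero _) hc₀.symm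
  refine ⟨scalarUnit V (Units.mk0 c₀ hc₀0) * t₀, ?_⟩
  rw [mem_cover]
  constructor
  · have h1 := center_mem_compat N ρ.asGroupHom (G := G)
      ⟨scalarUnit V (Units.mk0 c₀ hc₀0), scalarUnit_mem_center _⟩
    have h2 := (compat N ρ.asGroupHom).mul_mem h1 ht₀
    simpa using h2
  · rw [map_mul, detPow_scalarUnit]
    apply Units.ext
    rw [Units.val_mul, Units.val_pow_eq_pow_val, Units.val_mk0, hc₀, ← Units.val_mul,
      inv_mul_cancel]

theorem cover_kernel_scalar (hρ : ρ.IsIrreducible) (t : (V →ₗ[ℂ] V)ˣ)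
    (ht : ((1 : G), t) ∈ cover N ρ) :
    ∃ c : ℂˣ, c ^ (Module.finrank ℂ V * Nat.card N) = 1 ∧ t = scalarUnit V c := by
  have := hρ
  rw [mem_cover] at ht
  obtain ⟨ht1, ht2⟩ := ht
  have hcomm : ∀ n : N, (t : V →ₗ[ℂ] V) ∘ₗ ρ n = ρ n ∘ₗ (t : V →ₗ[ℂ] V) := by
    intro n
    have h1 := (mem_compat N ρ.asGroupHom _ _).1 ht1 n
    rw [map_one, MulAut.one_apply, mul_inv_eq_iff_eq_mul] at h1
    have h2 := congrArg Units.val h1
    rw [Units.val_mul, Units.val_mul, Representation.asGroupHom_apply] at h2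
    exact h2
  obtain ⟨c₀, hc₀⟩ := Cfsg.Agent.Lib.Helper80.schur_scalar ρ (t : V →ₗ[ℂ] V) hcomm
  have hnt : Nontrivial V := Cfsg.Agent.Lib.Helper80.nontrivial_of_irreducible ρ
  have hc₀0 : c₀ ≠ 0 := by
    intro h0
    rw [h0, zero_smul] at hc₀
    have h1 : (1 : V →ₗ[ℂ] V) = 0 := by
      rw [← Units.mul_inv t, hc₀, zero_mul]
    obtain ⟨v, hv⟩ := exists_ne (0 : V)
    apply hv
    have := LinearMap.congr_fun h1 v
    simpa using this
  have htc : t = scalarUnit V (Units.mk0 c₀ hc₀0) := by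
    apply Units.ext
    rw [hc₀, scalarUnit_val, Units.val_mk0]
  refine ⟨Units.mk0 c₀ hc₀0, ?_, htc⟩
  rw [← detPow_scalarUnit, ← htc]
  exact ht2

theorem finite_cover (hρ : ρ.IsIrreducible)
    (hinv : ∀ (g : G) (n : N), ρ.character (MulAut.conjNormal g n) = ρ.character n) :
    Finite (cover N ρ) := by
  have := hρ
  have hd : 0 < Module.finrank ℂ V := Cfsg.Agent.Lib.Helper80.finrank_pos_of_irreducible ρ
  have hk : 0 < Nat.card N := Nat.card_pos
  have : NeZero (Module.finrank ℂ V * Nat.card N) := ⟨(Nat.mul_pos hd hk).ne'⟩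
  have hE := exists_mem_cover N ρ hρ hinv
  choose T hT using hE
  have hsc : ∀ c : rootsOfUnity (Module.finrank ℂ V * Nat.card N) ℂ,
      ((1 : G), scalarUnit V (c : ℂˣ)) ∈ cover N ρ := by
    intro c
    rw [mem_cover]
    refine ⟨center_mem_compat N ρ.asGroupHom (G := G) ⟨_, scalarUnit_mem_center _⟩, ?_⟩
    rw [detPow_scalarUnit]
    exact (mem_rootsOfUnity _ _).1 c.2
  let f : G × rootsOfUnity (Module.finrank ℂ V * Nat.card N) ℂ → cover N ρ :=
    fun x => ⟨(1, scalarUnit V (x.2 : ℂˣ)), hsc x.2⟩ * ⟨(x.1, T x.1), hT x.1⟩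
  apply Finite.of_surjective f
  rintro ⟨⟨g, t⟩, hγ⟩
  have h1 : ((1 : G), t * (T g)⁻¹) ∈ cover N ρ := by
    have := (cover N ρ).mul_mem hγ ((cover N ρ).inv_mem (hT g))
    simpa using this
  obtain ⟨c, hc1, hc2⟩ := cover_kernel_scalar N ρ hρ _ h1
  refine ⟨(g, ⟨c, (mem_rootsOfUnity _ _).2 hc1⟩), ?_⟩
  apply Subtype.ext
  apply Prod.ext
  · simp [f]
  · simp only [f, Subgroup.coe_mul, Prod.snd_mul]
    rw [← hc2]
    group

/-- first projection of the cover -/
noncomputable def covFst : cover N ρ →* G := (MonoidHom.fst G _).comp (cover N ρ).subtype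

/-- second projection of the cover -/
noncomputable def covSnd : cover N ρ →* (V →ₗ[ℂ] V)ˣ :=
  (MonoidHom.snd G _).comp (cover N ρ).subtype

/-- the copy of `N` in the cover -/
noncomputable def covOfN : N →* cover N ρ where
  toFun n := ⟨((n : G), ρ.asGroupHom n), self_mem_cover N ρ n⟩
  map_one' := by
    apply Subtype.ext
    simp
  map_mul' a b := by
    apply Subtype.ext
    simp

/-- the tautological representation of the cover -/
noncomputable def covRep : Representation ℂ (cover N ρ) V :=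
  (Units.coeHom (V →ₗ[ℂ] V)).comp (covSnd N ρ)

theorem covRep_covOfN (n : N) : covRep N ρ (covOfN N ρ n) = ρ n := by
  show ((ρ.asGroupHom n : (V →ₗ[ℂ] V)ˣ) : V →ₗ[ℂ] V) = ρ n
  rw [Representation.asGroupHom_apply]

theorem covFst_covOfN (n : N) : covFst N ρ (covOfN N ρ n) = n := rfl

theorem covOfN_injective : Function.Injective (covOfN N ρ) := by
  intro a b h
  have := congrArg (covFst N ρ) h
  rw [covFst_covOfN, covFst_covOfN] at this
  exact Subtype.ext this

theorem covRep_irreducible (hρ : ρ.IsIrreducible) : (covRep N ρ).IsIrreducible :=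
  Cfsg.Agent.Lib.Helper79.isIrreducible_of_forall_exists ρ (covRep N ρ)
    (fun n => ⟨covOfN N ρ n, covRep_covOfN N ρ n⟩) hρ

theorem covFst_surjective (hρ : ρ.IsIrreducible)
    (hinv : ∀ (g : G) (n : N), ρ.character (MulAut.conjNormal g n) = ρ.character n) :
    Function.Surjective (covFst N ρ) := by
  intro g
  obtain ⟨t, ht⟩ := exists_mem_cover N ρ hρ hinv g
  exact ⟨⟨(g, t), ht⟩, rfl⟩

theorem conj_covOfN (γ : cover N ρ) (n : N) :
    γ * covOfN N ρ n * γ⁻¹ = covOfN N ρ (MulAut.conjNormal γ.1.1 n) := by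
  apply Subtype.ext
  apply Prod.ext
  · simp [covOfN, MulAut.conjNormal_apply]
  · simp only [covOfN, MonoidHom.coe_mk, OneHom.coe_mk, Subgroup.coe_mul, Subgroup.coe_inv,
      Prod.snd_mul, Prod.snd_inv]
    have hγ : (γ.1.1, γ.1.2) ∈ cover N ρ := γ.2
    rw [mem_cover] at hγ
    exact (mem_compat N _ _ _).1 hγ.1 n

instance covOfN_range_normal : (covOfN N ρ).range.Normal := by
  constructor
  rintro x ⟨n, rfl⟩ γ
  rw [conj_covOfN]
  exact ⟨_, rfl⟩

/-- elements of the cover over `1` are central -/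
theorem cover_kernel_central (hρ : ρ.IsIrreducible) (ζ : cover N ρ) (hζ : covFst N ρ ζ = 1)
    (δ : cover N ρ) : δ * ζ = ζ * δ := by
  have hζ1 : ζ.1.1 = 1 := hζ
  have hmem : ((1 : G), ζ.1.2) ∈ cover N ρ := by
    have := ζ.2
    rw [← hζ1]
    exact this
  obtain ⟨c, -, hc⟩ := cover_kernel_scalar N ρ hρ _ hmem
  apply Subtype.ext
  apply Prod.ext
  · simp [hζ1]
  · simp only [Subgroup.coe_mul, Prod.snd_mul]
    rw [hc]
    exact Subgroup.mem_center_iff.1 (scalarUnit_mem_center c) _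

/-- The index of the centre of `E / Ñ` divides `|G : N|`. -/
theorem index_center_cover_quotient_dvd (hρ : ρ.IsIrreducible)
    (hinv : ∀ (g : G) (n : N), ρ.character (MulAut.conjNormal g n) = ρ.character n) :
    (Subgroup.center (cover N ρ ⧸ (covOfN N ρ).range)).index ∣ N.index := by
  have hsurj := covFst_surjective N ρ hρ hinv
  have hle : (covOfN N ρ).range ≤ N.comap (covFst N ρ) := by
    rintro x ⟨n, rfl⟩
    rw [Subgroup.mem_comap, covFst_covOfN]
    exact n.2
  let q : cover N ρ ⧸ (covOfN N ρ).range →* G ⧸ N :=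
    QuotientGroup.map (covOfN N ρ).range N (covFst N ρ) hle
  have hq : ∀ γ : cover N ρ, q (γ : cover N ρ ⧸ (covOfN N ρ).range)
      = ((covFst N ρ γ : G) : G ⧸ N) := fun γ => rfl
  have hqsurj : Function.Surjective q := by
    intro x
    obtain ⟨g, rfl⟩ := QuotientGroup.mk_surjective x
    obtain ⟨γ, rfl⟩ := hsurj g
    exact ⟨(γ : cover N ρ ⧸ (covOfN N ρ).range), hq γ⟩
  have hidx : q.ker.index = N.index := by
    rw [Subgroup.index_ker, MonoidHom.range_eq_top.2 hqsurj, Subgroup.index_eq_card]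
    exact Nat.card_congr Subgroup.topEquiv.toEquiv
  rw [← hidx]
  apply Subgroup.index_dvd_of_le
  intro x hx
  obtain ⟨γ, rfl⟩ := QuotientGroup.mk_surjective x
  rw [MonoidHom.mem_ker, hq, QuotientGroup.eq_one_iff] at hx
  -- γ = ζ * ν(m) with ζ over 1
  obtain ⟨ζ, hζ⟩ : ∃ ζ : cover N ρ, ζ = γ * (covOfN N ρ ⟨covFst N ρ γ, hx⟩)⁻¹ := ⟨_, rfl⟩
  have hζ1 : covFst N ρ ζ = 1 := by
    rw [hζ, map_mul, map_inv, covFst_covOfN, mul_inv_cancel]
  have hγ : (γ : cover N ρ ⧸ (covOfN N ρ).range) = (ζ : cover N ρ ⧸ (covOfN N ρ).range) := by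
    rw [QuotientGroup.eq, hζ]
    refine ⟨(⟨covFst N ρ γ, hx⟩ : N)⁻¹, ?_⟩
    rw [map_inv]
    group
  rw [hγ, Subgroup.mem_center_iff]
  intro y
  obtain ⟨δ, rfl⟩ := QuotientGroup.mk_surjective y
  rw [← QuotientGroup.mk_mul, ← QuotientGroup.mk_mul, cover_kernel_central N ρ hρ ζ hζ1 δ]

end Cover

section Ratio

universe u

open scoped ComplexConjugate

/-- Invariant case of the degree-ratio theorem: if `ϑ = ρ.character ∈ Irr(N)` is `G`-invariant and
`ψ ∈ Irr(G)` lies over `ϑ` with `ψ(1) = e ϑ(1)`, then `e` divides `|G : N|`. -/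
theorem ratio_dvd_index_of_invariant {G : Type u} [Group G] [Fintype G] (N : Subgroup G)
    [hN : N.Normal] [Fintype N] {n : ℕ} (ρ : Representation ℂ N (Fin n → ℂ))
    (hρ : ρ.IsIrreducible)
    (hinv : ∀ (g : G) (x : N), ρ.character (MulAut.conjNormal g x) = ρ.character x)
    (ψ : G → ℂ) (hψ : IsIrrCharacter G ψ)
    (hne : classInner (fun x : N => ψ x) ρ.character ≠ 0)
    (e : ℕ) (he : ψ 1 = e * ρ.character 1) : e ∣ N.index := by
  classical
  have hfin : Finite (cover N ρ) := finite_cover N ρ hρ hinv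
  have : Fintype (cover N ρ) := Fintype.ofFinite _
  have : Fintype (covOfN N ρ).range := Fintype.ofFinite _
  have hsurj := covFst_surjective N ρ hρ hinv
  have hirr := covRep_irreducible N ρ hρ
  -- the extension of ϑ to the cover
  have hϑ : IsIrrCharacter (cover N ρ) (covRep N ρ).character := ⟨n, covRep N ρ, hirr, rfl⟩
  have hϑN : IsIrrCharacter (covOfN N ρ).range
      (fun x : (covOfN N ρ).range => (covRep N ρ).character x) := by
    refine ⟨n, resRep (covRep N ρ) (covOfN N ρ).range, ?_, rfl⟩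
    exact Cfsg.Agent.Lib.Helper79.isIrreducible_of_forall_exists ρ _
      (fun m => ⟨⟨covOfN N ρ m, ⟨m, rfl⟩⟩, covRep_covOfN N ρ m⟩) hρ
  -- the inflation of ψ
  have hψ' : IsIrrCharacter (cover N ρ) (fun γ => ψ (covFst N ρ γ)) :=
    Cfsg.Agent.Lib.Helper79.isIrrCharacter_comp_surjective hψ (covFst N ρ) hsurj
  -- the inner product over Ñ
  let eN : N ≃ (covOfN N ρ).range :=
    (MonoidHom.ofInjective (covOfN_injective N ρ)).toEquiv
  have heN : ∀ m : N, ((eN m : (covOfN N ρ).range) : cover N ρ) = covOfN N ρ m := fun m => rfl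
  have hne' : classInner (fun x : (covOfN N ρ).range => (fun γ => ψ (covFst N ρ γ)) x)
      (fun x : (covOfN N ρ).range => (covRep N ρ).character x) ≠ 0 := by
    have : classInner (fun x : (covOfN N ρ).range => (fun γ => ψ (covFst N ρ γ)) x)
        (fun x : (covOfN N ρ).range => (covRep N ρ).character x)
        = classInner (fun x : N => ψ x) ρ.character := by
      unfold classInner
      rw [← Nat.card_congr eN]
      congr 1
      symm
      refine Fintype.sum_equiv eN _ _ (fun m => ?_)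
      simp only [heN, covFst_covOfN]
      unfold Representation.character
      rw [covRep_covOfN]
    rw [this]
    exact hne
  obtain ⟨β, hβ, hβN, hψeq, -⟩ := exists_mul_ext (covOfN N ρ).range hϑ hϑN hψ' hne'
  -- degree of β
  have hd0 : ρ.character 1 ≠ 0 := by
    have := hρ
    rw [Representation.char_one]
    exact Cfsg.Agent.Lib.Helper80.finrank_ne_zero_of_irreducible ρ
  have hβ1 : β 1 = e := by
    have h1 := congrFun hψeq 1
    simp only [Pi.mul_apply, map_one] at h1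
    rw [he] at h1
    have h2 : (covRep N ρ).character 1 = ρ.character 1 := by
      rw [Representation.char_one, Representation.char_one]
    rw [h2] at h1
    exact (mul_right_cancel₀ hd0 h1).symm
  -- deflate β
  obtain ⟨β', hβ', hβ'eq⟩ := Cfsg.Agent.Lib.Helper79.isIrrCharacter_deflate hβ (covOfN N ρ).range
    (fun x hx => by
      have := hβN ⟨x, hx⟩ 1
      rw [mul_one] at this
      exact this)
  obtain ⟨b, τ, hτ, hτchar⟩ := hβ'
  have hb : b = e := by
    have h1 := hβ'eq 1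
    rw [← hτchar, hβ1] at h1
    have h2 : τ.character ((1 : cover N ρ) : cover N ρ ⧸ (covOfN N ρ).range)
        = (b : ℂ) := by
      rw [QuotientGroup.mk_one, Representation.char_one, Module.finrank_fin_fun]
    rw [h2] at h1
    exact_mod_cast h1
  have := hτ
  have hdvd := Cfsg.Agent.Lib.Helper79.finrank_dvd_index_center τ
  rw [Module.finrank_fin_fun, hb] at hdvd
  exact hdvd.trans (index_center_cover_quotient_dvd N ρ hρ hinv)

end Ratio

end Cfsg.Agent.Lib.Helper15
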