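import Mathlib
import Cfsg.Agent.Lib.Helper15.MackeyNormal
import Cfsg.Agent.Lib.Helper15.Gallagher
import Cfsg.Agent.Lib.Helper15.GlaubData
import Cfsg.Agent.Lib.Helper3.CharBasic
import Cfsg.Agent.Lib.Helper3.OddOrder
import Cfsg.Agent.S0887

/-!
# The character-theoretic core of Isaacs' Theorem 11.32

`G = M H` with `M ◁ G`, `M ∩ H = L ◁ G`, `ϑ ∈ Irr(H)` restricting irreducibly to `L`,
`χ = ϑ^G`.  If `χ` is homogeneous on `L`, `M` and `M N` (`L ≤ N ≤ H`, `M N ◁ G`), and
`|M : L|`, `|N : L|` are coprime, then `N` centralises `M / L`.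
-/

set_option autoImplicit false

namespace Cfsg.Agent.Lib.Helper15

open Cfsg
open scoped ComplexConjugate

variable {G : Type*} [Group G] [Fintype G]

/-- Coset sums of `|ϑ|²` over a subgroup on which `ϑ` restricts irreducibly. -/
theorem sum_normSq_coset (H L : Subgroup G) (hLH : L ≤ H) [Fintype L] (ϑ : H → ℂ)
    (hϑ : IsIrrCharacter H ϑ) (hϑL : IsIrrCharacter L (fun x : L => ϑ ⟨(x : G), hLH x.2⟩))
    (h : H) :
    ∑ l : L, ϑ (⟨(l : G), hLH l.2⟩ * h) * conj (ϑ (⟨(l : G), hLH l.2⟩ * h)) = Nat.card L := by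
  classical
  haveI : Fintype (L.subgroupOf H) := Fintype.ofFinite _
  let e : L.subgroupOf H ≃* L := Subgroup.subgroupOfEquivOfLe hLH
  have hirr : IsIrrCharacter (L.subgroupOf H) (fun n : L.subgroupOf H => ϑ n) := by
    have := (irrComp e ⟨_, hϑL⟩).2
    exact this
  have h1 := coset_sum_norm (L.subgroupOf H) hϑ hirr h
  rw [Nat.card_congr e.toEquiv] at h1
  rw [← h1]
  refine (Fintype.sum_equiv e.toEquiv _ _ (fun n => ?_)).symm
  rfl

/-- Total sum of `|ϑ|²` over an intermediate subgroup. -/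
theorem sum_normSq_subgroup (H L N : Subgroup G) (hLN : L ≤ N) (hNH : N ≤ H) [Fintype L] [Fintype N]
    (ϑ : H → ℂ) (hϑ : IsIrrCharacter H ϑ)
    (hϑL : IsIrrCharacter L (fun x : L => ϑ ⟨(x : G), (hLN.trans hNH) x.2⟩)) :
    ∑ n : N, ϑ ⟨(n : G), hNH n.2⟩ * conj (ϑ ⟨(n : G), hNH n.2⟩) = Nat.card N := by
  classical
  have hL0 : (Nat.card L : ℂ) ≠ 0 := card_ne_zero_complex L
  set F : G → ℂ := fun g => extendByZero H ϑ g * conj (extendByZero H ϑ g) with hF
  have hFn : ∀ n : N, ϑ ⟨(n : G), hNH n.2⟩ * conj (ϑ ⟨(n : G), hNH n.2⟩) = F (n : G) := by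
    intro n
    simp only [hF]
    rw [Cfsg.Agent.Lib.Helper25.extendByZero_of_mem H ϑ (hNH n.2)]
  -- double sum
  have h1 : ∑ l : L, ∑ n : N, F ((l : G) * (n : G)) = (Nat.card L : ℂ) * ∑ n : N, F (n : G) := by
    have : ∀ l : L, ∑ n : N, F ((l : G) * (n : G)) = ∑ n : N, F (n : G) := by
      intro l
      exact Fintype.sum_equiv (Equiv.mulLeft (⟨(l : G), hLN l.2⟩ : N)) _ _ (fun _ => rfl)
    simp [this, Nat.card_eq_fintype_card]
  have h2 : ∑ l : L, ∑ n : N, F ((l : G) * (n : G)) = (Nat.card N : ℂ) * (Nat.card L : ℂ) := by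
    rw [Finset.sum_comm]
    have : ∀ n : N, ∑ l : L, F ((l : G) * (n : G)) = (Nat.card L : ℂ) := by
      intro n
      have := sum_normSq_coset H L (hLN.trans hNH) ϑ hϑ hϑL ⟨(n : G), hNH n.2⟩
      rw [← this]
      refine Finset.sum_congr rfl (fun l _ => ?_)
      simp only [hF]
      have hmem : (l : G) * (n : G) ∈ H := H.mul_mem ((hLN.trans hNH) l.2) (hNH n.2)
      rw [Cfsg.Agent.Lib.Helper25.extendByZero_of_mem H ϑ hmem]
      rfl
    simp [this, Nat.card_eq_fintype_card]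
  rw [Finset.sum_congr rfl (fun n _ => hFn n)]
  have h3 := h1.symm.trans h2
  rw [mul_comm (Nat.card N : ℂ)] at h3
  exact mul_left_cancel₀ hL0 h3

/-- Frobenius reciprocity by hand on a normal subgroup `A`, for `χ` given by the Mackey sum. -/
theorem sum_mul_conj_of_formula (M A : Subgroup G) [A.Normal] [Fintype M] [Fintype A]
    (c0 : ℂ) (E χ : G → ℂ) (hχcl : IsClassFunction G χ)
    (hform : ∀ g, χ g = c0 * ∑ m : M, E ((m : G)⁻¹ * g * (m : G))) :
    ∑ a : A, χ (a : G) * conj (χ (a : G))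
      = c0 * (Nat.card M : ℂ) * ∑ a : A, E (a : G) * conj (χ (a : G)) := by
  classical
  have hA : A.Normal := inferInstance
  have step : ∀ m : M, ∑ a : A, E ((m : G)⁻¹ * (a : G) * (m : G)) * conj (χ (a : G))
      = ∑ a : A, E (a : G) * conj (χ (a : G)) := by
    intro m
    let em : A ≃ A :=
      { toFun := fun a => ⟨(m : G)⁻¹ * (a : G) * (m : G), by
          have := hA.conj_mem (a : G) a.2 (m : G)⁻¹
          simpa using this⟩
        invFun := fun a => ⟨(m : G) * (a : G) * (m : G)⁻¹, hA.conj_mem (a : G) a.2 (m : G)⟩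
        left_inv := fun a => by apply Subtype.ext; simp [mul_assoc]
        right_inv := fun a => by apply Subtype.ext; simp [mul_assoc] }
    refine Fintype.sum_equiv em _ _ (fun a => ?_)
    have h1 : χ ((m : G)⁻¹ * (a : G) * (m : G)) = χ (a : G) := by
      have := hχcl (a : G) (m : G)⁻¹
      simpa using this
    show _ = E ((m : G)⁻¹ * (a : G) * (m : G)) * conj (χ ((m : G)⁻¹ * (a : G) * (m : G)))
    rw [h1]
  calc ∑ a : A, χ (a : G) * conj (χ (a : G))
      = ∑ a : A, (c0 * ∑ m : M, E ((m : G)⁻¹ * (a : G) * (m : G))) * conj (χ (a : G)) := by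
        refine Finset.sum_congr rfl (fun a _ => ?_)
        rw [← hform]
    _ = c0 * ∑ m : M, ∑ a : A, E ((m : G)⁻¹ * (a : G) * (m : G)) * conj (χ (a : G)) := by
        rw [Finset.sum_comm, Finset.mul_sum]
        refine Finset.sum_congr rfl (fun a _ => ?_)
        rw [mul_assoc, Finset.sum_mul]
    _ = c0 * (Nat.card M : ℂ) * ∑ a : A, E (a : G) * conj (χ (a : G)) := by
        rw [Finset.sum_congr rfl (fun m _ => step m), Finset.sum_const, Finset.card_univ,
          nsmul_eq_mul, ← Nat.card_eq_fintype_card, mul_assoc]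

/-- Sum of `|φ|²` for an irreducible character. -/
theorem sum_normSq_irr {Γ : Type*} [Group Γ] [Fintype Γ] {φ : Γ → ℂ} (hφ : IsIrrCharacter Γ φ) :
    ∑ x : Γ, φ x * conj (φ x) = Nat.card Γ := by
  have h := Cfsg.Agent.Lib.Helper3.classInner_irr hφ hφ
  rw [if_pos rfl] at h
  unfold classInner at h
  have h0 : (Nat.card Γ : ℂ) ≠ 0 := by
    have : 0 < Nat.card Γ := Nat.card_pos
    exact_mod_cast this.ne'
  rw [inv_mul_eq_iff_eq_mul₀ h0, mul_one] at h
  exact h

/-- First part of the core: `e² |L| = |M|` and `ϑ_L` is the constituent of `χ_L`. -/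
theorem berger_core_deg (L M H : Subgroup G) [hMn : M.Normal]
    (hLH : L ≤ H) (hMH : M ⊓ H = L) (hsup : M ⊔ H = ⊤)
    (ϑ : H → ℂ) (hϑ : IsIrrCharacter H ϑ)
    (hϑL : IsIrrCharacter L (fun x : L => ϑ ⟨(x : G), hLH x.2⟩))
    (hL : ∃ (ψ' : L → ℂ) (f : ℕ), IsIrrCharacter L ψ' ∧
      (fun l : L => indFun H ϑ l) = (f : ℂ) • ψ')
    {φ : M → ℂ} {e : ℕ} (hφ : IsIrrCharacter M φ)
    (heM : (fun m : M => indFun H ϑ m) = (e : ℂ) • φ) :
    e * e * Nat.card L = Nat.card M := by
  classical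
  haveI : Fintype L := Fintype.ofFinite _
  haveI : Fintype M := Fintype.ofFinite _
  haveI : Fintype H := Fintype.ofFinite _
  set χ := indFun H ϑ with hχdef
  have hχcl : IsClassFunction G χ := Cfsg.Agent.Lib.Helper3.isClassFunction_indFun H ϑ
  have hϑcl : IsClassFunction H ϑ :=
    Cfsg.Agent.Lib.Helper3.IsCharacter.isClassFunction
      (Cfsg.Agent.Lib.Helper3.IsIrrCharacter.isCharacter hϑ)
  have hL0 : (Nat.card L : ℂ) ≠ 0 := card_ne_zero_complex L
  have hM0 : (Nat.card M : ℂ) ≠ 0 := card_ne_zero_complex M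
  have hform : ∀ g, χ g = (Nat.card L : ℂ)⁻¹ *
      ∑ m : M, extendByZero H ϑ ((m : G)⁻¹ * g * (m : G)) := by
    intro g
    have := indFun_eq_sum_of_sup_eq_top M H hsup ϑ hϑcl g
    rwa [hMH] at this
  obtain ⟨d, hd1, -, hd0⟩ := Cfsg.Agent.Lib.Helper3.IsIrrCharacter.apply_one_dvd_card hϑ
  have hdC : (d : ℂ) ≠ 0 := by exact_mod_cast hd0
  have hχ1 : χ 1 = (Nat.card L : ℂ)⁻¹ * (Nat.card M : ℂ) * d := by
    rw [hform 1]
    have : ∀ m : M, extendByZero H ϑ ((m : G)⁻¹ * 1 * (m : G)) = d := by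
      intro m
      rw [mul_one, inv_mul_cancel, Cfsg.Agent.Lib.Helper25.extendByZero_of_mem H ϑ H.one_mem]
      exact hd1
    rw [Finset.sum_congr rfl (fun m _ => this m), Finset.sum_const, Finset.card_univ,
      nsmul_eq_mul, ← Nat.card_eq_fintype_card, mul_assoc]
  have hχ1ne : χ 1 ≠ 0 := by
    rw [hχ1]
    exact mul_ne_zero (mul_ne_zero (inv_ne_zero hL0) hM0) hdC
  obtain ⟨ψ', f, hψ', hfL⟩ := hL
  -- e ≠ 0
  have heval : ∀ m : M, χ (m : G) = (e : ℂ) * φ m := fun m => congrFun heM m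
  have hevalL : ∀ l : L, χ (l : G) = (f : ℂ) * ψ' l := fun l => congrFun hfL l
  have he0 : (e : ℂ) ≠ 0 := by
    intro h0
    apply hχ1ne
    have := heval 1
    rw [h0, zero_mul] at this
    exact this
  -- the main identity
  have hsumM := sum_mul_conj_of_formula M M ((Nat.card L : ℂ)⁻¹) (extendByZero H ϑ) χ hχcl hform
  rw [sum_extendByZero_mul M H L hMH hLH ϑ (fun g => conj (χ g))] at hsumM
  have hlhs : ∑ a : M, χ (a : G) * conj (χ (a : G)) = (e : ℂ) * (e : ℂ) * (Nat.card M : ℂ) := by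
    rw [← sum_normSq_irr hφ, Finset.mul_sum]
    refine Finset.sum_congr rfl (fun a _ => ?_)
    rw [heval a, map_mul, Complex.conj_natCast]
    ring
  have hrhs : ∑ b : L, ϑ ⟨(b : G), hLH b.2⟩ * conj (χ (b : G))
      = (f : ℂ) * ((Nat.card L : ℂ) *
          classInner (fun x : L => ϑ ⟨(x : G), hLH x.2⟩) ψ') := by
    unfold classInner
    rw [← mul_assoc (Nat.card L : ℂ), mul_inv_cancel₀ hL0, one_mul, Finset.mul_sum]
    refine Finset.sum_congr rfl (fun b _ => ?_)
    rw [hevalL b, map_mul, Complex.conj_natCast]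
    ring
  rw [hlhs, hrhs, Cfsg.Agent.Lib.Helper3.classInner_irr hϑL hψ'] at hsumM
  by_cases hψeq : (fun x : L => ϑ ⟨(x : G), hLH x.2⟩) = ψ'
  · rw [if_pos hψeq, mul_one] at hsumM
    -- e² |M| = |L|⁻¹ |M| f |L|
    have h1 : (e : ℂ) * (e : ℂ) = (f : ℂ) := by
      have : (e : ℂ) * (e : ℂ) * (Nat.card M : ℂ) = (f : ℂ) * (Nat.card M : ℂ) := by
        rw [hsumM]
        field_simp
      exact mul_right_cancel₀ hM0 this
    -- f d = χ 1
    have h2 : (f : ℂ) * d = (Nat.card L : ℂ)⁻¹ * (Nat.card M : ℂ) * d := by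
      rw [← hχ1]
      have := hevalL 1
      rw [← hψeq] at this
      rw [show χ 1 = χ ((1 : L) : G) from rfl, this]
      congr 1
      rw [← hd1]
      rfl
    have h3 : (f : ℂ) = (Nat.card L : ℂ)⁻¹ * (Nat.card M : ℂ) := mul_right_cancel₀ hdC h2
    have h4 : ((e * e * Nat.card L : ℕ) : ℂ) = ((Nat.card M : ℕ) : ℂ) := by
      push_cast
      rw [h1, h3]
      field_simp
    exact_mod_cast h4
  · exfalso
    rw [if_neg hψeq, mul_zero, mul_zero, mul_zero] at hsumM
    exact mul_ne_zero (mul_ne_zero he0 he0) hM0 hsumM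

/-- Second part: if `χ_M = e φ` and `χ_K = c ξ` with `M ≤ K`, `M ◁ G`, and `e` is coprime to
`|K : M|`, then `c = e`. -/
theorem berger_core_mult (M K : Subgroup G) [hMn : M.Normal] (hMK : M ≤ K) (χ : G → ℂ)
    (hχ1 : χ 1 ≠ 0)
    {φ : M → ℂ} {e : ℕ} (hφ : IsIrrCharacter M φ) (heM : (fun m : M => χ m) = (e : ℂ) • φ)
    {ξ : K → ℂ} {c : ℕ} (hξ : IsIrrCharacter K ξ) (hcK : (fun k : K => χ k) = (c : ℂ) • ξ)
    (hcop : Nat.Coprime e (M.relIndex K)) : c = e := by
  classical
  haveI : Fintype K := Fintype.ofFinite _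
  haveI : Fintype M := Fintype.ofFinite _
  haveI : Fintype (M.subgroupOf K) := Fintype.ofFinite _
  let eM : M.subgroupOf K ≃* M := Subgroup.subgroupOfEquivOfLe hMK
  set φ' : M.subgroupOf K → ℂ := fun x => φ (eM x) with hφ'
  have hφ'irr : IsIrrCharacter (M.subgroupOf K) φ' := (irrComp eM ⟨φ, hφ⟩).2
  have heval : ∀ m : M, χ (m : G) = (e : ℂ) * φ m := fun m => congrFun heM m
  have hevalK : ∀ k : K, χ (k : G) = (c : ℂ) * ξ k := fun k => congrFun hcK k
  have he0 : (e : ℂ) ≠ 0 := by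
    intro h0
    apply hχ1
    have := heval 1
    rw [h0, zero_mul] at this
    exact this
  have hc0 : (c : ℂ) ≠ 0 := by
    intro h0
    apply hχ1
    have := hevalK 1
    rw [h0, zero_mul] at this
    exact this
  have hrel : ∀ x : M.subgroupOf K, ξ (x : K) = (e : ℂ) / (c : ℂ) * φ' x := by
    intro x
    have h1 := hevalK (x : K)
    have h2 := heval (eM x)
    have h3 : ((eM x : M) : G) = ((x : K) : G) := rfl
    rw [h3] at h2
    rw [h1] at h2
    simp only [hφ']
    field_simp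
    rw [mul_comm]
    exact h2
  have hcon : classInner (fun x : M.subgroupOf K => ξ (x : K)) φ' ≠ 0 := by
    have : (fun x : M.subgroupOf K => ξ (x : K)) = fun x => (e : ℂ) / (c : ℂ) * φ' x :=
      funext hrel
    rw [this, classInner_const_mul_left, Cfsg.Agent.Lib.Helper3.classInner_irr hφ'irr hφ'irr,
      if_pos rfl, mul_one]
    exact div_ne_zero he0 hc0
  obtain ⟨c', hc', -, hc'0⟩ := Cfsg.Agent.Lib.Helper3.IsIrrCharacter.apply_one_dvd_card hξ
  obtain ⟨d', hd', -, hd'0⟩ := Cfsg.Agent.Lib.Helper3.IsIrrCharacter.apply_one_dvd_card hφ'irr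
  obtain ⟨hdvd, hdvd2⟩ := Cfsg.Agent.S0887.result (M.subgroupOf K) ξ hξ φ' hφ'irr hcon c' d' hc' hd'
  -- c * c' = e * d'
  have h1 : c * c' = e * d' := by
    have h := hrel 1
    rw [show ((1 : M.subgroupOf K) : K) = 1 from rfl, hc', hd'] at h
    have : ((c * c' : ℕ) : ℂ) = ((e * d' : ℕ) : ℂ) := by
      push_cast
      rw [h]
      field_simp
    exact_mod_cast this
  obtain ⟨b, rfl⟩ := hdvd
  have hd'pos : 0 < d' := Nat.pos_of_ne_zero hd'0
  have h2 : c * b = e := by
    have : d' * (c * b) = d' * e := by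
      calc d' * (c * b) = c * (d' * b) := by ring
        _ = e * d' := h1
        _ = d' * e := by ring
    exact Nat.eq_of_mul_eq_mul_left hd'pos this
  rw [Nat.mul_div_cancel_left b hd'pos] at hdvd2
  have hb1 : b = 1 := by
    have hbe : b ∣ e := ⟨c, by rw [← h2]; ring⟩
    have : b ∣ Nat.gcd e (M.relIndex K) := Nat.dvd_gcd hbe hdvd2
    rw [hcop] at this
    exact Nat.dvd_one.1 this
  rw [hb1, mul_one] at h2
  exact h2

/-- Elementary inequality: `Re(a \bar b) ≤ (|a|² + |b|²)/2`. -/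
theorem re_mul_conj_le (a b : ℂ) :
    (a * conj b).re ≤ (Complex.normSq a + Complex.normSq b) / 2 := by
  have h := Complex.normSq_nonneg (a - b)
  rw [Complex.normSq_sub] at h
  linarith

/-- Third part of the core: if the norm of `χ_K` is as large as possible then `M` normalises
`N` modulo `H`. -/
theorem berger_core_norm (L M N H K : Subgroup G) [hLn : L.Normal] [hMn : M.Normal]
    (hLN : L ≤ N) (hNH : N ≤ H) (hMH : M ⊓ H = L) (hsup : M ⊔ H = ⊤)
    (hKdef : K = M ⊔ N) [hK : K.Normal]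
    (ϑ : H → ℂ) (hϑ : IsIrrCharacter H ϑ)
    (hϑL : IsIrrCharacter L (fun x : L => ϑ ⟨(x : G), (hLN.trans hNH) x.2⟩))
    {ξ : K → ℂ} {e : ℕ} (hξ : IsIrrCharacter K ξ)
    (heK : (fun k : K => indFun H ϑ k) = (e : ℂ) • ξ)
    (hee : e * e * Nat.card L = Nat.card M) :
    ∀ m ∈ M, ∀ n ∈ N, m⁻¹ * n * m ∈ H := by
  classical
  haveI : Fintype L := Fintype.ofFinite _
  haveI : Fintype M := Fintype.ofFinite _
  haveI : Fintype N := Fintype.ofFinite _
  haveI : Fintype H := Fintype.ofFinite _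
  haveI : Fintype K := Fintype.ofFinite _
  have hLH : L ≤ H := hLN.trans hNH
  have hLM : L ≤ M := hMH ▸ inf_le_left
  have hMK : M ≤ K := hKdef ▸ le_sup_left
  have hNK : N ≤ K := hKdef ▸ le_sup_right
  set χ := indFun H ϑ with hχdef
  have hχcl : IsClassFunction G χ := Cfsg.Agent.Lib.Helper3.isClassFunction_indFun H ϑ
  have hϑcl : IsClassFunction H ϑ :=
    Cfsg.Agent.Lib.Helper3.IsCharacter.isClassFunction
      (Cfsg.Agent.Lib.Helper3.IsIrrCharacter.isCharacter hϑ)
  have hL0 : (Nat.card L : ℂ) ≠ 0 := card_ne_zero_complex L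
  have hM0 : (Nat.card M : ℂ) ≠ 0 := card_ne_zero_complex M
  have hform : ∀ g, χ g = (Nat.card L : ℂ)⁻¹ *
      ∑ m : M, extendByZero H ϑ ((m : G)⁻¹ * g * (m : G)) := by
    intro g
    have := indFun_eq_sum_of_sup_eq_top M H hsup ϑ hϑcl g
    rwa [hMH] at this
  -- `K ∩ H = N`
  have hKH : K ⊓ H = N := by
    apply le_antisymm
    · intro x hx
      obtain ⟨hxK, hxH⟩ := Subgroup.mem_inf.1 hx
      have hx' : x ∈ ((M ⊔ N : Subgroup G) : Set G) := hKdef ▸ hxK
      rw [Subgroup.normal_mul] at hx'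
      obtain ⟨m, hm, n, hn, rfl⟩ := Set.mem_mul.1 hx'
      have hmH : m ∈ H := by
        have : m = m * n * n⁻¹ := by group
        rw [this]
        exact H.mul_mem hxH (H.inv_mem (hNH hn))
      have hmL : m ∈ L := by
        have h5 : m ∈ M ⊓ H := Subgroup.mem_inf.2 ⟨hm, hmH⟩
        rwa [hMH] at h5
      exact N.mul_mem (hLN hmL) hn
    · exact le_inf hNK hNH
  -- cardinalities
  have hMN : M ⊓ N = L := by
    apply le_antisymm
    · rw [← hMH]
      exact inf_le_inf_left M hNH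
    · exact le_inf hLM hLN
  have hcardK : Nat.card K * Nat.card L = Nat.card M * Nat.card N := by
    have h1 : Nat.card M * M.relIndex K = Nat.card K := by
      have := Subgroup.relIndex_mul_relIndex (⊥ : Subgroup G) M K bot_le hMK
      rwa [Subgroup.relIndex_bot_left, Subgroup.relIndex_bot_left] at this
    have h2 : M.relIndex K = L.relIndex N := by
      rw [hKdef, Subgroup.relIndex_sup_left, ← Subgroup.inf_relIndex_right, hMN]
    have h3 : Nat.card L * L.relIndex N = Nat.card N := by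
      have := Subgroup.relIndex_mul_relIndex (⊥ : Subgroup G) L N bot_le hLN
      rwa [Subgroup.relIndex_bot_left, Subgroup.relIndex_bot_left] at this
    rw [← h1, h2, ← h3]
    ring
  -- the `K`-identity
  have hevalK : ∀ k : K, χ (k : G) = (e : ℂ) * ξ k := fun k => congrFun heK k
  have hsumK := sum_mul_conj_of_formula M K ((Nat.card L : ℂ)⁻¹) (extendByZero H ϑ) χ hχcl hform
  rw [sum_extendByZero_mul K H N hKH hNH ϑ (fun g => conj (χ g))] at hsumK
  have hlhs : ∑ a : K, χ (a : G) * conj (χ (a : G)) = (e : ℂ) * (e : ℂ) * (Nat.card K : ℂ) := by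
    rw [← sum_normSq_irr hξ, Finset.mul_sum]
    refine Finset.sum_congr rfl (fun a _ => ?_)
    rw [hevalK a, map_mul, Complex.conj_natCast]
    ring
  -- `T m`
  set T : M → ℂ := fun m => ∑ n : N, ϑ ⟨(n : G), hNH n.2⟩ *
      conj (extendByZero H ϑ ((m : G)⁻¹ * (n : G) * (m : G))) with hT
  have hrhs : ∑ b : N, ϑ ⟨(b : G), hNH b.2⟩ * conj (χ (b : G))
      = (Nat.card L : ℂ)⁻¹ * ∑ m : M, T m := by
    simp only [hT]
    rw [Finset.sum_comm, Finset.mul_sum]
    refine Finset.sum_congr rfl (fun b _ => ?_)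
    rw [hform (b : G), map_mul, map_inv₀, Complex.conj_natCast, map_sum, Finset.mul_sum,
      Finset.mul_sum, Finset.mul_sum]
    refine Finset.sum_congr rfl (fun m _ => ?_)
    ring
  rw [hlhs, hrhs] at hsumK
  have hTsum : ∑ m : M, T m = (Nat.card M : ℂ) * (Nat.card N : ℂ) := by
    have hee' : (e : ℂ) * (e : ℂ) * (Nat.card L : ℂ) = (Nat.card M : ℂ) := by
      exact_mod_cast hee
    have hcK' : (Nat.card K : ℂ) * (Nat.card L : ℂ) = (Nat.card M : ℂ) * (Nat.card N : ℂ) := by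
      exact_mod_cast hcardK
    have h1 : ∑ m : M, T m = (e : ℂ) * (e : ℂ) * (Nat.card K : ℂ) * (Nat.card L : ℂ)
        * (Nat.card L : ℂ) / (Nat.card M : ℂ) := by
      rw [hsumK]
      field_simp
    rw [h1, ← hcK']
    field_simp
    rw [← hee']
    ring
  -- real parts
  have hNsum : ∑ n : N, Complex.normSq (ϑ ⟨(n : G), hNH n.2⟩) = (Nat.card N : ℝ) := by
    have h := sum_normSq_subgroup H L N hLN hNH ϑ hϑ hϑL
    have h2 : ((∑ n : N, Complex.normSq (ϑ ⟨(n : G), hNH n.2⟩) : ℝ) : ℂ) = ((Nat.card N : ℝ) : ℂ) := by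
      push_cast
      rw [← h]
      refine Finset.sum_congr rfl (fun n _ => ?_)
      rw [Complex.mul_conj]
    exact_mod_cast h2
  -- the conjugated sum is at most `|N|`
  have hconjsum : ∀ m : M, ∑ n : N,
      Complex.normSq (extendByZero H ϑ ((m : G)⁻¹ * (n : G) * (m : G))) ≤ (Nat.card N : ℝ) := by
    intro m
    set g : G → ℝ := fun x => if x ∈ N then Complex.normSq (extendByZero H ϑ x) else 0 with hg
    have hg0 : ∀ x, 0 ≤ g x := by
      intro x
      simp only [hg]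
      split_ifs
      · exact Complex.normSq_nonneg _
      · exact le_rfl
    have h1 : ∀ n : N, Complex.normSq (extendByZero H ϑ ((m : G)⁻¹ * (n : G) * (m : G)))
        = g ((m : G)⁻¹ * (n : G) * (m : G)) := by
      intro n
      simp only [hg]
      split_ifs with hmem
      · rfl
      · have hK' : (m : G)⁻¹ * (n : G) * (m : G) ∈ K := by
          have := hK.conj_mem (n : G) (hNK n.2) (m : G)⁻¹
          simpa using this
        have : (m : G)⁻¹ * (n : G) * (m : G) ∉ H := by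
          intro hH
          have h5 : (m : G)⁻¹ * (n : G) * (m : G) ∈ K ⊓ H := Subgroup.mem_inf.2 ⟨hK', hH⟩
          rw [hKH] at h5
          exact hmem h5
        rw [Cfsg.Agent.Lib.Helper25.extendByZero_of_not_mem H ϑ this, map_zero]
    rw [Finset.sum_congr rfl (fun n _ => h1 n)]
    have h2 : ∑ n : N, g ((m : G)⁻¹ * (n : G) * (m : G))
        ≤ ∑ x : G, g ((m : G)⁻¹ * x * (m : G)) := by
      rw [sum_subgroup_eq_sum_filter N (fun x => g ((m : G)⁻¹ * x * (m : G)))]
      exact Finset.sum_le_sum_of_subset_of_nonneg (Finset.filter_subset _ _)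
        (fun x _ _ => hg0 _)
    have h3 : ∑ x : G, g ((m : G)⁻¹ * x * (m : G)) = ∑ x : G, g x := by
      refine Fintype.sum_equiv (MulAut.conj (m : G)⁻¹).toEquiv _ _ (fun x => ?_)
      simp
    have h4 : ∑ x : G, g x = ∑ n : N, Complex.normSq (ϑ ⟨(n : G), hNH n.2⟩) := by
      simp only [hg]
      rw [← Finset.sum_filter,
        ← sum_subgroup_eq_sum_filter N (fun x => Complex.normSq (extendByZero H ϑ x))]
      refine Finset.sum_congr rfl (fun n _ => ?_)
      rw [Cfsg.Agent.Lib.Helper25.extendByZero_of_mem H ϑ (hNH n.2)]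
    rw [h3, h4, hNsum] at h2
    exact h2
  -- the bad part
  set B : M → ℝ := fun m => ∑ n : N,
      (if (m : G)⁻¹ * (n : G) * (m : G) ∈ H then 0 else Complex.normSq (ϑ ⟨(n : G), hNH n.2⟩))
    with hB
  have hB0 : ∀ m, 0 ≤ B m := by
    intro m
    simp only [hB]
    refine Finset.sum_nonneg (fun n _ => ?_)
    split_ifs
    · exact le_rfl
    · exact Complex.normSq_nonneg _
  have hTre : ∀ m : M, (T m).re ≤ (Nat.card N : ℝ) - B m / 2 := by
    intro m
    simp only [hT, hB]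
    rw [Complex.re_sum]
    have hterm : ∀ n : N, (ϑ ⟨(n : G), hNH n.2⟩ *
        conj (extendByZero H ϑ ((m : G)⁻¹ * (n : G) * (m : G)))).re
        ≤ (Complex.normSq (ϑ ⟨(n : G), hNH n.2⟩)
            - (if (m : G)⁻¹ * (n : G) * (m : G) ∈ H then 0
                else Complex.normSq (ϑ ⟨(n : G), hNH n.2⟩))
            + Complex.normSq (extendByZero H ϑ ((m : G)⁻¹ * (n : G) * (m : G)))) / 2 := by
      intro n
      split_ifs with hmem
      · rw [sub_zero]
        exact re_mul_conj_le _ _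
      · rw [Cfsg.Agent.Lib.Helper25.extendByZero_of_not_mem H ϑ hmem]
        simp
    refine (Finset.sum_le_sum (fun n _ => hterm n)).trans ?_
    rw [← Finset.sum_div, Finset.sum_add_distrib, Finset.sum_sub_distrib, hNsum]
    have := hconjsum m
    linarith
  -- conclude `B m = 0`
  have hBzero : ∀ m : M, B m = 0 := by
    have h1 : ∑ m : M, (T m).re = (Nat.card M : ℝ) * (Nat.card N : ℝ) := by
      rw [← Complex.re_sum, hTsum]
      norm_cast
    have h2 : ∑ m : M, ((Nat.card N : ℝ) - B m / 2) = (Nat.card M : ℝ) * (Nat.card N : ℝ)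
        - (∑ m : M, B m) / 2 := by
      rw [Finset.sum_sub_distrib, Finset.sum_const, Finset.card_univ, nsmul_eq_mul,
        ← Nat.card_eq_fintype_card, Finset.sum_div]
    have h3 : ∑ m : M, (T m).re ≤ ∑ m : M, ((Nat.card N : ℝ) - B m / 2) :=
      Finset.sum_le_sum (fun m _ => hTre m)
    rw [h1, h2] at h3
    have h4 : ∑ m : M, B m ≤ 0 := by linarith
    have h5 : ∑ m : M, B m = 0 := le_antisymm h4 (Finset.sum_nonneg (fun m _ => hB0 m))
    intro m
    exact (Finset.sum_eq_zero_iff_of_nonneg (fun m _ => hB0 m)).1 h5 m (Finset.mem_univ _)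
  -- final contradiction
  intro m hm n hn
  by_contra hnot
  have hBm := hBzero ⟨m, hm⟩
  simp only [hB] at hBm
  have hzero : ∀ n' : N, (m⁻¹ * (n' : G) * m ∉ H) → ϑ ⟨(n' : G), hNH n'.2⟩ = 0 := by
    intro n' hn'
    have h := (Finset.sum_eq_zero_iff_of_nonneg (fun n _ => by
      split_ifs
      · exact le_rfl
      · exact Complex.normSq_nonneg _)).1 hBm n' (Finset.mem_univ _)
    rw [if_neg hn'] at h
    exact Complex.normSq_eq_zero.1 h
  have hcoset := sum_normSq_coset H L hLH ϑ hϑ hϑL ⟨n, hNH hn⟩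
  have hall : ∀ l : L, ϑ (⟨(l : G), hLH l.2⟩ * ⟨n, hNH hn⟩) = 0 := by
    intro l
    have hmem : (l : G) * n ∈ N := N.mul_mem (hLN l.2) hn
    have hnotH : m⁻¹ * ((l : G) * n) * m ∉ H := by
      intro hH
      apply hnot
      have hl' : m⁻¹ * (l : G) * m ∈ L := by
        have := hLn.conj_mem (l : G) l.2 m⁻¹
        simpa using this
      have : m⁻¹ * n * m = (m⁻¹ * (l : G) * m)⁻¹ * (m⁻¹ * ((l : G) * n) * m) := by group
      rw [this]
      exact H.mul_mem (H.inv_mem (hLH hl')) hH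
    exact hzero ⟨(l : G) * n, hmem⟩ hnotH
  rw [Finset.sum_congr rfl (fun l _ => by rw [hall l, zero_mul]), Finset.sum_const_zero] at hcoset
  exact hL0 hcoset.symm

end Cfsg.Agent.Lib.Helper15
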