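import Mathlib
import Cfsg.Prelude.Def_Transfer
import Cfsg.Agent.Lib.Helper15.CycSylDefs

set_option autoImplicit false

/-!
# S4016 hive: basic shared lemmas (Mathlib only)
-/

namespace Cfsg.Agent.Lib.Helper15.CycSyl

open Subgroup

variable {G : Type*} [Group G]

/-- `p`-part / `p'`-part decomposition of an element of finite order. -/
theorem exists_p_decomp [Finite G] (p : ℕ) [Fact p.Prime] (g : G) :
    ∃ a b : G, a ∈ zpowers g ∧ b ∈ zpowers g ∧ g = a * b ∧ (∃ k : ℕ, a ^ p ^ k = 1) ∧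
      (orderOf b).Coprime p := by
  have hp : p.Prime := Fact.out
  have hn : 0 < orderOf g := orderOf_pos g
  obtain ⟨k, m, hm, hnm⟩ := Nat.exists_eq_pow_mul_and_not_dvd hn.ne' p hp.ne_one
  have hcop : Nat.Coprime (p ^ k) m :=
    Nat.Coprime.pow_left k ((Nat.Prime.coprime_iff_not_dvd hp).mpr hm)
  -- Bezout
  have hbez : (Nat.gcd (p ^ k) m : ℤ) = (p ^ k : ℕ) * Nat.gcdA (p ^ k) m + m * Nat.gcdB (p ^ k) m :=
    Nat.gcd_eq_gcd_ab (p ^ k) m
  rw [hcop] at hbez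
  set s : ℤ := Nat.gcdA (p ^ k) m
  set t : ℤ := Nat.gcdB (p ^ k) m
  refine ⟨g ^ ((m : ℤ) * t), g ^ (((p ^ k : ℕ) : ℤ) * s), ⟨_, rfl⟩, ⟨_, rfl⟩, ?_, ⟨k, ?_⟩, ?_⟩
  · rw [← zpow_add]
    have : (m : ℤ) * t + ((p ^ k : ℕ) : ℤ) * s = 1 := by
      have := hbez; push_cast at this ⊢; linarith
    rw [this, zpow_one]
  · rw [← zpow_natCast, ← zpow_mul]
    have : (m : ℤ) * t * ((p ^ k : ℕ) : ℤ) = (orderOf g : ℤ) * t := by
      rw [hnm]; push_cast; ring
    rw [this, zpow_mul, zpow_natCast, pow_orderOf_eq_one, one_zpow]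
  · have h1 : (g ^ (((p ^ k : ℕ) : ℤ) * s)) ^ m = 1 := by
      rw [← zpow_natCast, ← zpow_mul]
      have : ((p ^ k : ℕ) : ℤ) * s * (m : ℤ) = (orderOf g : ℤ) * s := by
        rw [hnm]; push_cast; ring
      rw [this, zpow_mul, zpow_natCast, pow_orderOf_eq_one, one_zpow]
    have h2 : orderOf (g ^ (((p ^ k : ℕ) : ℤ) * s)) ∣ m := orderOf_dvd_of_pow_eq_one h1
    exact Nat.Coprime.coprime_dvd_left h2 ((Nat.Prime.coprime_iff_not_dvd hp).mpr hm).symm

/-- A `p`-element of `N(P)` lies in the Sylow `p`-subgroup `P`. -/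
theorem mem_sylow_of_mem_normalizer {p : ℕ} [Fact p.Prime] (P : Sylow p G) {g : G}
    (hg : g ∈ normalizer ((P : Subgroup G) : Set G)) (hgp : ∃ k : ℕ, g ^ p ^ k = 1) :
    g ∈ (P : Subgroup G) := by
  obtain ⟨k, hk⟩ := hgp
  have hZ : IsPGroup p (zpowers g) := by
    intro ⟨x, hx⟩
    obtain ⟨i, rfl⟩ := Subgroup.mem_zpowers_iff.mp hx
    refine ⟨k, Subtype.ext ?_⟩
    simp only [Subgroup.coe_pow, Subgroup.coe_one]
    rw [← zpow_natCast, ← zpow_mul, mul_comm, zpow_mul, zpow_natCast, hk, one_zpow]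
  have h1 := hZ.inf_normalizer_sylow P
  have h2 : g ∈ zpowers g ⊓ (P : Subgroup G) := by
    rw [← h1]
    exact ⟨Subgroup.mem_zpowers g, hg⟩
  exact h2.2

/-- Elements of a cyclic subgroup commute. -/
theorem comm_of_isCyclic (Q : Subgroup G) (hcyc : IsCyclic Q) :
    ∀ a ∈ Q, ∀ b ∈ Q, a * b = b * a := by
  intro a ha b hb
  obtain ⟨g, hg⟩ := hcyc.exists_generator
  obtain ⟨i, hi⟩ := Subgroup.mem_zpowers_iff.mp (hg ⟨a, ha⟩)
  obtain ⟨j, hj⟩ := Subgroup.mem_zpowers_iff.mp (hg ⟨b, hb⟩)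
  have := (Commute.zpow_zpow (Commute.refl g) i j).eq
  rw [hi, hj] at this
  exact congrArg Subtype.val this

/-- A cyclic subgroup lies in its centralizer. -/
theorem le_centralizer_of_isCyclic (Q : Subgroup G) (hcyc : IsCyclic Q) :
    Q ≤ centralizer (Q : Set G) := by
  intro a ha
  rw [Subgroup.mem_centralizer_iff]
  intro b hb
  exact comm_of_isCyclic Q hcyc b hb a ha

/-- Elements of a subgroup of order prime to `p` have order prime to `p`. -/
theorem coprime_orderOf_of_mem [Finite G] {p : ℕ} (L : Subgroup G) (hL : (Nat.card L).Coprime p)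
    {x : G} (hx : x ∈ L) : (orderOf x).Coprime p := by
  have h1 : orderOf (⟨x, hx⟩ : L) ∣ Nat.card L := orderOf_dvd_natCard _
  rw [← Subgroup.orderOf_coe] at h1
  exact Nat.Coprime.coprime_dvd_left h1 hL

/-- A `p`-element of order prime to `p` is trivial. -/
theorem eq_one_of_pow_of_coprime {p : ℕ} [Fact p.Prime] {g : G} (hgp : ∃ k : ℕ, g ^ p ^ k = 1)
    (hgo : (orderOf g).Coprime p) : g = 1 := by
  obtain ⟨k, hk⟩ := hgp
  have h1 : orderOf g ∣ p ^ k := orderOf_dvd_of_pow_eq_one hk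
  have h2 : (orderOf g).Coprime (p ^ k) := Nat.Coprime.pow_right k hgo
  have h3 : orderOf g = 1 := Nat.Coprime.eq_one_of_dvd h2 h1
  exact orderOf_eq_one_iff.mp h3

end Cfsg.Agent.Lib.Helper15.CycSyl
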