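import Mathlib
import Cfsg.Prelude.Def_Transfer
import Cfsg.Agent.Lib.Helper15.CycSylDefs
import Cfsg.Agent.Lib.Helper15.CycSylBasic
import Cfsg.Agent.Lib.Helper39.CycSylC1
import Cfsg.Agent.Lib.Helper68.CycSylC3
import Cfsg.Agent.Lib.Helper17.CycSylSZ
import Cfsg.Agent.Lib.Helper97.CycSylW5p
import Cfsg.Agent.Lib.Helper72.CycSylBURN
import Cfsg.Agent.Lib.Helper2.PComplement
import Cfsg.Agent.Lib.Helper11.NPC
import Cfsg.Agent.Lib.Helper19.PNil

set_option autoImplicit false
set_option linter.unusedSectionVars false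
set_option linter.style.haveILetI false

/-!
# S4016 hive: the local structure of the minimal counterexample (`Setup → Local`)
-/

namespace Cfsg.Agent.Lib.Helper15.CycSyl

open Subgroup

variable {G : Type*} [Group G] [Finite G] {p : ℕ} [Fact p.Prime]

theorem Setup.nc (h : Setup p G) (P : Sylow p G) :
    ¬ normalizer ((P : Subgroup G) : Set G) ≤ centralizer ((P : Subgroup G) : Set G) :=
  fun hle => h.notnil
    (Cfsg.Agent.Lib.Helper2.hasNormalPComplement_of_normalizer_le_centralizer P hle)

theorem Setup.not_hasNPC_normalizer (h : Setup p G) (P : Sylow p G) :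
    ¬ Cfsg.HasNormalPComplement p ↥(normalizer ((P : Subgroup G) : Set G)) := by
  intro hN
  apply h.nc P
  intro g hg
  obtain ⟨a, b, ha, hb, hgab, hap, hbo⟩ := exists_p_decomp p g
  have hzp : zpowers g ≤ normalizer ((P : Subgroup G) : Set G) := by
    rw [Subgroup.zpowers_le]; exact hg
  have haP : a ∈ (P : Subgroup G) := mem_sylow_of_mem_normalizer P (hzp ha) hap
  have haC : a ∈ centralizer ((P : Subgroup G) : Set G) :=
    le_centralizer_of_isCyclic _ (h.cyc P) haP
  have hbC : b ∈ centralizer ((P : Subgroup G) : Set G) :=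
    Cfsg.Agent.Lib.Helper19.PN.frob (K := normalizer ((P : Subgroup G) : Set G)) hN
      Subgroup.le_normalizer P.2 (hzp hb) (hzp hb) hbo
  rw [hgab]
  exact Subgroup.mul_mem _ haC hbC

theorem Setup.max (h : Setup p G) (P : Sylow p G) (X : Subgroup G) (hX : X ≠ ⊤)
    (hNX : normalizer ((P : Subgroup G) : Set G) ≤ X) :
    X = normalizer ((P : Subgroup G) : Set G) := by
  rcases h.proper X hX with hnil | ⟨Q, hQX, hQp, hXN, hall⟩
  · exact absurd (Cfsg.Agent.Lib.Helper11.hasNPC_of_le hNX hnil) (h.not_hasNPC_normalizer P)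
  · have hPQ : (P : Subgroup G) ≤ Q := by
      intro a ha
      apply hall a (hNX (Subgroup.le_normalizer ha))
      obtain ⟨k, hk⟩ := P.2 ⟨a, ha⟩
      exact ⟨k, by simpa using congrArg Subtype.val hk⟩
    have hQP : Q = (P : Subgroup G) := P.is_maximal' hQp hPQ
    rw [hQP] at hXN
    exact le_antisymm hXN hNX

theorem Setup.sylow_ne_top (h : Setup p G) (P : Sylow p G) : (P : Subgroup G) ≠ ⊤ := by
  intro htop
  apply h.notclosed P
  rw [htop]
  infer_instance

theorem Setup.nsub (h : Setup p G) (P : Sylow p G) (Q : Subgroup G)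
    (hQP : Q ≤ (P : Subgroup G)) (hQ : Q ≠ ⊥) :
    normalizer (Q : Set G) = normalizer ((P : Subgroup G) : Set G) := by
  apply h.max P
  · intro htop
    have hQn : Q.Normal := Subgroup.normalizer_eq_top_iff.mp htop
    haveI := h.simple
    rcases hQn.eq_bot_or_eq_top with hb | ht
    · exact hQ hb
    · apply h.sylow_ne_top P
      rw [eq_top_iff, ← ht]; exact hQP
  · exact normalizer_le_of_le_cyclic _ Q (h.cyc P) hQP

/-- Two Sylow `p`-subgroups with the same normalizer are equal. -/
theorem sylow_eq_of_normalizer_eq (P P' : Sylow p G)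
    (hN : normalizer ((P' : Subgroup G) : Set G) = normalizer ((P : Subgroup G) : Set G)) :
    P' = P := by
  have hle : (P' : Subgroup G) ≤ (P : Subgroup G) := by
    intro a ha
    have h1 : a ∈ normalizer ((P : Subgroup G) : Set G) := hN ▸ Subgroup.le_normalizer ha
    apply mem_sylow_of_mem_normalizer P h1
    obtain ⟨k, hk⟩ := P'.2 ⟨a, ha⟩
    exact ⟨k, by simpa using congrArg Subtype.val hk⟩
  exact Sylow.ext (P'.is_maximal' P.2 hle).symm

theorem mem_smul_sylow_iff (P : Sylow p G) (g x : G) :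
    x ∈ ((g • P : Sylow p G) : Subgroup G) ↔ g⁻¹ * x * g ∈ (P : Subgroup G) := by
  rw [Sylow.coe_subgroup_smul, Subgroup.mem_pointwise_smul_iff_inv_smul_mem]
  simp [MulAut.smul_def]

theorem Setup.ti (h : Setup p G) (P : Sylow p G) (g a : G) (ha : a ∈ (P : Subgroup G))
    (ha1 : a ≠ 1) (hga : g * a * g⁻¹ ∈ (P : Subgroup G)) :
    g ∈ normalizer ((P : Subgroup G) : Set G) := by
  set a' := g * a * g⁻¹ with ha'
  have ha'1 : a' ≠ 1 := by
    intro h1
    apply ha1
    have : a = g⁻¹ * a' * g := by rw [ha']; group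
    rw [this, h1]; group
  have hQ'P : zpowers a' ≤ (P : Subgroup G) := by rw [Subgroup.zpowers_le]; exact hga
  have hQ'1 : zpowers a' ≠ ⊥ := by rwa [Ne, Subgroup.zpowers_eq_bot]
  have hQ'P' : zpowers a' ≤ ((g • P : Sylow p G) : Subgroup G) := by
    rw [Subgroup.zpowers_le, mem_smul_sylow_iff]
    have : g⁻¹ * a' * g = a := by rw [ha']; group
    rw [this]; exact ha
  have h1 := h.nsub P _ hQ'P hQ'1
  have h2 := h.nsub (g • P) _ hQ'P' hQ'1
  have h3 : g • P = P := sylow_eq_of_normalizer_eq P (g • P) (h2.symm.trans h1)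
  exact Sylow.smul_eq_iff_mem_normalizer.mp h3

theorem Setup.cent_le (h : Setup p G) (P : Sylow p G) (v : G) (hv : v ∈ (P : Subgroup G))
    (hv1 : v ≠ 1) : centralizer ({v} : Set G) ≤ normalizer ((P : Subgroup G) : Set G) := by
  have hQP : zpowers v ≤ (P : Subgroup G) := by rw [Subgroup.zpowers_le]; exact hv
  have hQ1 : zpowers v ≠ ⊥ := by rwa [Ne, Subgroup.zpowers_eq_bot]
  rw [← h.nsub P _ hQP hQ1]
  intro c hc
  rw [Subgroup.mem_centralizer_iff] at hc
  have hcv : c * v * c⁻¹ = v := by
    have := hc v (Set.mem_singleton v)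
    rw [← this]; group
  have hcv' : c⁻¹ * v * c = v := by
    have := hc v (Set.mem_singleton v)
    rw [mul_assoc, this]; group
  rw [Subgroup.mem_normalizer_iff]
  intro x
  constructor
  · intro hx
    obtain ⟨i, rfl⟩ := Subgroup.mem_zpowers_iff.mp hx
    have : c * v ^ i * c⁻¹ = (c * v * c⁻¹) ^ i := by
      rw [conj_zpow]
    rw [this, hcv]
    exact Subgroup.zpow_mem_zpowers v i
  · intro hx
    obtain ⟨i, hi⟩ := Subgroup.mem_zpowers_iff.mp hx
    have hx' : x = c⁻¹ * (v ^ i) * c := by rw [hi]; group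
    have : c⁻¹ * v ^ i * c = (c⁻¹ * v * c) ^ i := by
      have := conj_zpow (a := c⁻¹) (b := v) (i := i)
      rw [inv_inv] at this
      exact this.symm
    rw [hx', this, hcv']
    exact Subgroup.zpow_mem_zpowers v i

theorem Setup.f1 (h : Setup p G) (P : Sylow p G) (v : G) (hv : v ∈ (P : Subgroup G))
    (hv1 : v ≠ 1) (y : G) (hy : Commute y v) (hyo : (orderOf y).Coprime p) :
    y ∈ centralizer ((P : Subgroup G) : Set G) := by
  have hyN : y ∈ normalizer ((P : Subgroup G) : Set G) := by
    apply h.cent_le P v hv hv1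
    rw [Subgroup.mem_centralizer_iff]
    intro z hz
    rw [Set.mem_singleton_iff] at hz
    rw [hz]; exact hy.eq.symm
  by_contra hyc
  apply cyc_fpf (P : Subgroup G) (h.cyc P) P.2 hyN hyo hyc v hv hv1
  rw [hy.eq]; group

theorem Setup.centralizer_ne_top (h : Setup p G) (x : G) (hx1 : x ≠ 1) :
    centralizer ({x} : Set G) ≠ ⊤ := by
  intro htop
  have hxc : x ∈ center G := by
    rw [Subgroup.mem_center_iff]
    intro g
    have hg : g ∈ centralizer ({x} : Set G) := htop ▸ Subgroup.mem_top g
    rw [Subgroup.mem_centralizer_iff] at hg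
    exact (hg x (Set.mem_singleton x)).symm
  haveI := h.simple
  rcases (inferInstance : (center G).Normal).eq_bot_or_eq_top with hb | ht
  · rw [hb, Subgroup.mem_bot] at hxc
    exact hx1 hxc
  · have P : Sylow p G := default
    apply h.notclosed P
    constructor
    intro n hn g
    have hgc : g ∈ center G := ht ▸ Subgroup.mem_top g
    rw [Subgroup.mem_center_iff] at hgc
    have : g * n * g⁻¹ = n := by rw [← hgc n]; group
    rwa [this]

theorem Setup.f2 (h : Setup p G) (P : Sylow p G) (x : G)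
    (hx : x ∈ centralizer ((P : Subgroup G) : Set G)) (hx1 : x ≠ 1)
    (hxo : (orderOf x).Coprime p) :
    centralizer ({x} : Set G) = normalizer ((P : Subgroup G) : Set G) := by
  apply h.max P _ (h.centralizer_ne_top x hx1)
  obtain ⟨L, hLN, hLP, hsup, hcop, -⟩ := exists_compl_normalizer P
  have hxL : x ∈ L := mem_compl_of_coprime P (h.cyc P) L hLN hsup hcop hx hxo
  rw [← hsup]
  apply sup_le
  · intro a ha
    rw [Subgroup.mem_centralizer_iff]
    intro z hz
    rw [Set.mem_singleton_iff] at hz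
    rw [hz]
    rw [Subgroup.mem_centralizer_iff] at hx
    exact (hx a ha).symm
  · intro l hl
    rw [Subgroup.mem_centralizer_iff]
    intro z hz
    rw [Set.mem_singleton_iff] at hz
    rw [hz]
    exact h.ab L hcop x hxL l hl

theorem Setup.f3 (h : Setup p G) (P : Sylow p G) (g x : G)
    (hx : x ∈ centralizer ((P : Subgroup G) : Set G)) (hx1 : x ≠ 1)
    (hxo : (orderOf x).Coprime p)
    (hgx : g * x * g⁻¹ ∈ centralizer ((P : Subgroup G) : Set G)) :
    g ∈ normalizer ((P : Subgroup G) : Set G) := by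
  set x' := g * x * g⁻¹ with hx'
  have hx'1 : x' ≠ 1 := by
    intro h1
    apply hx1
    have : x = g⁻¹ * x' * g := by rw [hx']; group
    rw [this, h1]; group
  have hx'o : (orderOf x').Coprime p := by
    have hsc : SemiconjBy g x x' := by
      unfold SemiconjBy; rw [hx']; group
    rwa [← SemiconjBy.orderOf_eq g hsc]
  have hx'P' : x' ∈ centralizer (((g • P : Sylow p G) : Subgroup G) : Set G) := by
    rw [Subgroup.mem_centralizer_iff]
    intro z hz
    have hz' : g⁻¹ * z * g ∈ (P : Subgroup G) := (mem_smul_sylow_iff P g z).mp hz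
    rw [Subgroup.mem_centralizer_iff] at hx
    have := hx _ hz'
    -- (g⁻¹ z g) x = x (g⁻¹ z g)
    have h2 : z * x' = x' * z := by
      rw [hx']
      calc z * (g * x * g⁻¹) = g * ((g⁻¹ * z * g) * x) * g⁻¹ := by group
        _ = g * (x * (g⁻¹ * z * g)) * g⁻¹ := by rw [this]
        _ = g * x * g⁻¹ * z := by group
    exact h2
  have h1 := h.f2 P x' hgx hx'1 hx'o
  have h2 := h.f2 (g • P) x' hx'P' hx'1 hx'o
  have h3 : g • P = P := sylow_eq_of_normalizer_eq P (g • P) (h2.symm.trans h1)
  exact Sylow.smul_eq_iff_mem_normalizer.mp h3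

/-- [S-LOC] the local structure. -/
theorem Setup.toLocal (h : Setup p G) : Local p G :=
  { h with
    nc := h.nc
    max := h.max
    nsub := h.nsub
    ti := h.ti
    f1 := h.f1
    f2 := h.f2
    f3 := h.f3
    burn := h.burn }

end Cfsg.Agent.Lib.Helper15.CycSyl
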