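import Mathlib
import Cfsg.Prelude.Def_Transfer
import Cfsg.Agent.Lib.Helper15.CycSylDefs
import Cfsg.Agent.Lib.Helper15.CycSylBasic
import Cfsg.Agent.Lib.Helper11.NPC
import Cfsg.Agent.Lib.Helper11.CycSylW9b

set_option autoImplicit false
set_option linter.unusedSectionVars false
set_option linter.style.haveILetI false

/-!
# S4016 hive, leaf W9c: for `p = 3`, proper subgroups of even order have order dividing `4 |P|`
-/

namespace Cfsg.Agent.Lib.Helper15.CycSyl

open Subgroup

variable {G : Type*} [Group G] [Finite G] {p : ℕ} [Fact p.Prime]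

/-- all Sylow normalizers have the same order -/
theorem w9c_card_normalizer (P P' : Sylow p G) :
    Nat.card (normalizer ((P' : Subgroup G) : Set G)) =
      Nat.card (normalizer ((P : Subgroup G) : Set G)) := by
  have h1 := Sylow.card_eq_index_normalizer P
  have h2 := Sylow.card_eq_index_normalizer P'
  have h3 := (normalizer ((P : Subgroup G) : Set G)).card_mul_index
  have h4 := (normalizer ((P' : Subgroup G) : Set G)).card_mul_index
  have hidx : (normalizer ((P' : Subgroup G) : Set G)).index =
      (normalizer ((P : Subgroup G) : Set G)).index := by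
    have a : (normalizer ((P' : Subgroup G) : Set G)).index = Nat.card (Sylow p G) := h2.symm
    have b : (normalizer ((P : Subgroup G) : Set G)).index = Nat.card (Sylow p G) := h1.symm
    rw [a, b]
  have hpos : 0 < (normalizer ((P : Subgroup G) : Set G)).index :=
    Nat.pos_of_ne_zero (Subgroup.index_ne_zero_of_finite)
  rw [hidx] at h4
  exact Nat.eq_of_mul_eq_mul_right hpos (h4.trans h3.symm)

/-- the core: `H` proper, containing an involution `x₀ ∈ C(P)`. -/
theorem w9c_core (h : Local p G) (hp3 : p = 3) (P : Sylow p G)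
    (hN : Nat.card (normalizer ((P : Subgroup G) : Set G)) = 4 * Nat.card (P : Subgroup G))
    (H : Subgroup G) (hH : H ≠ ⊤) {x₀ : G} (hx₀H : x₀ ∈ H)
    (hx₀C : x₀ ∈ centralizer ((P : Subgroup G) : Set G)) (hx₀ : orderOf x₀ = 2) :
    Nat.card H ∣ 4 * Nat.card (P : Subgroup G) := by
  have hp : p.Prime := Fact.out
  have hx₀1 : x₀ ≠ 1 := by
    intro h1; rw [h1, orderOf_one] at hx₀; omega
  have hx₀o : (orderOf x₀).Coprime p := by rw [hx₀, hp3]; norm_num
  have hcent : centralizer ({x₀} : Set G) = normalizer ((P : Subgroup G) : Set G) :=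
    h.f2 P x₀ hx₀C hx₀1 hx₀o
  -- abelian subgroups containing x₀ lie in N(P)
  have hab_le : ∀ K : Subgroup G, (Nat.card K).Coprime p → x₀ ∈ K →
      K ≤ normalizer ((P : Subgroup G) : Set G) := by
    intro K hK hxK
    rw [← hcent]
    intro k hk
    rw [Subgroup.mem_centralizer_iff]
    intro z hz
    rw [Set.mem_singleton_iff] at hz
    rw [hz]
    exact h.ab K hK x₀ hxK k hk
  rcases h.proper H hH with hnil | ⟨Q, hQH, hQp, hHN, hall⟩
  · -- p-nilpotent
    obtain ⟨K, hK⟩ := Cfsg.Agent.Lib.Helper11.exists_wit_of_hasNPC hnil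
    have hxK : (⟨x₀, hx₀H⟩ : H) ∈ K := by
      apply hK.mem_of_coprime
      rw [← Subgroup.orderOf_coe]; exact hx₀o
    set K' : Subgroup G := K.map H.subtype with hK'
    have hK'card : Nat.card K' = Nat.card K :=
      Subgroup.card_map_of_injective H.subtype_injective
    have hKcop : (Nat.card K).Coprime p :=
      Cfsg.Agent.Lib.Helper11.coprime_card_of_forall_orderOf K hK.2.1
    have hK'cop : (Nat.card K').Coprime p := by rw [hK'card]; exact hKcop
    have hxK' : x₀ ∈ K' := ⟨⟨x₀, hx₀H⟩, hxK, rfl⟩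
    have hK'N : K' ≤ normalizer ((P : Subgroup G) : Set G) := hab_le K' hK'cop hxK'
    have hdvd1 : Nat.card K' ∣ 4 * Nat.card (P : Subgroup G) := by
      rw [← hN]; exact Subgroup.card_dvd_of_le hK'N
    obtain ⟨j, hj⟩ := IsPGroup.iff_card.mp P.2
    have hK4 : Nat.card K ∣ 4 := by
      rw [← hK'card]
      have : (Nat.card K').Coprime (Nat.card (P : Subgroup G)) := by
        rw [hj]; exact Nat.Coprime.pow_right j hK'cop
      exact this.dvd_of_dvd_mul_right hdvd1
    -- index of K is a p-power dividing |P|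
    haveI := hK.1
    obtain ⟨m, hm⟩ := IsPGroup.iff_card.mp hK.isPGroup_quotient
    have hidx : K.index = p ^ m := by rw [Subgroup.index_eq_card]; exact hm
    have hHcard : Nat.card K * p ^ m = Nat.card H := by rw [← hidx]; exact K.card_mul_index
    have hpm : p ^ m ∣ Nat.card (P : Subgroup G) := by
      apply P.pow_dvd_card_of_pow_dvd_card
      have h1 : p ^ m ∣ Nat.card H := ⟨Nat.card K, by rw [← hHcard]; ring⟩
      exact h1.trans H.card_subgroup_dvd_card
    rw [← hHcard]
    exact Nat.mul_dvd_mul hK4 hpm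
  · -- p-closed
    by_cases hQ1 : Q = ⊥
    · -- H is a p'-group
      have hHcop : (Nat.card H).Coprime p := by
        rw [Nat.coprime_comm, Nat.Prime.coprime_iff_not_dvd hp]
        intro hdvd
        obtain ⟨y, hy⟩ := exists_prime_orderOf_dvd_card' p hdvd
        have hyQ : (y : G) ∈ Q := by
          apply hall (y : G) y.2
          refine ⟨1, ?_⟩
          rw [pow_one, ← hy, ← Subgroup.orderOf_coe, pow_orderOf_eq_one]
        rw [hQ1, Subgroup.mem_bot] at hyQ
        have : orderOf (y : G) = 1 := by rw [hyQ, orderOf_one]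
        rw [Subgroup.orderOf_coe, hy] at this
        exact hp.one_lt.ne' this
      rw [← hN]
      exact Subgroup.card_dvd_of_le (hab_le H hHcop hx₀H)
    · obtain ⟨P', hQP'⟩ := hQp.exists_le_sylow
      have hnorm := h.nsub P' Q hQP' hQ1
      rw [hnorm] at hHN
      rw [← hN, ← w9c_card_normalizer P P']
      exact Subgroup.card_dvd_of_le hHN

/-- [W9c] -/
theorem Local.even_dvd (h : Local p G) (hp3 : p = 3) (P : Sylow p G)
    (hN : Nat.card (normalizer ((P : Subgroup G) : Set G)) = 4 * Nat.card (P : Subgroup G))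
    (hC : Nat.card (centralizer ((P : Subgroup G) : Set G)) = 2 * Nat.card (P : Subgroup G)) :
    ∀ H : Subgroup G, H ≠ ⊤ → 2 ∣ Nat.card H → Nat.card H ∣ 4 * Nat.card (P : Subgroup G) := by
  intro H hH h2
  haveI : Fact (Nat.Prime 2) := ⟨Nat.prime_two⟩
  obtain ⟨z, hz⟩ := exists_prime_orderOf_dvd_card' 2 h2
  have hz' : orderOf (z : G) = 2 := by rw [Subgroup.orderOf_coe]; exact hz
  obtain ⟨g, hg⟩ := h.invol_conj hp3 P hN hC (z : G) hz'
  set f : G →* G := (MulAut.conj g).toMonoidHom with hf
  have hfinj : Function.Injective f := (MulAut.conj g).injective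
  set H' : Subgroup G := H.map f with hH'
  have hcard : Nat.card H' = Nat.card H := Subgroup.card_map_of_injective hfinj
  have hH'top : H' ≠ ⊤ := by
    intro htop
    apply hH
    rw [← Subgroup.card_eq_iff_eq_top, ← hcard, htop]
    exact Subgroup.card_top
  have hx₀H' : g * (z : G) * g⁻¹ ∈ H' := ⟨(z : G), z.2, by simp [hf, MulAut.conj_apply]⟩
  have hx₀o : orderOf (g * (z : G) * g⁻¹) = 2 := by
    have hsc : SemiconjBy g (z : G) (g * (z : G) * g⁻¹) := by
      unfold SemiconjBy; group
    rw [← SemiconjBy.orderOf_eq g hsc]; exact hz'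
  rw [← hcard]
  exact w9c_core h hp3 P hN H' hH'top hx₀H' hg hx₀o

end Cfsg.Agent.Lib.Helper15.CycSyl
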