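import Mathlib
import Cfsg.Prelude.Def_Transfer
import Cfsg.Agent.Lib.Helper15.CycSylDefs
import Cfsg.Agent.Lib.Helper15.CycSylBasic
import Cfsg.Agent.Lib.Helper15.CycSylLocal
import Cfsg.Agent.Lib.Helper17.CycSylSZ
import Cfsg.Agent.Lib.Helper17.CycSylA1
import Cfsg.Agent.Lib.Helper4.CycSylD1
import Cfsg.Agent.Lib.Helper4.CycSylD2
import Cfsg.Agent.Lib.Helper4.CycSylD3
import Cfsg.Agent.Lib.Helper68.CycSylB1
import Cfsg.Agent.Lib.Helper97.CycSylW5p
import Cfsg.Agent.Lib.Helper43.CycSylW9a
import Cfsg.Agent.Lib.Helper97.CycSylW4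
import Cfsg.Agent.Lib.Helper43.CycSylW5
import Cfsg.Agent.Lib.Helper11.CycSylW8a
import Cfsg.Agent.Lib.Helper11.CycSylW8b
import Cfsg.Agent.Lib.Helper15.CycSylW9c
import Cfsg.Agent.S4018

set_option autoImplicit false
set_option linter.unusedSectionVars false
set_option linter.style.haveILetI false

/-!
# S4016: assembly
-/

namespace Cfsg.Agent.Lib.Helper15.CycSyl

open Subgroup

universe u

variable {G : Type*} [Group G] [Finite G] {p : ℕ} [Fact p.Prime]

/-- [W8] (assembly) -/
theorem Local.three (h : Local p G) (P : Sylow p G) (L : Subgroup G) (u : G)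
    (hc : TConf p P L u) (hT : L ⊓ centralizer ((P : Subgroup G) : Set G) ≠ ⊥) :
    p = 3 ∧ Nat.card (normalizer ((P : Subgroup G) : Set G)) = 4 * Nat.card (P : Subgroup G) ∧
      Nat.card (centralizer ((P : Subgroup G) : Set G)) = 2 * Nat.card (P : Subgroup G) := by
  obtain ⟨hp, hL, hT', hN, hC⟩ := h.card_L P L u hc hT
  have hp3 := h.p_eq_three P L u hc hp hL hT'
  subst hp3
  refine ⟨rfl, ?_, ?_⟩
  · rw [hN]; ring
  · rw [hC]; ring

/-! ## Assembly (planner) -/

theorem Local.false_of_three (h : Local p G) (hp3 : p = 3) (P : Sylow p G)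
    (hN : Nat.card (normalizer ((P : Subgroup G) : Set G)) = 4 * Nat.card (P : Subgroup G))
    (hC : Nat.card (centralizer ((P : Subgroup G) : Set G)) = 2 * Nat.card (P : Subgroup G)) :
    False := by
  have hti := h.tiSubset P
  have hev := h.even_dvd hp3 P hN hC
  have hcyc := h.cyc P
  subst hp3
  have hab : IsMulCommutative (P : Subgroup G) := by
    obtain ⟨g, hg⟩ := hcyc.exists_generator
    refine ⟨⟨fun a b => ?_⟩⟩
    obtain ⟨i, rfl⟩ := Subgroup.mem_zpowers_iff.mp (hg a)
    obtain ⟨j, rfl⟩ := Subgroup.mem_zpowers_iff.mp (hg b)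
    exact (Commute.zpow_zpow (Commute.refl g) i j).eq
  exact Cfsg.Agent.S4018.result P hab hN hC hti hev h.simple

theorem Setup.false (h : Setup p G) : False := by
  have hl := h.toLocal
  obtain ⟨P, x, hx, hx1, hxo⟩ := hl.exists_T
  obtain ⟨L, u, hc⟩ := hl.exists_conf P x hx hx1 hxo
  have hT : L ⊓ centralizer ((P : Subgroup G) : Set G) ≠ ⊥ := by
    intro hbot
    have hxL : x ∈ L := mem_compl_of_coprime P (hl.cyc P) L hc.le hc.sup hc.cop hx hxo
    have : x ∈ L ⊓ centralizer ((P : Subgroup G) : Set G) := ⟨hxL, hx⟩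
    rw [hbot, Subgroup.mem_bot] at this
    exact hx1 this
  obtain ⟨hp3, hN, hC⟩ := hl.three P L u hc hT
  exact hl.false_of_three hp3 P hN hC

theorem card_quotient_lt (K : Subgroup G) [K.Normal] (hK : K ≠ ⊥) :
    Nat.card (G ⧸ K) < Nat.card G := by
  have h1 : Nat.card K * K.index = Nat.card G := K.card_mul_index
  have h2 : 1 < Nat.card K := by
    rw [Subgroup.one_lt_card_iff_ne_bot]; exact hK
  have h3 : 0 < K.index := Nat.pos_of_ne_zero K.index_ne_zero_of_finite
  rw [← Subgroup.index_eq_card, ← h1]
  nlinarith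

theorem card_subgroup_lt (N : Subgroup G) (hN : N ≠ ⊤) : Nat.card N < Nat.card G := by
  have h1 : Nat.card N * N.index = Nat.card G := N.card_mul_index
  have h2 : N.index ≠ 1 := fun h => hN (Subgroup.index_eq_one.mp h)
  have h3 : 0 < N.index := Nat.pos_of_ne_zero N.index_ne_zero_of_finite
  have h4 : 0 < Nat.card N := Nat.card_pos
  have h5 : 2 ≤ N.index := by omega
  rw [← h1]
  nlinarith

theorem main_aux (p : ℕ) [Fact p.Prime] : ∀ n : ℕ, ∀ (G : Type u) [Group G] [Finite G],
    Nat.card G = n → CycAb p G → Good p G := by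
  intro n
  induction n using Nat.strong_induction_on with
  | _ n ih =>
    intro G _ _ hn hG
    have IH : ∀ (X : Type u) [Group X] [Finite X], Nat.card X < Nat.card G → CycAb p X →
        Good p X := fun X _ _ hX hXc => ih (Nat.card X) (hn ▸ hX) X rfl hXc
    have ha : ∀ K : Subgroup G, K.Normal → K ≠ ⊥ → (Nat.card K).Coprime p → Good p G := by
      intro K hKn hK1 hK
      haveI := hKn
      exact good_of_quotient_p' hG K hK
        (IH (G ⧸ K) (card_quotient_lt K hK1) (cycAb_quotient hG K))
    have hb : ∀ D : Subgroup G, D.Normal → D ≠ ⊥ → IsPGroup p D → Good p G := by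
      intro D hDn hD1 hD
      haveI := hDn
      exact good_of_quotient_p hG D hD
        (IH (G ⧸ D) (card_quotient_lt D hD1) (cycAb_quotient hG D)) ha
    by_cases hex : ∃ N : Subgroup G, N.Normal ∧ N ≠ ⊥ ∧ N ≠ ⊤
    · obtain ⟨N, hNn, hN1, hN2⟩ := hex
      haveI := hNn
      exact good_of_normal_subgroup N hN1
        (IH N (card_subgroup_lt N hN2) (cycAb_subgroup hG N)) ha hb
    · by_contra hbad
      have hnil : ¬ Cfsg.HasNormalPComplement p G := fun h => hbad (Or.inl h)
      have hncl : ∀ P : Sylow p G, ¬ (P : Subgroup G).Normal := by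
        intro P hP
        apply hbad
        right
        intro Q
        haveI := Sylow.unique_of_normal P hP
        rwa [Subsingleton.elim Q P]
      have hnt : Nontrivial G := by
        by_contra hnt
        rw [not_nontrivial_iff_subsingleton] at hnt
        have P : Sylow p G := default
        apply hncl P
        constructor
        intro n hn g
        rwa [Subsingleton.elim (g * n * g⁻¹) n]
      have hsimple : IsSimpleGroup G := by
        refine { exists_pair_ne := hnt.exists_pair_ne, eq_bot_or_eq_top_of_normal := ?_ }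
        intro N hN
        by_contra hcon
        push Not at hcon
        exact hex ⟨N, hN, hcon.1, hcon.2⟩
      have hsetup : Setup p G :=
        { cyc := hG.1
          ab := hG.2
          proper := fun X hX =>
            good_sub X (IH X (card_subgroup_lt X hX) (cycAb_subgroup hG X))
          simple := hsimple
          notnil := hnil
          notclosed := hncl }
      exact hsetup.false

/-- S4016. -/
theorem main {G : Type u} [Group G] [Finite G] {p : ℕ} [Fact p.Prime] (P : Sylow p G)
    (hcyc : IsCyclic (P : Subgroup G))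
    (hab : ∀ H : Subgroup G, ¬ p ∣ Nat.card H → IsMulCommutative H) :
    Cfsg.HasNormalPComplement p G ∨ (P : Subgroup G).Normal := by
  have hp : p.Prime := Fact.out
  have hG : CycAb p G := by
    refine ⟨fun Q => ?_, fun H hH a ha b hb => ?_⟩
    · obtain ⟨g, hg⟩ := MulAction.exists_smul_eq G P Q
      rw [← hg]
      have e : (P : Subgroup G) ≃* ((g • P : Sylow p G) : Subgroup G) := P.equivSMul g
      exact isCyclic_of_surjective e e.surjective
    · have h1 : ¬ p ∣ Nat.card H := by
        rwa [← Nat.Prime.coprime_iff_not_dvd hp, Nat.coprime_comm]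
      have h2 := hab H h1
      have := h2.is_comm.comm (⟨a, ha⟩ : H) ⟨b, hb⟩
      exact congrArg Subtype.val this
  rcases main_aux p (Nat.card G) G rfl hG with h | h
  · exact Or.inl h
  · exact Or.inr (h P)

end Cfsg.Agent.Lib.Helper15.CycSyl
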