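import Mathlib
import Cfsg.Prelude.Def_Characters
import Cfsg.Agent.Lib.Helper74.FS7
import Cfsg.Agent.Lib.Helper79.OddMult

set_option autoImplicit false
set_option linter.unusedSectionVars false
set_option linter.style.haveILetI false

/-!
A real-valued irreducible character which contains the trivial character of a subgroup with odd
multiplicity has Frobenius–Schur indicator `+1`: the fixed space of a subgroup on a representation
carrying an invariant nondegenerate alternating form is even-dimensional.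
-/

namespace Cfsg.Agent.Lib.Helper15.OddFixed

open Cfsg Matrix Cfsg.Agent.Lib.Helper74 Cfsg.Agent.Lib.Helper79
open scoped ComplexConjugate

universe u

section
variable {H : Type*} [Group H] [Fintype H] {n : ℕ} (τ : Representation ℂ H (Fin n → ℂ))

/-- The trivial representation on `Fin 1 → ℂ`. -/
def triv1 (H : Type*) [Group H] : Representation ℂ H (Fin 1 → ℂ) := 1

theorem repMat_triv1 (h : H) : repMat (triv1 H) h = 1 := by
  unfold repMat triv1
  rw [MonoidHom.one_apply, Module.End.one_eq_id, LinearMap.toMatrix'_id]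

theorem character_triv1 (h : H) : (triv1 H).character h = 1 := by
  rw [← trace_repMat, repMat_triv1]
  simp

theorem mem_interSp_triv1 (A : Matrix (Fin n) (Fin 1) ℂ) :
    A ∈ interSp τ (triv1 H) ↔ ∀ h, repMat τ h * A = A := by
  rw [mem_interSp]
  simp only [repMat_triv1, Matrix.mul_one]

/-- the pairing `uᵀ M w` of two column vectors -/
def pair (M : Matrix (Fin n) (Fin n) ℂ) (u w : Matrix (Fin n) (Fin 1) ℂ) : ℂ :=
  (uᵀ * M * w) 0 0

theorem pair_add_left (M : Matrix (Fin n) (Fin n) ℂ) (u u' w : Matrix (Fin n) (Fin 1) ℂ) :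
    pair M (u + u') w = pair M u w + pair M u' w := by
  unfold pair
  rw [Matrix.transpose_add, Matrix.add_mul, Matrix.add_mul, Matrix.add_apply]

theorem pair_smul_left (M : Matrix (Fin n) (Fin n) ℂ) (c : ℂ) (u w : Matrix (Fin n) (Fin 1) ℂ) :
    pair M (c • u) w = c * pair M u w := by
  unfold pair
  rw [Matrix.transpose_smul, Matrix.smul_mul, Matrix.smul_mul, Matrix.smul_apply, smul_eq_mul]

theorem pair_add_right (M : Matrix (Fin n) (Fin n) ℂ) (u w w' : Matrix (Fin n) (Fin 1) ℂ) :
    pair M u (w + w') = pair M u w + pair M u w' := by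
  unfold pair
  rw [Matrix.mul_add, Matrix.add_apply]

theorem pair_smul_right (M : Matrix (Fin n) (Fin n) ℂ) (c : ℂ) (u w : Matrix (Fin n) (Fin 1) ℂ) :
    pair M u (c • w) = c * pair M u w := by
  unfold pair
  rw [Matrix.mul_smul, Matrix.smul_apply, smul_eq_mul]

theorem pair_sum_left {ι : Type*} (s : Finset ι) (M : Matrix (Fin n) (Fin n) ℂ)
    (u : ι → Matrix (Fin n) (Fin 1) ℂ) (w : Matrix (Fin n) (Fin 1) ℂ) :
    pair M (∑ i ∈ s, u i) w = ∑ i ∈ s, pair M (u i) w := by
  classical
  induction s using Finset.induction_on with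
  | empty =>
    simp [pair]
  | insert a s ha ih =>
    rw [Finset.sum_insert ha, Finset.sum_insert ha, pair_add_left, ih]

theorem pair_sum_right {ι : Type*} (s : Finset ι) (M : Matrix (Fin n) (Fin n) ℂ)
    (u : Matrix (Fin n) (Fin 1) ℂ) (w : ι → Matrix (Fin n) (Fin 1) ℂ) :
    pair M u (∑ i ∈ s, w i) = ∑ i ∈ s, pair M u (w i) := by
  classical
  induction s using Finset.induction_on with
  | empty =>
    simp [pair]
  | insert a s ha ih =>
    rw [Finset.sum_insert ha, Finset.sum_insert ha, pair_add_right, ih]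

theorem pair_skew {M : Matrix (Fin n) (Fin n) ℂ} (hM : Mᵀ = -M) (u w : Matrix (Fin n) (Fin 1) ℂ) :
    pair M w u = -pair M u w := by
  unfold pair
  have h1 : (wᵀ * M * u) 0 0 = ((wᵀ * M * u)ᵀ) 0 0 := by rw [Matrix.transpose_apply]
  have h2 : (wᵀ * M * u)ᵀ = -(uᵀ * M * w) := by
    rw [Matrix.transpose_mul, Matrix.transpose_mul, Matrix.transpose_transpose, hM,
      Matrix.neg_mul, Matrix.mul_neg, Matrix.mul_assoc]
  rw [h1, h2, Matrix.neg_apply]

/-- the fixed space of a representation with an invariant nondegenerate alternating form is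
even-dimensional -/
theorem even_finrank_interSp_triv1 {M₀ : Matrix (Fin n) (Fin n) ℂ} (hM₀ : M₀ ∈ invForms τ)
    (hs : M₀ᵀ = -M₀) (hd : M₀.det ≠ 0) :
    Even (Module.finrank ℂ (interSp τ (triv1 H))) := by
  classical
  set W := interSp τ (triv1 H) with hW
  set k := Module.finrank ℂ W with hk
  let b : Module.Basis (Fin k) ℂ W := Module.finBasis ℂ W
  let Γ : Matrix (Fin k) (Fin k) ℂ := fun i j =>
    pair M₀ (b i : Matrix (Fin n) (Fin 1) ℂ) (b j : Matrix (Fin n) (Fin 1) ℂ)
  have hΓs : Γᵀ = -Γ := by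
    ext i j
    rw [Matrix.transpose_apply, Matrix.neg_apply]
    exact pair_skew hs _ _
  -- key: the averaging argument
  have hkey : ∀ w : Matrix (Fin n) (Fin 1) ℂ, w ∈ W → w ≠ 0 → ∃ u ∈ W, pair M₀ u w ≠ 0 := by
    intro w hw hw0
    have hMw : M₀ * w ≠ 0 := by
      intro h0
      apply hw0
      have h1 : M₀⁻¹ * (M₀ * w) = w := by
        rw [← Matrix.mul_assoc, Matrix.nonsing_inv_mul _ (isUnit_iff_ne_zero.mpr hd),
          Matrix.one_mul]
      rw [← h1, h0, Matrix.mul_zero]
    obtain ⟨i, hi⟩ : ∃ i, (M₀ * w) i 0 ≠ 0 := by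
      by_contra hcon
      push Not at hcon
      apply hMw
      ext i j
      have hj : j = 0 := Subsingleton.elim _ _
      rw [hj, hcon i, Matrix.zero_apply]
    let u0 : Matrix (Fin n) (Fin 1) ℂ := Matrix.single i 0 1
    have hu0 : pair M₀ u0 w = (M₀ * w) i 0 := by
      unfold pair
      rw [Matrix.mul_assoc, Matrix.mul_apply]
      simp [u0, Matrix.single_apply, Matrix.transpose_apply]
    refine ⟨avgHom τ (triv1 H) u0, avgHom_mem τ (triv1 H) u0, ?_⟩
    rw [avgHom_apply, pair_smul_left, pair_sum_left]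
    have hterm : ∀ h : H, pair M₀ (repMat τ h * u0 * repMat (triv1 H) h⁻¹) w = pair M₀ u0 w := by
      intro h
      rw [repMat_triv1, Matrix.mul_one]
      unfold pair
      have hw' : repMat τ h * w = w := ((mem_interSp_triv1 τ w).1 hw) h
      have e1 : (repMat τ h * u0)ᵀ * M₀ * w = u0ᵀ * ((repMat τ h)ᵀ * M₀ * repMat τ h) * w := by
        rw [Matrix.transpose_mul]
        conv_lhs => rw [← hw']
        simp only [Matrix.mul_assoc]
      rw [e1, hM₀ h]
    rw [Finset.sum_congr rfl (fun h _ => hterm h), Finset.sum_const, Finset.card_univ,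
      nsmul_eq_mul, ← Nat.card_eq_fintype_card, ← mul_assoc,
      inv_mul_cancel₀ card_ne_zero_complex, one_mul, hu0]
    exact hi
  have hdet : Γ.det ≠ 0 := by
    intro h0
    obtain ⟨c, hc0, hc⟩ := Matrix.exists_mulVec_eq_zero_iff.mpr h0
    let w : W := ∑ j, c j • b j
    have hw0 : (w : Matrix (Fin n) (Fin 1) ℂ) ≠ 0 := by
      intro h
      have h1 : w = 0 := Subtype.ext h
      have h2 := (Fintype.linearIndependent_iff.mp b.linearIndependent) c h1
      apply hc0
      funext j
      exact h2 j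
    obtain ⟨u, hu, hne⟩ := hkey w w.2 hw0
    apply hne
    have hwc : (w : Matrix (Fin n) (Fin 1) ℂ) = ∑ j, c j • (b j : Matrix (Fin n) (Fin 1) ℂ) := by
      simp [w]
    have hbi : ∀ i, pair M₀ (b i : Matrix (Fin n) (Fin 1) ℂ) w = 0 := by
      intro i
      rw [hwc, pair_sum_right]
      have := congrFun hc i
      rw [Matrix.mulVec, dotProduct] at this
      simp only [Pi.zero_apply] at this
      rw [← this]
      apply Finset.sum_congr rfl
      intro j _
      rw [pair_smul_right, mul_comm]
    have hu' : u = ∑ i, (b.repr ⟨u, hu⟩ i) • (b i : Matrix (Fin n) (Fin 1) ℂ) := by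
      have h2 : ((∑ i, (b.repr ⟨u, hu⟩ i) • b i : W) : Matrix (Fin n) (Fin 1) ℂ) = u := by
        rw [b.sum_repr]
      rw [Submodule.coe_sum] at h2
      simp only [Submodule.coe_smul] at h2
      exact h2.symm
    rw [hu', pair_sum_left]
    apply Finset.sum_eq_zero
    intro i _
    rw [pair_smul_left, hbi i, mul_zero]
  have h1 : Γ.det = (-1 : ℂ) ^ k * Γ.det := by
    have := congrArg Matrix.det hΓs
    rw [Matrix.det_transpose, Matrix.det_neg, Fintype.card_fin] at this
    exact this
  have h2 : (-1 : ℂ) ^ k = 1 := by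
    have h3 : ((-1 : ℂ) ^ k - 1) * Γ.det = 0 := by
      rw [sub_mul, one_mul, ← h1, sub_self]
    rcases mul_eq_zero.mp h3 with h | h
    · exact sub_eq_zero.mp h
    · exact absurd h hdet
  by_contra hodd
  rw [Nat.not_even_iff_odd] at hodd
  rw [hodd.neg_one_pow] at h2
  norm_num at h2

end

/-- A real-valued irreducible character whose restriction to a subgroup contains the trivial
character with odd multiplicity has Frobenius–Schur indicator `+1`. -/
theorem fs_eq_one_of_odd_fixed {G : Type u} [Group G] [Fintype G] (I : Subgroup G)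
    [Fintype I] {χ : G → ℂ} (hχ : IsIrrCharacter G χ) (hreal : ∀ g, (χ g).im = 0)
    (k : ℕ) (hk : Odd k)
    (hmult : classInner (fun i : I => χ i) (fun _ : I => (1 : ℂ)) = (k : ℂ)) :
    (Nat.card G : ℂ)⁻¹ * ∑ s : G, χ (s * s) = 1 := by
  rcases fs_of_real hχ hreal with h | h
  · exact h
  · exfalso
    obtain ⟨n, ρ, hρ, rfl⟩ := hχ
    obtain ⟨M₀, hM₀0, hM₀, -, hM₀s, -⟩ := exists_form_of_real ρ hρ hreal
    have hρfs : fsInd ρ = -1 := h
    rw [hρfs, neg_one_smul] at hM₀s
    have hdet : M₀.det ≠ 0 := det_ne_zero_of_mem_invForms ρ hρ hM₀ hM₀0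
    let τ : Representation ℂ I (Fin n → ℂ) := ρ.comp I.subtype
    have hM₀' : M₀ ∈ invForms τ := fun h => hM₀ (h : G)
    have heven := even_finrank_interSp_triv1 τ hM₀' hM₀s hdet
    have hfr := finrank_interSp τ (triv1 I)
    have hc1 : τ.character = fun i : I => ρ.character i := by
      funext i
      rfl
    have hc2 : (triv1 I).character = fun _ : I => (1 : ℂ) := by
      funext i
      exact character_triv1 i
    rw [hc1, hc2, hmult] at hfr
    have : Module.finrank ℂ (interSp τ (triv1 I)) = k := by exact_mod_cast hfr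
    rw [this] at heven
    exact (Nat.not_even_iff_odd.mpr hk) heven

end Cfsg.Agent.Lib.Helper15.OddFixed
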