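import Mathlib
import Cfsg.Prelude.Def_Characters
import Cfsg.Prelude.Def_Blocks
import Cfsg.Agent.Lib.Helper15.OddFixed
import Cfsg.Agent.Lib.Helper15.IrrCrit
import Cfsg.Agent.Lib.Helper25.Ind
import Cfsg.Agent.Lib.Helper3.Induced
import Cfsg.Agent.Lib.Helper3.CharOps
import Cfsg.Agent.Lib.Helper3.OddOrder
import Cfsg.Agent.Lib.Helper74.DZ4
import Cfsg.Agent.Lib.Helper79.CliffordCorr
import Cfsg.Agent.Lib.Helper81.Irr
import Cfsg.Agent.Lib.Helper75.CliffordCorr
import Cfsg.Agent.S0887

set_option autoImplicit false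
set_option linter.unusedSectionVars false
set_option linter.style.haveILetI false

/-!
Strongly real characters over a character of `2`-defect zero of a normal subgroup with `2`-group
quotient.
-/

namespace Cfsg.Agent.Lib.Helper15.DefZeroReal

open Cfsg Cfsg.Agent.Lib.Helper3 Cfsg.Agent.Lib.Helper25
open scoped ComplexConjugate

universe u

variable {G : Type u} [Group G] [Fintype G]

/-- The complex conjugate irreducible character. -/
noncomputable def conjIrr (β : IrrCharacter G) : IrrCharacter G :=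
  ⟨fun g => conj ((β : G → ℂ) g), IsIrrCharacter.conj β.2⟩

theorem conjIrr_apply (β : IrrCharacter G) (g : G) :
    (conjIrr β : G → ℂ) g = conj ((β : G → ℂ) g) := rfl

theorem conjIrr_conjIrr (β : IrrCharacter G) : conjIrr (conjIrr β) = β := by
  apply Subtype.ext
  funext g
  simp [conjIrr_apply]

section Vanish

variable (N : Subgroup G) [hN : N.Normal] (φ : IrrCharacter N)

/-- A character of `2`-defect zero induces to a function vanishing on nontrivial `2`-elements. -/
theorem indFun_two_elt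
    (hdef : 2 ^ (Nat.card N).factorization 2 ∣ charDegree (φ : N → ℂ))
    (u : G) (hu : 2 ∣ orderOf u) : indFun N (φ : N → ℂ) u = 0 := by
  haveI := Fintype.ofFinite N
  rw [indFun_apply]
  have hterm : ∀ x : G, extendByZero N (φ : N → ℂ) (x⁻¹ * u * x) = 0 := by
    intro x
    by_cases hmem : x⁻¹ * u * x ∈ N
    · rw [extendByZero_of_mem N _ hmem]
      apply Cfsg.Agent.Lib.Helper74.dz_vanish φ 2 Nat.prime_two hdef
      have h1 : orderOf (⟨x⁻¹ * u * x, hmem⟩ : N) = orderOf (x⁻¹ * u * x) :=
        Subgroup.orderOf_mk _ _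
      have h2 : orderOf (x⁻¹ * u * x) = orderOf u := by
        have := (MulAut.conj x⁻¹).orderOf_eq u
        simpa [MulAut.conj_apply] using this
      rw [h1, h2]
      exact hu
    · exact extendByZero_of_not_mem N _ hmem
  rw [Finset.sum_congr rfl (fun x _ => hterm x), Finset.sum_const_zero, mul_zero]

end Vanish

section Count

variable (N : Subgroup G) [hN : N.Normal] (φ : IrrCharacter N) (P : Sylow 2 G)

theorem two_dvd_orderOf_of_mem_sylow (u : (P : Subgroup G)) (hu : u ≠ 1) : 2 ∣ orderOf (u : G) := by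
  obtain ⟨k, hk⟩ := (IsPGroup.iff_orderOf.1 P.isPGroup') u
  have hk0 : k ≠ 0 := by
    intro h
    rw [h, pow_zero, orderOf_eq_one_iff] at hk
    exact hu hk
  rw [Subgroup.orderOf_coe, hk]
  exact dvd_pow_self 2 hk0

/-- `[φ^G, (1_P)^G] = φ(1) |G : N| / |P|`. -/
theorem classInner_ind_ind
    (hdef : 2 ^ (Nat.card N).factorization 2 ∣ charDegree (φ : N → ℂ)) :
    classInner (indFun N (φ : N → ℂ)) (indFun (P : Subgroup G) (fun _ => (1 : ℂ))) =
      (Nat.card (P : Subgroup G) : ℂ)⁻¹ * ((N.index : ℂ) * (charDegree (φ : N → ℂ) : ℂ)) := by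
  haveI := Fintype.ofFinite (P : Subgroup G)
  have hcf : IsClassFunction G (indFun N (φ : N → ℂ)) :=
    IsCharacter.isClassFunction (isCharacter_indFun N (IsIrrCharacter.isCharacter φ.2))
  rw [frobenius_reciprocity' (P : Subgroup G) _ _ hcf, classInner_def]
  congr 1
  rw [Finset.sum_eq_single (1 : (P : Subgroup G))]
  · rw [OneMemClass.coe_one, Cfsg.Agent.Lib.Helper75.indFun_apply_one,
      Cfsg.Agent.Lib.Helper81.irr_apply_one_eq_charDegree, map_one, mul_one]
  · intro u _ hu1
    rw [indFun_two_elt N φ hdef (u : G) (two_dvd_orderOf_of_mem_sylow P u hu1), zero_mul]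
  · intro h
    exact absurd (Finset.mem_univ _) h

/-- The arithmetic: `φ(1) |G : N| = m |P|` with `m` odd. -/
theorem exists_odd_cofactor (h2 : IsPGroup 2 (G ⧸ N))
    (hdef : 2 ^ (Nat.card N).factorization 2 ∣ charDegree (φ : N → ℂ)) :
    ∃ m : ℕ, Odd m ∧ N.index * charDegree (φ : N → ℂ) = m * Nat.card (P : Subgroup G) := by
  haveI : Fact (Nat.Prime 2) := ⟨Nat.prime_two⟩
  haveI := Fintype.ofFinite N
  obtain ⟨j, hj⟩ := h2.exists_card_eq
  have hidx : N.index = 2 ^ j := by rw [Subgroup.index_eq_card, hj]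
  set v := (Nat.card N).factorization 2 with hv
  obtain ⟨m, hm⟩ := hdef
  obtain ⟨k, hk⟩ := Cfsg.Agent.Lib.Helper74.irr_charDegree_dvd_card φ
  have hN0 : Nat.card N ≠ 0 := Nat.card_pos.ne'
  -- `m * k` is odd
  have hmk : ¬ 2 ∣ m * k := by
    intro hdvd
    have h1 : 2 ^ (v + 1) ∣ Nat.card N := by
      rw [hk, hm, pow_succ, mul_assoc]
      exact Nat.mul_dvd_mul_left _ hdvd
    have h2' := (Nat.Prime.pow_dvd_iff_le_factorization Nat.prime_two hN0).1 h1
    omega
  have hmodd : Odd m := by
    rw [← Nat.not_even_iff_odd, even_iff_two_dvd]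
    intro h
    exact hmk (Dvd.dvd.mul_right h k)
  refine ⟨m, hmodd, ?_⟩
  have hG : Nat.card G = 2 ^ (v + j) * (m * k) := by
    rw [← Subgroup.card_mul_index N, hidx, hk, hm, pow_add]
    ring
  have hP : Nat.card (P : Subgroup G) = 2 ^ (v + j) := by
    rw [Sylow.card_eq_multiplicity P, hG]
    congr 1
    have hmk0 : m * k ≠ 0 := by
      intro h0
      rw [h0] at hmk
      exact hmk (dvd_zero 2)
    rw [Nat.factorization_mul (pow_ne_zero _ (by norm_num)) hmk0, Nat.factorization_pow,
      Finsupp.add_apply, Finsupp.smul_apply, Nat.Prime.factorization_self Nat.prime_two,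
      Nat.factorization_eq_zero_of_not_dvd hmk]
    simp
  rw [hP, hidx, hm, pow_add]
  ring

end Count

section Main

variable (N : Subgroup G) [hN : N.Normal] [Fintype N] (φ : IrrCharacter N)

/-- The multiplicity in a permutation character is invariant under complex conjugation. -/
theorem classInner_indOne_conjIrr (H : Subgroup G) [Fintype H] (χ : IrrCharacter G) (a : ℕ)
    (ha : classInner (indFun H (fun _ => (1 : ℂ))) (χ : G → ℂ) = a) :
    classInner (indFun H (fun _ => (1 : ℂ))) (conjIrr χ : G → ℂ) = a := by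
  have hcf : IsClassFunction G (χ : G → ℂ) :=
    IsCharacter.isClassFunction (IsIrrCharacter.isCharacter χ.2)
  have hcf' : IsClassFunction G (conjIrr χ : G → ℂ) :=
    IsCharacter.isClassFunction (IsIrrCharacter.isCharacter (conjIrr χ).2)
  rw [frobenius_reciprocity H _ _ hcf] at ha
  rw [frobenius_reciprocity H _ _ hcf']
  have h1 : classInner (fun _ : H => (1 : ℂ)) (fun h : H => (conjIrr χ : G → ℂ) h) =
      conj (classInner (fun _ : H => (1 : ℂ)) (fun h : H => (χ : G → ℂ) h)) := by
    simp only [classInner_def, conjIrr_apply, map_mul, map_sum, map_inv₀, Complex.conj_natCast,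
      map_one, Complex.conj_conj]
  rw [h1, ha, Complex.conj_natCast]

/-- The multiplicity in `φ^G` is invariant under complex conjugation when `φ̄` is conjugate to
`φ`. -/
theorem classInner_indPhi_conjIrr
    (hconj : ∃ g : G, ∀ n n' : N, (n' : G) = g * (n : G) * g⁻¹ →
      (φ : N → ℂ) n' = conj ((φ : N → ℂ) n))
    (χ : IrrCharacter G) (e : ℕ)
    (he : classInner (indFun N (φ : N → ℂ)) (χ : G → ℂ) = e) :
    classInner (indFun N (φ : N → ℂ)) (conjIrr χ : G → ℂ) = e := by
  obtain ⟨g, hg⟩ := hconj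
  have hcf : IsClassFunction G (χ : G → ℂ) :=
    IsCharacter.isClassFunction (IsIrrCharacter.isCharacter χ.2)
  have hcf' : IsClassFunction G (conjIrr χ : G → ℂ) :=
    IsCharacter.isClassFunction (IsIrrCharacter.isCharacter (conjIrr χ).2)
  rw [frobenius_reciprocity N _ _ hcf] at he
  rw [frobenius_reciprocity N _ _ hcf']
  have h1 : classInner (φ : N → ℂ) (fun n : N => (conjIrr χ : G → ℂ) n) =
      conj (classInner (φ : N → ℂ) (fun n : N => (χ : G → ℂ) n)) := by
    simp only [classInner_def, conjIrr_apply, map_mul, map_sum, map_inv₀, Complex.conj_natCast,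
      Complex.conj_conj]
    congr 1
    rw [← Equiv.sum_comp (MulAut.conjNormal g : N ≃* N).toEquiv]
    apply Finset.sum_congr rfl
    intro n _
    have h2 : (φ : N → ℂ) ((MulAut.conjNormal g : N ≃* N).toEquiv n) = conj ((φ : N → ℂ) n) := by
      apply hg
      simp [MulAut.conjNormal_apply]
    have h3 : (χ : G → ℂ) (((MulAut.conjNormal g : N ≃* N).toEquiv n : N) : G) =
        (χ : G → ℂ) (n : G) := by
      have : (((MulAut.conjNormal g : N ≃* N).toEquiv n : N) : G) = g * (n : G) * g⁻¹ := by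
        simp [MulAut.conjNormal_apply]
      rw [this]
      exact hcf (n : G) g
    rw [h2, h3]
  rw [h1, he, Complex.conj_natCast]

theorem exists_real_over (h2 : IsPGroup 2 (G ⧸ N))
    (hdef : 2 ^ (Nat.card N).factorization 2 ∣ charDegree (φ : N → ℂ))
    (hconj : ∃ g : G, ∀ n n' : N, (n' : G) = g * (n : G) * g⁻¹ →
      (φ : N → ℂ) n' = conj ((φ : N → ℂ) n)) :
    ∃ χ : IrrCharacter G, (Nat.card G : ℂ)⁻¹ * ∑ g : G, (χ : G → ℂ) (g * g) = 1 ∧
      classInner (fun n : N => (χ : G → ℂ) n) (φ : N → ℂ) = 1 := by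
  classical
  haveI : Fintype (IrrCharacter G) := Fintype.ofFinite _
  haveI : Fact (Nat.Prime 2) := ⟨Nat.prime_two⟩
  obtain ⟨P⟩ : Nonempty (Sylow 2 G) := inferInstance
  haveI := Fintype.ofFinite (P : Subgroup G)
  obtain ⟨m, hmodd, hm⟩ := exists_odd_cofactor N φ P h2 hdef
  have hΦ : IsCharacter G (indFun N (φ : N → ℂ)) :=
    isCharacter_indFun N (IsIrrCharacter.isCharacter φ.2)
  have hPi : IsCharacter G (indFun (P : Subgroup G) (fun _ => (1 : ℂ))) :=
    isCharacter_indFun (P : Subgroup G) IsCharacter.one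
  obtain ⟨e, he, hedec⟩ := Cfsg.Agent.Lib.Helper15.exists_nat_decomp hΦ
  obtain ⟨a, ha, -⟩ := Cfsg.Agent.Lib.Helper15.exists_nat_decomp hPi
  -- the count
  have hsum : ∑ χ : IrrCharacter G, e χ * a χ = m := by
    have h1 := classInner_ind_ind N φ P hdef
    have h3 : classInner (indFun N (φ : N → ℂ)) (indFun (P : Subgroup G) (fun _ => (1 : ℂ))) =
        ∑ χ : IrrCharacter G, (e χ : ℂ) * (a χ : ℂ) := by
      conv_lhs => rw [hedec]
      rw [Cfsg.Agent.Lib.Helper25.classInner_sum_left]
      apply Finset.sum_congr rfl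
      intro χ _
      rw [Cfsg.Agent.Lib.Helper25.classInner_smul_left, ← Cfsg.Agent.Lib.Helper25.classInner_conj_symm, ha, Complex.conj_natCast]
    rw [h3] at h1
    have hP0 : (Nat.card (P : Subgroup G) : ℂ) ≠ 0 := by exact_mod_cast Nat.card_pos.ne'
    have h4 : (Nat.card (P : Subgroup G) : ℂ)⁻¹ *
        ((N.index : ℂ) * (charDegree (φ : N → ℂ) : ℂ)) = (m : ℂ) := by
      rw [← Nat.cast_mul, hm]
      push_cast
      field_simp
    rw [h4] at h1
    exact_mod_cast h1
  have hec : ∀ χ : IrrCharacter G, e (conjIrr χ) = e χ := by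
    intro χ
    have := classInner_indPhi_conjIrr N φ hconj χ (e χ) (he χ)
    rw [he] at this
    exact_mod_cast this
  have hac : ∀ χ : IrrCharacter G, a (conjIrr χ) = a χ := by
    intro χ
    have := classInner_indOne_conjIrr (P : Subgroup G) χ (a χ) (ha χ)
    rw [ha] at this
    exact_mod_cast this
  -- parity
  have hpar : ∃ χ : IrrCharacter G, conjIrr χ = χ ∧ Odd (e χ * a χ) := by
    by_contra hcon
    push Not at hcon
    have hz : (∑ χ : IrrCharacter G, ((e χ * a χ : ℕ) : ZMod 2)) = 0 := by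
      rw [← Finset.sum_filter_add_sum_filter_not Finset.univ
        (fun χ : IrrCharacter G => conjIrr χ = χ)]
      have h1 : ∑ χ ∈ Finset.univ.filter (fun χ : IrrCharacter G => conjIrr χ = χ),
          ((e χ * a χ : ℕ) : ZMod 2) = 0 := by
        apply Finset.sum_eq_zero
        intro χ hχ
        have := hcon χ (Finset.mem_filter.1 hχ).2
        rw [Nat.not_odd_iff_even] at this
        exact (ZMod.natCast_eq_zero_iff_even).2 this
      have h2 : ∑ χ ∈ Finset.univ.filter (fun χ : IrrCharacter G => ¬ conjIrr χ = χ),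
          ((e χ * a χ : ℕ) : ZMod 2) = 0 := by
        refine Finset.sum_involution (fun χ _ => conjIrr χ) ?_ ?_ ?_ ?_
        · intro χ _
          rw [hec, hac]
          exact CharTwo.add_self_eq_zero _
        · intro χ hχ _
          exact (Finset.mem_filter.1 hχ).2
        · intro χ hχ
          rw [Finset.mem_filter]
          refine ⟨Finset.mem_univ _, ?_⟩
          rw [conjIrr_conjIrr]
          intro h
          exact (Finset.mem_filter.1 hχ).2 h.symm
        · intro χ _
          exact conjIrr_conjIrr χ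
      rw [h1, h2, add_zero]
    have h5 : ((m : ℕ) : ZMod 2) = 0 := by
      rw [← hsum]
      push_cast
      exact_mod_cast hz
    rw [ZMod.natCast_eq_zero_iff_even] at h5
    exact (Nat.not_even_iff_odd.2 hmodd) h5
  obtain ⟨χ, hχreal, hodd⟩ := hpar
  have heodd : Odd (e χ) := (Nat.odd_mul.1 hodd).1
  have haodd : Odd (a χ) := (Nat.odd_mul.1 hodd).2
  have hcf : IsClassFunction G (χ : G → ℂ) :=
    IsCharacter.isClassFunction (IsIrrCharacter.isCharacter χ.2)
  have hreal : ∀ g : G, ((χ : G → ℂ) g).im = 0 := by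
    intro g
    have h1 := congrFun (congrArg Subtype.val hχreal) g
    rw [conjIrr_apply] at h1
    exact Complex.conj_eq_iff_im.1 h1
  refine ⟨χ, ?_, ?_⟩
  · apply Cfsg.Agent.Lib.Helper15.OddFixed.fs_eq_one_of_odd_fixed (P : Subgroup G) χ.2 hreal
      (a χ) haodd
    rw [← Cfsg.Agent.Lib.Helper25.classInner_conj_symm, ← frobenius_reciprocity (P : Subgroup G) _ _ hcf, ha,
      Complex.conj_natCast]
  · -- `e χ = 1`
    have heq : classInner (fun n : N => (χ : G → ℂ) n) (φ : N → ℂ) = (e χ : ℂ) := by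
      rw [← Cfsg.Agent.Lib.Helper25.classInner_conj_symm, ← frobenius_reciprocity N _ _ hcf, he, Complex.conj_natCast]
    have he0 : e χ ≠ 0 := by
      intro h0
      rw [h0] at heodd
      exact (Nat.not_odd_iff_even.2 (by decide)) heodd
    have hcon : classInner (fun n : N => (χ : G → ℂ) n) (φ : N → ℂ) ≠ 0 := by
      rw [heq]
      exact_mod_cast he0
    have hc := Cfsg.Agent.Lib.Helper81.irr_apply_one_eq_charDegree χ
    have hd := Cfsg.Agent.Lib.Helper81.irr_apply_one_eq_charDegree φ
    obtain ⟨-, hdiv⟩ := Cfsg.Agent.S0887.result N (χ : G → ℂ) χ.2 (φ : N → ℂ) φ.2 hcon _ _ hc hd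
    have hdeg := Cfsg.Agent.Lib.Helper79.clifford_degree N χ.2 φ.2 hcon
    rw [heq, hc, hd] at hdeg
    have hdeg' : charDegree (χ : G → ℂ) =
        e χ * (Cfsg.Agent.Lib.Helper79.inertia N (φ : N → ℂ)).index * charDegree (φ : N → ℂ) := by
      exact_mod_cast hdeg
    have hd0 : 0 < charDegree (φ : N → ℂ) :=
      Nat.pos_of_ne_zero (Cfsg.Agent.Lib.Helper81.irr_charDegree_ne_zero φ)
    rw [hdeg', Nat.mul_div_cancel _ hd0] at hdiv
    obtain ⟨j, hj⟩ := h2.exists_card_eq
    have hidx : N.index = 2 ^ j := by rw [Subgroup.index_eq_card, hj]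
    rw [hidx] at hdiv
    have hediv : e χ ∣ 2 ^ j := Dvd.dvd.trans (Dvd.intro _ rfl) hdiv
    obtain ⟨i, -, hi⟩ := (Nat.dvd_prime_pow Nat.prime_two).1 hediv
    have hi0 : i = 0 := by
      by_contra hne
      rw [hi] at heodd
      exact (Nat.not_odd_iff_even.2 ((Nat.even_pow' hne).2 even_two)) heodd
    rw [heq, hi, hi0, pow_zero, Nat.cast_one]

end Main

end Cfsg.Agent.Lib.Helper15.DefZeroReal
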