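import Mathlib
import Cfsg.Agent.Lib.Helper24.SZCompl

set_option autoImplicit false
set_option linter.unusedSectionVars false

/-!
# The coset `N a` of a normal Hall subgroup with cyclic complement `⟨a⟩`

Every element of `N a` is `N`-conjugate to an element of `C a`, where `C = C_N(a)`; and the fusion
of `C a` is controlled by `C_Γ(a)`.
-/

namespace Cfsg.Agent.Lib.Helper15

universe u

section GlaubCoset

variable {Γ : Type u} [Group Γ] (N : Subgroup Γ) (a : Γ)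

/-- `C_N(a)` -/
def fixSub : Subgroup Γ := N ⊓ Subgroup.centralizer {a}

variable {N a}

theorem mem_fixSub {x : Γ} : x ∈ fixSub N a ↔ x ∈ N ∧ x * a = a * x := by
  unfold fixSub
  rw [Subgroup.mem_inf, Subgroup.mem_centralizer_singleton_iff]

theorem fixSub_le : fixSub N a ≤ N := inf_le_left

/-- the exponent `k₀ ≡ 1 (mod |a|)`, `k₀ ≡ 0 (mod |N|)`. -/
theorem exists_k0 (hcop : (Nat.card N).Coprime (orderOf a)) :
    ∃ k : ℕ, a ^ k = a ∧ Nat.card N ∣ k := by
  obtain ⟨k, h1, h2⟩ := Nat.chineseRemainder hcop.symm 1 0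
  refine ⟨k, ?_, (Nat.modEq_zero_iff_dvd).1 h2⟩
  have := (pow_eq_pow_iff_modEq (x := a)).2 h1
  rwa [pow_one] at this

theorem pow_eq_one_of_card_dvd {k : ℕ} (hk : Nat.card N ∣ k) {g : Γ} (hg : g ∈ N) : g ^ k = 1 := by
  have h3 : orderOf g ∣ Nat.card N := by
    have := orderOf_dvd_natCard (⟨g, hg⟩ : N)
    rwa [← Subgroup.orderOf_coe] at this
  exact orderOf_dvd_iff_pow_eq_one.1 (h3.trans hk)

theorem fix_mul_pow_k0 {k : ℕ} (hk : a ^ k = a ∧ Nat.card N ∣ k) {c : Γ}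
    (hc : c ∈ fixSub N a) : (c * a) ^ k = a := by
  rw [mem_fixSub] at hc
  have hcomm : Commute c a := hc.2
  rw [hcomm.mul_pow, hk.1, pow_eq_one_of_card_dvd hk.2 hc.1, one_mul]

/-- fusion in `C a` is controlled by the centralizer of `a`. -/
theorem conj_fix_mul (hcop : (Nat.card N).Coprime (orderOf a)) {c c' : Γ}
    (hc : c ∈ fixSub N a) (hc' : c' ∈ fixSub N a) (z : Γ)
    (h : z * (c * a) * z⁻¹ = c' * a) : z * a = a * z ∧ z * c * z⁻¹ = c' := by
  obtain ⟨k, hk⟩ := exists_k0 hcop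
  have h1 : z * a * z⁻¹ = a := by
    have h2 : (z * (c * a) * z⁻¹) ^ k = z * (c * a) ^ k * z⁻¹ := conj_pow
    rw [h, fix_mul_pow_k0 hk hc, fix_mul_pow_k0 hk hc'] at h2
    exact h2.symm
  constructor
  · calc z * a = z * a * z⁻¹ * z := by group
      _ = a * z := by rw [h1]
  · calc z * c * z⁻¹ = z * (c * a) * z⁻¹ * (z * a * z⁻¹)⁻¹ := by group
      _ = c' := by rw [h, h1]; group

variable [Finite Γ] [hN : N.Normal]

/-- every element of `N a` is `N`-conjugate into `C a`. -/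
theorem exists_conj_fix_mul (hcop : (Nat.card N).Coprime (orderOf a))
    (hidx : N.index = orderOf a) {h : Γ} (hh : h ∈ N) :
    ∃ g ∈ N, ∃ c ∈ fixSub N a, g * (h * a) * g⁻¹ = c * a := by
  obtain ⟨k, hk⟩ := exists_k0 hcop
  set x := h * a with hx
  set y := x ^ k with hy
  have hmkx : (QuotientGroup.mk x : Γ ⧸ N) = QuotientGroup.mk a := by
    rw [hx, QuotientGroup.mk_mul, (QuotientGroup.eq_one_iff h).2 hh, one_mul]
  have hmky : (QuotientGroup.mk y : Γ ⧸ N) = QuotientGroup.mk a := by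
    rw [hy, QuotientGroup.mk_pow, hmkx, ← QuotientGroup.mk_pow, hk.1]
  have hcard : Nat.card N * orderOf a = Nat.card Γ := by
    rw [← hidx]; exact Subgroup.card_mul_index N
  have hyn : y ^ orderOf a = 1 := by
    rw [hy, ← pow_mul]
    apply orderOf_dvd_iff_pow_eq_one.1
    apply (orderOf_dvd_natCard x).trans
    rw [← hcard]
    exact Nat.mul_dvd_mul_right hk.2 _
  have hdisj : N ⊓ Subgroup.zpowers a = ⊥ := by
    apply disjoint_iff.1
    apply Subgroup.disjoint_of_coprime_natCard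
    rwa [Nat.card_zpowers]
  have hord : orderOf y = orderOf a := by
    apply Nat.dvd_antisymm (orderOf_dvd_of_pow_eq_one hyn)
    apply orderOf_dvd_of_pow_eq_one
    have h1 : a ^ orderOf y ∈ N ⊓ Subgroup.zpowers a := by
      refine Subgroup.mem_inf.2 ⟨?_, Subgroup.npow_mem_zpowers a _⟩
      rw [← QuotientGroup.eq_one_iff, QuotientGroup.mk_pow, ← hmky, ← QuotientGroup.mk_pow,
        pow_orderOf_eq_one, QuotientGroup.mk_one]
    rw [hdisj] at h1
    exact h1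
  have hcop' : (Nat.card N).Coprime N.index := by rwa [hidx]
  have hKa : Subgroup.IsComplement' N (Subgroup.zpowers a) := by
    apply Subgroup.isComplement'_of_coprime
    · rw [Nat.card_zpowers]; exact hcard
    · rwa [Nat.card_zpowers]
  have hKy : Subgroup.IsComplement' N (Subgroup.zpowers y) := by
    apply Subgroup.isComplement'_of_coprime
    · rw [Nat.card_zpowers, hord]; exact hcard
    · rwa [Nat.card_zpowers, hord]
  have hsolv : Group.IsSolvable (Subgroup.zpowers y) :=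
    Group.isSolvable_of_comm fun u v => by
      obtain ⟨u, hu⟩ := u
      obtain ⟨v, hv⟩ := v
      obtain ⟨i, rfl⟩ := Subgroup.mem_zpowers_iff.1 hu
      obtain ⟨j, rfl⟩ := Subgroup.mem_zpowers_iff.1 hv
      apply Subtype.ext
      show y ^ i * y ^ j = y ^ j * y ^ i
      rw [← zpow_add, ← zpow_add, add_comm]
  obtain ⟨g, hgN, hg⟩ := Cfsg.Agent.Lib.Helper24.sz_conj_of_solvable_compl N hcop'
    (Subgroup.zpowers y) (Subgroup.zpowers a) hsolv hKy hKa
  have hgy : g * y * g⁻¹ ∈ Subgroup.zpowers a := by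
    rw [← hg]
    exact ⟨y, Subgroup.mem_zpowers y, rfl⟩
  have hmkg : (QuotientGroup.mk g : Γ ⧸ N) = 1 := (QuotientGroup.eq_one_iff g).2 hgN
  have hgya : g * y * g⁻¹ = a := by
    have h1 : g * y * g⁻¹ * a⁻¹ ∈ N ⊓ Subgroup.zpowers a := by
      refine Subgroup.mem_inf.2
        ⟨?_, Subgroup.mul_mem _ hgy (Subgroup.inv_mem _ (Subgroup.mem_zpowers a))⟩
      rw [← QuotientGroup.eq_one_iff]
      simp only [QuotientGroup.mk_mul, QuotientGroup.mk_inv, hmkg, hmky]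
      group
    rw [hdisj, Subgroup.mem_bot] at h1
    exact mul_inv_eq_one.1 h1
  -- now `x' = g x g⁻¹` has `x' ^ k = a`
  have hx'k : (g * x * g⁻¹) ^ k = a := by
    rw [conj_pow, ← hy, hgya]
  have hcomm : Commute (g * x * g⁻¹) a := by
    rw [← hx'k]
    exact Commute.pow_right (Commute.refl _) k
  refine ⟨g, hgN, g * x * g⁻¹ * a⁻¹, ?_, by group⟩
  rw [mem_fixSub]
  constructor
  · rw [← QuotientGroup.eq_one_iff]
    simp only [QuotientGroup.mk_mul, QuotientGroup.mk_inv, hmkg, hmkx]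
    group
  · have := hcomm.eq
    calc g * x * g⁻¹ * a⁻¹ * a = g * x * g⁻¹ := by group
      _ = a * (g * x * g⁻¹) * a⁻¹ := by rw [← this]; group
      _ = a * (g * x * g⁻¹ * a⁻¹) := by group

/-- transfer of sums of class functions from `N a` to `C a`. -/
theorem card_fix_mul_sum_coset [Fintype N] [Fintype (fixSub N a)]
    (hcop : (Nat.card N).Coprime (orderOf a)) (hidx : N.index = orderOf a)
    (F : Γ → ℂ) (hF : ∀ x g : Γ, F (g * x * g⁻¹) = F x) :
    (Nat.card (fixSub N a) : ℂ) * ∑ h : N, F ((h : Γ) * a)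
      = (Nat.card N : ℂ) * ∑ c : fixSub N a, F ((c : Γ) * a) := by
  classical
  choose g₀ hg₀ c₀ hc₀ hgc using fun h : N => exists_conj_fix_mul hcop hidx h.2
  -- the map `e`
  let e : N × fixSub N a → N × fixSub N a := fun p =>
    (⟨(g₀ p.1)⁻¹ * p.2, N.mul_mem (N.inv_mem (hg₀ p.1)) (fixSub_le p.2.2)⟩,
      ⟨(p.2 : Γ)⁻¹ * c₀ p.1 * p.2,
        Subgroup.mul_mem _ (Subgroup.mul_mem _ (Subgroup.inv_mem _ p.2.2) (hc₀ p.1)) p.2.2⟩)
  have hΦ : ∀ p : N × fixSub N a,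
      ((e p).1 : Γ) * (((e p).2 : Γ) * a) * ((e p).1 : Γ)⁻¹ = (p.1 : Γ) * a := by
    intro p
    have hu : (p.2 : Γ) * a = a * p.2 := (mem_fixSub.1 p.2.2).2
    have h1 := hgc p.1
    show (g₀ p.1)⁻¹ * (p.2 : Γ) * (((p.2 : Γ)⁻¹ * c₀ p.1 * p.2) * a) * ((g₀ p.1)⁻¹ * (p.2 : Γ))⁻¹
      = (p.1 : Γ) * a
    calc (g₀ p.1)⁻¹ * (p.2 : Γ) * (((p.2 : Γ)⁻¹ * c₀ p.1 * p.2) * a) * ((g₀ p.1)⁻¹ * (p.2 : Γ))⁻¹
        = (g₀ p.1)⁻¹ * (c₀ p.1 * ((p.2 : Γ) * a) * (p.2 : Γ)⁻¹) * g₀ p.1 := by group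
      _ = (g₀ p.1)⁻¹ * (c₀ p.1 * a) * g₀ p.1 := by rw [hu]; group
      _ = (p.1 : Γ) * a := by rw [← h1]; group
  have hinj : Function.Injective e := by
    intro p q hpq
    have h1 : (p.1 : Γ) * a = (q.1 : Γ) * a := by rw [← hΦ p, ← hΦ q, hpq]
    have h2 : p.1 = q.1 := Subtype.ext (mul_right_cancel h1)
    have h3 : ((e p).1 : Γ) = ((e q).1 : Γ) := by rw [hpq]
    have h4 : (g₀ p.1)⁻¹ * (p.2 : Γ) = (g₀ q.1)⁻¹ * (q.2 : Γ) := h3
    rw [h2] at h4
    exact Prod.ext h2 (Subtype.ext (mul_left_cancel h4))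
  have hbij : Function.Bijective e := Finite.injective_iff_bijective.1 hinj
  have hsum := hbij.sum_comp (fun p : N × fixSub N a => F ((p.1 : Γ) * ((p.2 : Γ) * a) * (p.1 : Γ)⁻¹))
  simp only [hΦ] at hsum
  simp only [hF] at hsum
  rw [Fintype.sum_prod_type, Fintype.sum_prod_type] at hsum
  simp only [Finset.sum_const, Finset.card_univ, nsmul_eq_mul] at hsum
  rw [← Finset.mul_sum] at hsum
  rw [Nat.card_eq_fintype_card, Nat.card_eq_fintype_card]
  exact hsum

end GlaubCoset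

end Cfsg.Agent.Lib.Helper15
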