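import Cfsg.Prelude.Def_CharExt
import Cfsg.Agent.Lib.Helper3.Decomp
import Cfsg.Agent.Lib.Helper15.LinearChar

set_option autoImplicit false

namespace Cfsg.Agent.Lib.Helper15

open Cfsg

universe u

section General

variable {G : Type u} [Group G]

theorem detChar_mul (χ : G → ℂ) (g h : G) : detChar χ (g * h) = detChar χ g * detChar χ h := by
  unfold detChar
  split_ifs with hχ
  · simp only [map_mul]
  · simp

theorem detChar_one (χ : G → ℂ) : detChar χ 1 = 1 := by
  unfold detChar
  split_ifs with hχ
  · simp only [map_one]
  · rfl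

/-- The determinantal character as a monoid homomorphism. -/
noncomputable def detCharHom (χ : G → ℂ) : G →* ℂ where
  toFun := detChar χ
  map_one' := detChar_one χ
  map_mul' := detChar_mul χ

theorem detCharHom_apply (χ : G → ℂ) (g : G) : detCharHom χ g = detChar χ g := rfl

theorem detChar_isLinear (χ : G → ℂ) : IsCharacter G (detChar χ) ∧ detChar χ 1 = 1 :=
  isCharacter_of_hom (detCharHom χ)

end General

section Finite

variable {G : Type u} [Group G] [Finite G]

/-- The determinantal character can be computed from any representation affording `χ`. -/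
theorem detChar_eq_det {V : Type*} [AddCommGroup V] [Module ℂ V] [FiniteDimensional ℂ V]
    (ρ : Representation ℂ G V) (g : G) : detChar ρ.character g = LinearMap.det (ρ g) := by
  classical
  have : Fintype G := Fintype.ofFinite G
  have h : IsCharacter G ρ.character := Cfsg.Agent.Lib.Helper3.isCharacter_character ρ
  unfold detChar
  rw [dif_pos h]
  have hspec := Classical.choose_spec (Classical.choose_spec h)
  obtain ⟨φ⟩ := Cfsg.Agent.Lib.Helper3.nonempty_equiv_of_character_eq _ ρ hspec
  have h1 := φ.isIntertwining' g
  have h2 : ρ g = φ.toLinearEquiv.toLinearMap ∘ₗ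
      (Classical.choose (Classical.choose_spec h)) g ∘ₗ φ.toLinearEquiv.symm.toLinearMap := by
    rw [← LinearMap.comp_assoc]
    have h1' : φ.toLinearEquiv.toLinearMap ∘ₗ (Classical.choose (Classical.choose_spec h)) g
        = ρ g ∘ₗ φ.toLinearEquiv.toLinearMap := h1
    rw [h1', LinearMap.comp_assoc]
    have h3 : φ.toLinearEquiv.toLinearMap ∘ₗ φ.toLinearEquiv.symm.toLinearMap = LinearMap.id := by
      ext v
      exact φ.toLinearEquiv.apply_symm_apply v
    rw [h3, LinearMap.comp_id]
  show LinearMap.det ((Classical.choose (Classical.choose_spec h)) g) = _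
  rw [h2, LinearMap.det_conj]

/-- Twist of a representation by a homomorphism to `ℂˣ`. -/
noncomputable def twistRep {V : Type*} [AddCommGroup V] [Module ℂ V] (β : G →* ℂˣ)
    (ρ : Representation ℂ G V) : Representation ℂ G V where
  toFun g := ((β g : ℂˣ) : ℂ) • ρ g
  map_one' := by simp
  map_mul' a b := by
    rw [map_mul, map_mul, Units.val_mul, smul_mul_smul_comm]

omit [Finite G] in
theorem twistRep_apply {V : Type*} [AddCommGroup V] [Module ℂ V] (β : G →* ℂˣ)
    (ρ : Representation ℂ G V) (g : G) : twistRep β ρ g = ((β g : ℂˣ) : ℂ) • ρ g := rfl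

omit [Finite G] in
theorem twistRep_character {V : Type*} [AddCommGroup V] [Module ℂ V] (β : G →* ℂˣ)
    (ρ : Representation ℂ G V) :
    (twistRep β ρ).character = fun g => ((β g : ℂˣ) : ℂ) * ρ.character g := by
  funext g
  unfold Representation.character
  rw [twistRep_apply, map_smul, smul_eq_mul]

theorem detChar_twist {χ : G → ℂ} (hχ : IsCharacter G χ) (d : ℕ) (hd : χ 1 = d) (β : G →* ℂˣ)
    (g : G) :
    detChar (fun x => ((β x : ℂˣ) : ℂ) * χ x) g = ((β g : ℂˣ) : ℂ) ^ d * detChar χ g := by
  obtain ⟨n, ρ, rfl⟩ := hχ
  have hn : n = d := by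
    rw [Representation.char_one, Module.finrank_fin_fun] at hd
    exact_mod_cast hd
  subst hn
  rw [← twistRep_character, detChar_eq_det, detChar_eq_det, twistRep_apply, LinearMap.det_smul,
    Module.finrank_fin_fun]

theorem detChar_restrict {χ : G → ℂ} (hχ : IsCharacter G χ) (H : Subgroup G) (h : H) :
    detChar (fun x : H => χ x) h = detChar χ (h : G) := by
  obtain ⟨n, ρ, rfl⟩ := hχ
  have h1 : (fun x : H => ρ.character x)
      = Representation.character
        (MonoidHom.comp ρ H.subtype : Representation ℂ H (Fin n → ℂ)) := rfl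
  rw [h1, detChar_eq_det, detChar_eq_det]
  rfl

/-- The determinantal character of a composite with a group homomorphism. -/
theorem detChar_comp {H : Type u} [Group H] [Finite H] {χ : G → ℂ} (hχ : IsCharacter G χ)
    (f : H →* G) (h : H) : detChar (fun x : H => χ (f x)) h = detChar χ (f h) := by
  obtain ⟨n, ρ, rfl⟩ := hχ
  have h1 : (fun x : H => ρ.character (f x))
      = Representation.character
        (MonoidHom.comp ρ f : Representation ℂ H (Fin n → ℂ)) := rfl
  rw [h1, detChar_eq_det, detChar_eq_det]
  rfl

end Finite

end Cfsg.Agent.Lib.Helper15
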