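import Mathlib
import Cfsg.Agent.Lib.Helper15.LinearChar

set_option autoImplicit false

namespace Cfsg.Agent.Lib.Helper15

open Cfsg MonoidHom Subgroup

variable {G : Type*} [Group G]

/-- Transfer of an invariant hom from a normal subgroup of finite index, evaluated on the
subgroup, is the `index`-th power. -/
theorem transfer_eq_pow_of_invariant {N : Subgroup G} [hN : N.Normal] [N.FiniteIndex]
    {A : Type*} [CommGroup A] (ϕ : N →* A)
    (hinv : ∀ (g : G) (n : N), ϕ ⟨g * n * g⁻¹, hN.conj_mem (n : G) n.2 g⟩ = ϕ n) (n : N) :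
    transfer ϕ (n : G) = ϕ n ^ N.index := by
  classical
  have : Fintype (Quotient (MulAction.orbitRel (zpowers (n : G)) (G ⧸ N))) := Fintype.ofFinite _
  rw [transfer_eq_prod_quotient_orbitRel_zpowers_quot]
  have key : ∀ (x : G) (k : ℕ) (hx : x⁻¹ * (n : G) ^ k * x ∈ N),
      ϕ ⟨x⁻¹ * (n : G) ^ k * x, hx⟩ = ϕ n ^ k := by
    intro x k hx
    have h1 := hinv x⁻¹ (n ^ k)
    rw [map_pow] at h1
    rw [← h1]
    congr 1
    apply Subtype.ext
    simp
  simp_rw [key]
  rw [Finset.prod_pow_eq_pow_sum, ← index_eq_sum_minimalPeriod]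

/-- If `ϕ ^ k` is trivial then so is `(transfer ϕ) ^ k`. -/
theorem transfer_pow_eq_one {H : Subgroup G} [H.FiniteIndex]
    {A : Type*} [CommGroup A] (ϕ : H →* A) (k : ℕ) (hk : ∀ h : H, ϕ h ^ k = 1) (g : G) :
    transfer ϕ g ^ k = 1 := by
  classical
  have : Fintype (Quotient (MulAction.orbitRel (zpowers g) (G ⧸ H))) := Fintype.ofFinite _
  rw [transfer_eq_prod_quotient_orbitRel_zpowers_quot, ← Finset.prod_pow]
  exact Finset.prod_eq_one (fun q _ => hk _)

end Cfsg.Agent.Lib.Helper15
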