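import Cfsg.Agent.S0886

set_option autoImplicit false

namespace Cfsg.Agent.Lib.Helper15

open Cfsg.Agent.S0886
open scoped IsMulCommutative

section Abstract

variable {G U : Type*} [Group G] [Group U] (N : Subgroup G) [hN : N.Normal] (R : N →* U)

/-- first projection of `Γ = compat N R` -/
def gamFst : compat N R →* G := (MonoidHom.fst G U).comp (compat N R).subtype

/-- second projection of `Γ = compat N R` -/
def gamSnd : compat N R →* U := (MonoidHom.snd G U).comp (compat N R).subtype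

theorem gamFst_apply (γ : compat N R) : gamFst N R γ = γ.1.1 := rfl

theorem gamSnd_apply (γ : compat N R) : gamSnd N R γ = γ.1.2 := rfl

/-- the copy of `N` inside `Γ` -/
def gamOfN : N →* compat N R where
  toFun n := ⟨((n : G), R n), self_mem_compat N R n⟩
  map_one' := by
    apply Subtype.ext
    simp
  map_mul' a b := by
    apply Subtype.ext
    simp

theorem center_mem_compat (z : Subgroup.center U) : ((1 : G), (z : U)) ∈ compat N R := by
  rw [mem_compat]
  intro n
  rw [map_one, MulAut.one_apply]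
  have := Subgroup.mem_center_iff.1 z.2 (R n)
  rw [← this, mul_inv_cancel_right]

/-- the copy of the centre of `U` inside `Γ` -/
def gamOfCenter : Subgroup.center U →* compat N R where
  toFun z := ⟨((1 : G), (z : U)), center_mem_compat N R z⟩
  map_one' := rfl
  map_mul' a b := by
    apply Subtype.ext
    simp

theorem gamOfCenter_comm (z : Subgroup.center U) (γ : compat N R) :
    gamOfCenter N R z * γ = γ * gamOfCenter N R z := by
  apply Subtype.ext
  apply Prod.ext
  · simp [gamOfCenter]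
  · simp only [gamOfCenter, MonoidHom.coe_mk, OneHom.coe_mk, Subgroup.coe_mul, Prod.snd_mul]
    exact (Subgroup.mem_center_iff.1 z.2 _).symm

/-- conjugating the copy of `N` inside `Γ` -/
theorem conj_gamOfN (γ : compat N R) (n : N) :
    γ * gamOfN N R n * γ⁻¹ = gamOfN N R (MulAut.conjNormal γ.1.1 n) := by
  apply Subtype.ext
  apply Prod.ext
  · simp [gamOfN, MulAut.conjNormal_apply]
  · simp only [gamOfN, MonoidHom.coe_mk, OneHom.coe_mk, Subgroup.coe_mul, Subgroup.coe_inv,
      Prod.snd_mul, Prod.snd_inv]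
    exact (mem_compat N R _ _).1 γ.2 n

/-- The exponents `k` for which there is a hom `L : Γ → Z(U)` with `L z = z ^ k` on the copy of
`Z(U)` and `L = 1` on the copy of `N`. -/
def expSet : AddSubgroup ℤ where
  carrier := {k | ∃ L : compat N R →* Subgroup.center U,
    (∀ z, L (gamOfCenter N R z) = z ^ k) ∧ ∀ n : N, L (gamOfN N R n) = 1}
  zero_mem' := ⟨1, fun z => by simp, fun n => rfl⟩
  add_mem' := by
    rintro k l ⟨L, hL1, hL2⟩ ⟨L', hL'1, hL'2⟩
    refine ⟨L * L', fun z => ?_, fun n => ?_⟩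
    · rw [MonoidHom.mul_apply, hL1, hL'1, zpow_add]
    · rw [MonoidHom.mul_apply, hL2, hL'2, one_mul]
  neg_mem' := by
    rintro k ⟨L, hL1, hL2⟩
    refine ⟨L⁻¹, fun z => ?_, fun n => ?_⟩
    · rw [MonoidHom.inv_apply, hL1, zpow_neg]
    · rw [MonoidHom.inv_apply, hL2, inv_one]

theorem mem_expSet (k : ℤ) : k ∈ expSet N R ↔ ∃ L : compat N R →* Subgroup.center U,
    (∀ z, L (gamOfCenter N R z) = z ^ k) ∧ ∀ n : N, L (gamOfN N R n) = 1 := Iff.rfl

theorem gamFst_surjective (HE : ∀ g : G, ∃ t : U, (g, t) ∈ compat N R) :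
    Function.Surjective (gamFst N R) := by
  intro g
  obtain ⟨t, ht⟩ := HE g
  exact ⟨⟨(g, t), ht⟩, rfl⟩

theorem ext_mem_compat (P : Subgroup G) (hNP : N ≤ P) (σ : P →* U)
    (hσ : ∀ n : N, σ ⟨n, hNP n.2⟩ = R n) (h : P) : ((h : G), σ h) ∈ compat N R := by
  rw [mem_compat]
  intro n
  rw [← hσ, ← hσ, ← map_inv, ← map_mul, ← map_mul]
  congr 1

open MonoidHom Subgroup in
theorem index_mem_expSet [Finite G]
    (HS : ∀ t : U, ((1 : G), t) ∈ compat N R → t ∈ Subgroup.center U)
    (HE : ∀ g : G, ∃ t : U, (g, t) ∈ compat N R)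
    (P : Subgroup G) (hNP : N ≤ P) (σ : P →* U) (hσ : ∀ n : N, σ ⟨n, hNP n.2⟩ = R n) :
    (P.index : ℤ) ∈ expSet N R := by
  classical
  have hsurj := gamFst_surjective N R HE
  have hσmem := ext_mem_compat N R P hNP σ hσ
  -- the preimage of P
  have hidx : (P.comap (gamFst N R)).index = P.index :=
    Subgroup.index_comap_of_surjective P hsurj
  have hfi : (P.comap (gamFst N R)).FiniteIndex := ⟨by
    rw [hidx]
    exact Subgroup.index_ne_zero_of_finite⟩
  -- the hom on the preimage of P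
  have hmem : ∀ γ : P.comap (gamFst N R),
      gamSnd N R γ.1 * (σ ⟨gamFst N R γ.1, γ.2⟩)⁻¹ ∈ Subgroup.center U := by
    intro γ
    apply HS
    have h1 := (compat N R).mul_mem γ.1.2 ((compat N R).inv_mem (hσmem ⟨gamFst N R γ.1, γ.2⟩))
    convert h1 using 1
    apply Prod.ext
    · simp [gamFst_apply]
    · simp [gamSnd_apply]
  let lP : P.comap (gamFst N R) →* Subgroup.center U :=
    { toFun := fun γ => ⟨gamSnd N R γ.1 * (σ ⟨gamFst N R γ.1, γ.2⟩)⁻¹, hmem γ⟩
      map_one' := by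
        apply Subtype.ext
        show gamSnd N R (1 : compat N R) * (σ ⟨gamFst N R (1 : compat N R), _⟩)⁻¹ = 1
        have : (⟨gamFst N R (1 : compat N R), (1 : P.comap (gamFst N R)).2⟩ : P) = 1 :=
          Subtype.ext (map_one _)
        rw [this, map_one, map_one, inv_one, mul_one]
      map_mul' := fun γ γ' => by
        apply Subtype.ext
        show gamSnd N R (γ.1 * γ'.1) * (σ ⟨gamFst N R (γ.1 * γ'.1), _⟩)⁻¹
          = (gamSnd N R γ.1 * (σ ⟨gamFst N R γ.1, γ.2⟩)⁻¹)
            * (gamSnd N R γ'.1 * (σ ⟨gamFst N R γ'.1, γ'.2⟩)⁻¹)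
        have h1 : (⟨gamFst N R (γ.1 * γ'.1), (γ * γ').2⟩ : P)
            = ⟨gamFst N R γ.1, γ.2⟩ * ⟨gamFst N R γ'.1, γ'.2⟩ := Subtype.ext (map_mul _ _ _)
        rw [h1, map_mul, map_mul, mul_inv_rev]
        have hc := Subgroup.mem_center_iff.1 (hmem γ') (σ ⟨gamFst N R γ.1, γ.2⟩)⁻¹
        calc gamSnd N R γ.1 * gamSnd N R γ'.1
              * ((σ ⟨gamFst N R γ'.1, γ'.2⟩)⁻¹ * (σ ⟨gamFst N R γ.1, γ.2⟩)⁻¹)
            = gamSnd N R γ.1 * ((gamSnd N R γ'.1 * (σ ⟨gamFst N R γ'.1, γ'.2⟩)⁻¹)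
              * (σ ⟨gamFst N R γ.1, γ.2⟩)⁻¹) := by group
          _ = gamSnd N R γ.1 * ((σ ⟨gamFst N R γ.1, γ.2⟩)⁻¹
              * (gamSnd N R γ'.1 * (σ ⟨gamFst N R γ'.1, γ'.2⟩)⁻¹)) := by rw [hc]
          _ = _ := by group }
  have hlP : ∀ γ : P.comap (gamFst N R),
      ((lP γ : Subgroup.center U) : U) = gamSnd N R γ.1 * (σ ⟨gamFst N R γ.1, γ.2⟩)⁻¹ :=
    fun γ => rfl
  rw [mem_expSet]
  refine ⟨transfer lP, fun z => ?_, fun n => ?_⟩
  · -- on the centre
    have key : ∀ (k : ℕ) (g₀ : compat N R),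
        g₀⁻¹ * gamOfCenter N R z ^ k * g₀ ∈ P.comap (gamFst N R) →
        g₀⁻¹ * gamOfCenter N R z ^ k * g₀ = gamOfCenter N R z ^ k := by
      intro k g₀ _
      rw [← map_pow, mul_assoc, gamOfCenter_comm, ← mul_assoc, inv_mul_cancel, one_mul]
    rw [transfer_eq_pow lP (gamOfCenter N R z) key]
    apply Subtype.ext
    rw [hlP]
    have h1 : gamFst N R (gamOfCenter N R z ^ (P.comap (gamFst N R)).index) = 1 := by
      rw [map_pow]
      show ((1 : G)) ^ _ = 1
      rw [one_pow]
    have h2 : (⟨gamFst N R (gamOfCenter N R z ^ (P.comap (gamFst N R)).index),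
        transfer_eq_pow_aux (gamOfCenter N R z) key⟩ : P) = 1 := Subtype.ext h1
    simp only [h2, map_one, inv_one, mul_one]
    rw [map_pow, hidx, zpow_natCast, Subgroup.coe_pow]
    rfl
  · -- on the copy of N
    have hN1 : ∀ (y : compat N R) (hy : y ∈ P.comap (gamFst N R)) (n' : N),
        y = gamOfN N R n' → lP ⟨y, hy⟩ = 1 := by
      intro y hy n' hyn
      subst hyn
      apply Subtype.ext
      rw [hlP]
      have h1 : (⟨gamFst N R (gamOfN N R n'), hy⟩ : P) = ⟨n', hNP n'.2⟩ := Subtype.ext rfl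
      simp only [h1, hσ]
      show R n' * (R n')⁻¹ = _
      rw [mul_inv_cancel]
      rfl
    have : Fintype (Quotient (MulAction.orbitRel (zpowers (gamOfN N R n))
        (compat N R ⧸ P.comap (gamFst N R)))) := Fintype.ofFinite _
    rw [transfer_eq_prod_quotient_orbitRel_zpowers_quot]
    apply Finset.prod_eq_one
    intro q _
    apply hN1 _ _ (MulAut.conjNormal (q.out.out⁻¹ : compat N R).1.1
      (n ^ Function.minimalPeriod (gamOfN N R n • ·) q.out))
    rw [← conj_gamOfN, inv_inv, map_pow]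

theorem exists_hom_of_one_mem
    (HS : ∀ t : U, ((1 : G), t) ∈ compat N R → t ∈ Subgroup.center U)
    (HE : ∀ g : G, ∃ t : U, (g, t) ∈ compat N R) (h1 : (1 : ℤ) ∈ expSet N R) :
    ∃ σ : G →* U, ∀ n : N, σ n = R n := by
  obtain ⟨L, hL1, hL2⟩ := (mem_expSet N R 1).1 h1
  have hsurj := gamFst_surjective N R HE
  let s : compat N R →* U :=
    { toFun := fun γ => gamSnd N R γ * ((L γ : Subgroup.center U) : U)⁻¹
      map_one' := by simp
      map_mul' := fun γ γ' => by
        rw [map_mul, map_mul, Subgroup.coe_mul, mul_inv_rev]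
        have hc := Subgroup.mem_center_iff.1 (Subgroup.inv_mem _ (L γ).2) (gamSnd N R γ')
        calc gamSnd N R γ * gamSnd N R γ' * (((L γ' : Subgroup.center U) : U)⁻¹
              * ((L γ : Subgroup.center U) : U)⁻¹)
            = gamSnd N R γ * (gamSnd N R γ' * ((L γ : Subgroup.center U) : U)⁻¹)
              * ((L γ' : Subgroup.center U) : U)⁻¹ := by
              have hc' := Subgroup.mem_center_iff.1 (Subgroup.inv_mem _ (L γ).2)
                ((L γ' : Subgroup.center U) : U)⁻¹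
              rw [hc']
              group
          _ = gamSnd N R γ * (((L γ : Subgroup.center U) : U)⁻¹ * gamSnd N R γ')
              * ((L γ' : Subgroup.center U) : U)⁻¹ := by rw [hc]
          _ = _ := by group }
  have hs : ∀ γ, s γ = gamSnd N R γ * ((L γ : Subgroup.center U) : U)⁻¹ := fun γ => rfl
  have hker : (gamFst N R).ker ≤ s.ker := by
    intro γ hγ
    rw [MonoidHom.mem_ker] at hγ ⊢
    have hγ1 : γ.1.1 = 1 := hγ
    have hmem : ((1 : G), γ.1.2) ∈ compat N R := by
      have := γ.2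
      rw [← hγ1]
      exact this
    have hz := HS _ hmem
    have hγeq : γ = gamOfCenter N R ⟨γ.1.2, hz⟩ := Subtype.ext (Prod.ext hγ1 rfl)
    rw [hs, hγeq, hL1, zpow_one]
    show γ.1.2 * γ.1.2⁻¹ = 1
    rw [mul_inv_cancel]
  refine ⟨(gamFst N R).liftOfSurjective hsurj ⟨s, hker⟩, fun n => ?_⟩
  have h2 : ((n : G)) = gamFst N R (gamOfN N R n) := rfl
  rw [h2, MonoidHom.liftOfRightInverse_comp_apply]
  show s (gamOfN N R n) = R n
  rw [hs, hL2]
  show R n * (1 : U)⁻¹ = R n
  rw [inv_one, mul_one]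

/-- Abstract form of the extension theorem from Sylow extensions: if for every prime `p` the hom
`R : N → U` extends to a subgroup of index prime to `p`, it extends to `G`. -/
theorem exists_hom_of_sylow [Finite G]
    (HS : ∀ t : U, ((1 : G), t) ∈ compat N R → t ∈ Subgroup.center U)
    (HE : ∀ g : G, ∃ t : U, (g, t) ∈ compat N R)
    (hsyl : ∀ p : ℕ, p.Prime → ∃ (P : Subgroup G) (hNP : N ≤ P) (σ : P →* U),
      Nat.Coprime P.index p ∧ ∀ n : N, σ ⟨n, hNP n.2⟩ = R n) :
    ∃ σ : G →* U, ∀ n : N, σ n = R n := by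
  apply exists_hom_of_one_mem N R HS HE
  -- the subgroup `expSet` of ℤ contains, for each prime, an element prime to it
  have hpI : ∀ p : ℕ, p.Prime → ∃ m : ℕ, Nat.Coprime m p ∧ (m : ℤ) ∈ expSet N R := by
    intro p hp
    obtain ⟨P, hNP, σ, hcop, hσ⟩ := hsyl p hp
    exact ⟨P.index, hcop, index_mem_expSet N R HS HE P hNP σ hσ⟩
  obtain ⟨d, hd⟩ := Int.subgroup_cyclic (expSet N R)
  have hdvd : ∀ k ∈ expSet N R, d ∣ k := by
    intro k hk
    rw [hd, AddSubgroup.mem_closure_singleton] at hk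
    obtain ⟨n, hn⟩ := hk
    exact ⟨n, by rw [← hn]; simp [mul_comm]⟩
  have hd1 : d.natAbs = 1 := by
    by_contra hne
    obtain ⟨q, hq, hqd⟩ := Nat.exists_prime_and_dvd hne
    have hqd' : (q : ℤ) ∣ d := Int.natCast_dvd.mpr hqd
    obtain ⟨m, hcop, hm⟩ := hpI q hq
    have hqm : q ∣ m := Int.natCast_dvd_natCast.mp (hqd'.trans (hdvd _ hm))
    have : q ∣ Nat.gcd m q := Nat.dvd_gcd hqm dvd_rfl
    rw [hcop] at this
    exact hq.one_lt.ne' (Nat.dvd_one.mp this)
  have hdI : d ∈ expSet N R := by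
    have := AddSubgroup.mem_closure_singleton_self d
    rw [← hd] at this
    exact this
  rcases Int.natAbs_eq d with h' | h'
  · rw [h', hd1] at hdI
    exact hdI
  · have := (expSet N R).neg_mem hdI
    rw [h', hd1] at this
    simpa using this

end Abstract

section Rep

variable {G : Type*} [Group G] [Finite G] (N : Subgroup G) [hN : N.Normal]
  {V : Type*} [AddCommGroup V] [Module ℂ V] [FiniteDimensional ℂ V]

omit [Finite G] in
/-- Schur: an element of `GL(V)` commuting with an irreducible representation is central. -/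
theorem schur_center (ρ : Representation ℂ N V) (hρ : ρ.IsIrreducible) (t : (V →ₗ[ℂ] V)ˣ)
    (ht : ((1 : G), t) ∈ compat N ρ.asGroupHom) : t ∈ Subgroup.center (V →ₗ[ℂ] V)ˣ := by
  have := hρ
  have hcomm : ∀ n : N, (t : V →ₗ[ℂ] V) ∘ₗ ρ n = ρ n ∘ₗ (t : V →ₗ[ℂ] V) := by
    intro n
    have h1 := (mem_compat N ρ.asGroupHom _ _).1 ht n
    rw [map_one, MulAut.one_apply, mul_inv_eq_iff_eq_mul] at h1
    have h2 := congrArg Units.val h1
    rw [Units.val_mul, Units.val_mul, Representation.asGroupHom_apply] at h2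
    exact h2
  obtain ⟨c, hc⟩ := Cfsg.Agent.Lib.Helper80.schur_scalar ρ (t : V →ₗ[ℂ] V) hcomm
  rw [Subgroup.mem_center_iff]
  intro u
  apply Units.ext
  rw [Units.val_mul, Units.val_mul, hc]
  ext v
  simp

/-- Existence of intertwiners for an invariant irreducible representation. -/
theorem exists_compat (ρ : Representation ℂ N V)
    (hinv : ∀ (g : G) (n : N), ρ.character (MulAut.conjNormal g n) = ρ.character n) (g : G) :
    ∃ t : (V →ₗ[ℂ] V)ˣ, (g, t) ∈ compat N ρ.asGroupHom := by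
  classical
  have : Fintype N := Fintype.ofFinite N
  let ρc : Representation ℂ N V := ρ.comp (MulAut.conjNormal g : MulAut N).toMonoidHom
  have hρc : ∀ n : N, ρc n = ρ (MulAut.conjNormal g n) := fun n => rfl
  have hchar : ρ.character = ρc.character := by
    ext n
    have := hinv g n
    unfold Representation.character at this ⊢
    rw [hρc, this]
  obtain ⟨φ⟩ := Cfsg.Agent.Lib.Helper3.nonempty_equiv_of_character_eq ρ ρc hchar
  refine ⟨LinearMap.GeneralLinearGroup.ofLinearEquiv φ.toLinearEquiv, ?_⟩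
  rw [mem_compat]
  intro n
  rw [mul_inv_eq_iff_eq_mul]
  apply Units.ext
  rw [Units.val_mul, Units.val_mul, Representation.asGroupHom_apply,
    Representation.asGroupHom_apply]
  have := φ.isIntertwining' n
  rw [hρc] at this
  exact this

/-- Representation-level form of the extension theorem from Sylow extensions. -/
theorem exists_rep_extension_of_sylow (ρ : Representation ℂ N V) (hρ : ρ.IsIrreducible)
    (hinv : ∀ (g : G) (n : N), ρ.character (MulAut.conjNormal g n) = ρ.character n)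
    (hsyl : ∀ p : ℕ, p.Prime → ∃ (P : Subgroup G) (hNP : N ≤ P) (σ : Representation ℂ P V),
      Nat.Coprime P.index p ∧ ∀ n : N, σ ⟨n, hNP n.2⟩ = ρ n) :
    ∃ ρ' : Representation ℂ G V, ρ'.IsIrreducible ∧ ∀ n : N, ρ' n = ρ n := by
  obtain ⟨σG, hσG⟩ := exists_hom_of_sylow N ρ.asGroupHom (schur_center N ρ hρ)
    (exists_compat N ρ hinv) (by
      intro p hp
      obtain ⟨P, hNP, σ, hcop, hσ⟩ := hsyl p hp
      refine ⟨P, hNP, σ.asGroupHom, hcop, fun n => ?_⟩
      apply Units.ext
      rw [Representation.asGroupHom_apply, Representation.asGroupHom_apply, hσ])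
  let ρ' : Representation ℂ G V := (Units.coeHom (V →ₗ[ℂ] V)).comp σG
  have hρ' : ∀ n : N, ρ' n = ρ n := by
    intro n
    show ((σG n : (V →ₗ[ℂ] V)ˣ) : V →ₗ[ℂ] V) = ρ n
    rw [hσG, Representation.asGroupHom_apply]
  exact ⟨ρ', Cfsg.Agent.Lib.Helper79.isIrreducible_of_forall_exists ρ ρ'
    (fun n => ⟨n, hρ' n⟩) hρ, hρ'⟩

omit hN in
/-- If `η ∈ Irr(P)` restricts on `N ≤ P` to the character of `ρ`, then some representation of `P`
on the space of `ρ` restricts to `ρ` exactly. -/
theorem exists_rep_of_char_extension {n : ℕ} (ρ : Representation ℂ N (Fin n → ℂ))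
    (P : Subgroup G) (hNP : N ≤ P) (η : P → ℂ) (hη : Cfsg.IsCharacter P η)
    (hηN : ∀ x : N, η ⟨(x : G), hNP x.2⟩ = ρ.character x) :
    ∃ σ : Representation ℂ P (Fin n → ℂ), ∀ x : N, σ ⟨x, hNP x.2⟩ = ρ x := by
  classical
  have : Fintype N := Fintype.ofFinite N
  obtain ⟨m, Y, rfl⟩ := hη
  let YN : Representation ℂ N (Fin m → ℂ) := Y.comp (Subgroup.inclusion hNP)
  have hYN : ∀ x : N, YN x = Y ⟨x, hNP x.2⟩ := fun x => rfl
  have hchar : YN.character = ρ.character := by
    funext x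
    rw [← hηN x]
    rfl
  obtain ⟨φ⟩ := Cfsg.Agent.Lib.Helper3.nonempty_equiv_of_character_eq YN ρ hchar
  refine ⟨Cfsg.Agent.Lib.Helper3.transportRep Y φ.toLinearEquiv, fun x => ?_⟩
  apply LinearMap.ext
  intro w
  rw [Cfsg.Agent.Lib.Helper3.transportRep_apply, ← hYN]
  have h1 := φ.isIntertwining' x
  have h2 := LinearMap.congr_fun h1 (φ.toLinearEquiv.symm w)
  simp only [LinearMap.comp_apply] at h2
  have h3 : φ.toLinearEquiv (φ.toLinearEquiv.symm w) = w := φ.toLinearEquiv.apply_symm_apply w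
  calc φ.toLinearEquiv (YN x (φ.toLinearEquiv.symm w)) = ρ x (φ.toLinearEquiv (φ.toLinearEquiv.symm w)) := h2
    _ = ρ x w := by rw [h3]

end Rep

end Cfsg.Agent.Lib.Helper15
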