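import Mathlib
import Cfsg.Prelude.Def_CharExt
import Cfsg.Agent.Lib.Helper15.DetChar
import Cfsg.Agent.Lib.Helper75.GaloisTwist
import Cfsg.Agent.Lib.Helper75.GaloisCyc
import Cfsg.Agent.S0867
import Cfsg.Agent.Lib.Helper3.OddOrder

set_option autoImplicit false
set_option linter.style.haveILetI false

/-!
# Galois twists, determinants, and the canonical extension
-/

namespace Cfsg.Agent.Lib.Helper15

open Cfsg Cfsg.Agent.Lib.Helper3

universe u

variable {G : Type u} [Group G] [Finite G]

/-- the determinantal character of a Galois twist -/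
theorem detChar_ringEquiv_comp (σ : ℂ ≃+* ℂ) {χ : G → ℂ} (hχ : IsCharacter G χ) (g : G) :
    detChar (fun x => σ (χ x)) g = σ (detChar χ g) := by
  obtain ⟨n, ρ, rfl⟩ := hχ
  have h1 : (fun x => σ (ρ.character x)) = (Cfsg.Agent.Lib.Helper75.twistRep σ ρ).character :=
    funext fun x => (Cfsg.Agent.Lib.Helper75.twistRep_character σ ρ x).symm
  rw [h1, detChar_eq_det, detChar_eq_det, Cfsg.Agent.Lib.Helper75.twistRep_apply,
    LinearMap.det_toLin']
  have h2 : (LinearMap.toMatrix' (ρ g)).map σ = σ.toRingHom.mapMatrix (LinearMap.toMatrix' (ρ g)) :=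
    rfl
  rw [h2, ← RingHom.map_det, LinearMap.det_toMatrix']
  rfl

/-- the determinantal order of a Galois twist -/
theorem detOrder_ringEquiv_comp (σ : ℂ ≃+* ℂ) {χ : G → ℂ} (hχ : IsCharacter G χ) :
    detOrder (fun x => σ (χ x)) = detOrder χ := by
  unfold detOrder
  have h1 : detChar (fun x => σ (χ x)) = (σ.toRingHom.toMonoidHom.compLeft G) (detChar χ) := by
    funext g
    rw [detChar_ringEquiv_comp σ hχ g]
    rfl
  rw [h1]
  apply orderOf_injective
  intro f₁ f₂ h
  funext g
  have := congrFun h g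
  exact σ.injective this

/-- The canonical extension is invariant under the power maps that fix `N` pointwise. -/
theorem canonical_pow_invariant (N : Subgroup G) [hN : N.Normal]
    (hcop : Nat.Coprime (Nat.card N) N.index) {χh : G → ℂ} (hχh : IsIrrCharacter G χh)
    (hres : IsIrrCharacter N (fun n : N => χh n)) (hdet : Nat.Coprime N.index (detOrder χh))
    (m : ℕ) (hm : Nat.Coprime m (Nat.card G)) (hm1 : m ≡ 1 [MOD Nat.card N]) (x : G) :
    χh (x ^ m) = χh x := by
  classical
  obtain ⟨σ, hσ⟩ := Cfsg.Agent.Lib.Helper75.exists_ringEquiv_pow_rootsOfUnity (Nat.card G) m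
    Nat.card_pos hm
  have hval : ∀ y : G, σ (χh y) = χh (y ^ m) := by
    obtain ⟨n, ρ, -, rfl⟩ := hχh
    intro y
    exact Cfsg.Agent.Lib.Helper75.ringEquiv_character_eq_pow ρ σ (Nat.card G) m hσ y
      pow_card_eq_one'
  have hψ : IsIrrCharacter G (fun y => σ (χh y)) :=
    Cfsg.Agent.Lib.Helper75.isIrrCharacter_ringEquiv_comp σ hχh
  have hχc := IsIrrCharacter.isCharacter hχh
  -- the restriction is unchanged
  have hresψ : ∀ n : N, σ (χh n) = χh n := by
    intro n
    rw [hval]
    congr 1
    have h1 : m ≡ 1 [MOD orderOf (n : G)] := by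
      apply Nat.ModEq.of_dvd _ hm1
      rw [Subgroup.orderOf_coe]
      exact orderOf_dvd_natCard n
    have := (pow_eq_pow_iff_modEq (x := (n : G))).2 h1
    rwa [pow_one] at this
  -- the uniqueness of the canonical extension
  have := Fintype.ofFinite N
  obtain ⟨d, hd, hdvd, -⟩ := Cfsg.Agent.Lib.Helper3.IsIrrCharacter.apply_one_dvd_card hres
  have hinv : ∀ (g : G) (n : N),
      (fun n : N => χh n) ⟨g * n * g⁻¹, hN.conj_mem (n : G) n.2 g⟩ = (fun n : N => χh n) n := by
    intro g n
    exact IsCharacter.isClassFunction hχc (n : G) g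
  have hordN : detOrder (fun n : N => χh n) ∣ Nat.card N := by
    unfold detOrder
    apply orderOf_dvd_of_pow_eq_one
    funext k
    have hlin := detChar_isLinear (fun n : N => χh n)
    have h1 : ((detChar fun n : N => χh n) ^ Nat.card N) k =
        (detChar fun n : N => χh n) k ^ Nat.card N := by simp
    rw [h1, ← linCharHom_apply hlin, ← map_pow, pow_card_eq_one', map_one]
    rfl
  have hcop2 : Nat.Coprime N.index (detOrder (fun n : N => χh n) * d) := by
    apply Nat.Coprime.mul_right
    · exact (Nat.Coprime.coprime_dvd_left hordN hcop).symm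
    · exact (Nat.Coprime.coprime_dvd_left hdvd hcop).symm
  obtain ⟨χ₀, -, huniq⟩ := Cfsg.Agent.S0867.result N (fun n : N => χh n) hres hinv d hd hcop2
  have e1 := huniq χh hχh (fun n => rfl) hdet
  have e2 := huniq (fun y => σ (χh y)) hψ hresψ (by
    rw [detOrder_ringEquiv_comp σ hχc]; exact hdet)
  have := congrFun (e2.trans e1.symm) x
  rw [← hval]
  exact this

end Cfsg.Agent.Lib.Helper15
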