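import Mathlib
import Cfsg.Agent.Lib.Helper15.GlaubCoset
import Cfsg.Agent.Lib.Helper15.GlaubGal
import Cfsg.Agent.Lib.Helper15.Gallagher
import Cfsg.Agent.Lib.Helper3.CharBasic
import Cfsg.Agent.Lib.Helper80.IrrApi
import Cfsg.Agent.Lib.Helper15.GlaubCentral
import Cfsg.Agent.Lib.Helper75.GaloisNorm
import Cfsg.Agent.Lib.Helper3.Complete
import Cfsg.Agent.S1529
import Cfsg.Agent.Lib.Helper3.Ortho
import Cfsg.Agent.Lib.Helper79.Basic
import Cfsg.Agent.Lib.Helper79.Abelian
import Cfsg.Agent.Lib.Helper75.Twist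
import Cfsg.Agent.Lib.Helper15.LinearChar

set_option autoImplicit false
set_option linter.unusedSectionVars false

/-!
# Cyclic coprime action: the values of the canonical extension on `C a`
-/

namespace Cfsg.Agent.Lib.Helper15

open Cfsg
open scoped ComplexConjugate

universe u

section GlaubCyc

variable {Γ : Type u} [Group Γ] [Fintype Γ] {N : Subgroup Γ} [hN : N.Normal] [Fintype N] {a : Γ}
  [Fintype (fixSub N a)]

theorem sum_fix_norm (hcop : (Nat.card N).Coprime (orderOf a)) (hidx : N.index = orderOf a)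
    {χh : Γ → ℂ} (hχh : IsIrrCharacter Γ χh) (hres : IsIrrCharacter N (fun n : N => χh n)) :
    ∑ c : fixSub N a, χh ((c : Γ) * a) * conj (χh ((c : Γ) * a)) = Nat.card (fixSub N a) := by
  have hcl : IsClassFunction Γ χh := Cfsg.Agent.Lib.Helper3.IsCharacter.isClassFunction
    (Cfsg.Agent.Lib.Helper3.IsIrrCharacter.isCharacter hχh)
  have h1 := card_fix_mul_sum_coset hcop hidx (fun x => χh x * conj (χh x))
    (by intro x g; simp only [hcl x g])
  have h2 := coset_sum_norm N hχh hres a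

  rw [h2] at h1
  have hN0 := card_ne_zero_complex N
  exact (mul_left_cancel₀ hN0 (by rw [← h1]; ring)).symm

theorem sum_fix_cross (hcop : (Nat.card N).Coprime (orderOf a)) (hidx : N.index = orderOf a)
    {χh χh' : Γ → ℂ} (hχh : IsIrrCharacter Γ χh) (hres : IsIrrCharacter N (fun n : N => χh n))
    (hχh' : IsIrrCharacter Γ χh') (hres' : IsIrrCharacter N (fun n : N => χh' n))
    (hne : (fun n : N => χh n) ≠ fun n : N => χh' n) :
    ∑ c : fixSub N a, χh ((c : Γ) * a) * conj (χh' ((c : Γ) * a)) = 0 := by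
  have hcl : IsClassFunction Γ χh := Cfsg.Agent.Lib.Helper3.IsCharacter.isClassFunction
    (Cfsg.Agent.Lib.Helper3.IsIrrCharacter.isCharacter hχh)
  have hcl' : IsClassFunction Γ χh' := Cfsg.Agent.Lib.Helper3.IsCharacter.isClassFunction
    (Cfsg.Agent.Lib.Helper3.IsIrrCharacter.isCharacter hχh')
  have h1 := card_fix_mul_sum_coset hcop hidx (fun x => χh x * conj (χh' x))
    (by intro x g; simp only [hcl x g, hcl' x g])

  have hN0 := card_ne_zero_complex N
  have h2 : ∑ h : N, χh ((h : Γ) * a) * conj (χh' ((h : Γ) * a)) = 0 := by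
    have h3 : cosetAvg N χh χh' = 0 := by
      rcases cosetAvg_irr N hχh' hres' hχh with ⟨φ, hφ, hφN, hφχ, -⟩ | h0
      · exfalso
        have h4 : (fun n : N => χh n) = φ 1 • fun n : N => χh' n := by
          funext n
          rw [hφχ]
          have := hφN n 1
          rw [mul_one] at this
          simp [this]
        have h5 := Cfsg.Agent.Lib.Helper3.classInner_irr hres hres'
        rw [if_neg hne] at h5
        have h6 := Cfsg.Agent.Lib.Helper3.classInner_irr hres' hres'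
        rw [if_pos rfl] at h6
        have h7 : classInner (fun n : N => χh n) (fun n : N => χh' n) = φ 1 := by
          rw [h4]
          unfold classInner at h6 ⊢
          simp only [Pi.smul_apply, smul_eq_mul, mul_assoc]
          rw [← Finset.mul_sum, mul_left_comm, h6, mul_one]
        rw [h5] at h7
        exact Cfsg.Agent.Lib.Helper80.irr_one_ne_zero ⟨φ, hφ⟩ h7.symm
      · exact h0
    have h4 := congrFun h3 a
    unfold cosetAvg at h4
    simp only [Pi.zero_apply] at h4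
    rcases mul_eq_zero.1 h4 with h5 | h5
    · exact absurd (inv_eq_zero.1 h5) hN0
    · exact h5
  rw [h2, mul_zero] at h1
  rcases mul_eq_zero.1 h1.symm with h5 | h5
  · exact absurd h5 hN0
  · exact h5

/-- `χh` is a canonical extension of its restriction to `N`. -/
structure IsCanon (N : Subgroup Γ) (χh : Γ → ℂ) : Prop where
  irr : IsIrrCharacter Γ χh
  res : IsIrrCharacter N (fun n : N => χh n)
  det : Nat.Coprime N.index (detOrder χh)

theorem card_eq_of_idx (hidx : N.index = orderOf a) : Nat.card N * orderOf a = Nat.card Γ := by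
  rw [← hidx]; exact Subgroup.card_mul_index N

/-- the values on `c a ^ k`, `k` prime to the order of `a`. -/
theorem canon_fix_mul_pow (hcop : (Nat.card N).Coprime (orderOf a)) (hidx : N.index = orderOf a)
    {χh : Γ → ℂ} (hc : IsCanon N χh) {c : Γ} (hcC : c ∈ fixSub N a) {k : ℕ}
    (hk : k.Coprime (orderOf a)) : χh (c * a ^ k) = χh (c * a) := by
  obtain ⟨m, hm1, hm2⟩ := Nat.chineseRemainder hcop 1 k
  have hcard := card_eq_of_idx (N := N) hidx
  have hmN : Nat.Coprime m (Nat.card N) := by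
    have := Nat.ModEq.gcd_eq hm1
    rw [Nat.gcd_one_left] at this
    exact this
  have hma : Nat.Coprime m (orderOf a) := by
    have := Nat.ModEq.gcd_eq hm2
    unfold Nat.Coprime
    rw [this]
    exact hk
  have hm : Nat.Coprime m (Nat.card Γ) := by
    rw [← hcard]
    exact Nat.Coprime.mul_right hmN hma
  have hcop' : (Nat.card N).Coprime N.index := by rwa [hidx]
  have h1 := canonical_pow_invariant N hcop' hc.irr hc.res hc.det m hm hm1 (c * a)
  rw [← h1]
  congr 1
  have hcm : Commute c a := (mem_fixSub.1 hcC).2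
  rw [hcm.mul_pow]
  congr 1
  · have h2 : m ≡ 1 [MOD orderOf c] := by
      apply Nat.ModEq.of_dvd _ hm1
      have := orderOf_dvd_natCard (⟨c, (mem_fixSub.1 hcC).1⟩ : N)
      rwa [← Subgroup.orderOf_coe] at this
    have := (pow_eq_pow_iff_modEq (x := c)).2 h2
    rw [pow_one] at this
    exact this.symm
  · exact ((pow_eq_pow_iff_modEq (x := a)).2 hm2).symm

theorem fixSub_le_centralizer : fixSub N a ≤ Subgroup.centralizer {a} := inf_le_right

/-- the class function `c ↦ χh (c a)` on `C`. -/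
theorem isClassFunction_star {χh : Γ → ℂ} (hχ : IsClassFunction Γ χh) :
    IsClassFunction (fixSub N a) (fun c : fixSub N a => χh ((c : Γ) * a)) := by
  intro c h
  have h1 : (h : Γ) * a = a * h := (mem_fixSub.1 h.2).2
  have h2 : ((h * c * h⁻¹ : fixSub N a) : Γ) * a = (h : Γ) * ((c : Γ) * a) * (h : Γ)⁻¹ := by
    simp only [Subgroup.coe_mul, Subgroup.coe_inv]
    calc (h : Γ) * c * (h : Γ)⁻¹ * a = (h : Γ) * c * (h : Γ)⁻¹ * (a * h) * (h : Γ)⁻¹ := by group
      _ = (h : Γ) * ((c : Γ) * a) * (h : Γ)⁻¹ := by rw [← h1]; group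
  show χh (((h * c * h⁻¹ : fixSub N a) : Γ) * a) = χh ((c : Γ) * a)
  rw [h2, hχ]

theorem isIntegral_classInner_star {χh : Γ → ℂ} (hχ : IsCharacter Γ χh)
    {β : fixSub N a → ℂ} (hβ : IsIrrCharacter (fixSub N a) β) :
    IsIntegral ℤ (classInner (fun c : fixSub N a => χh ((c : Γ) * a)) β) := by
  have : Fintype (Subgroup.centralizer ({a} : Set Γ)) := Fintype.ofFinite _
  have hz : (⟨a, Subgroup.mem_centralizer_singleton_iff.2 rfl⟩ : Subgroup.centralizer ({a} : Set Γ))
      ∈ Subgroup.center (Subgroup.centralizer ({a} : Set Γ)) := by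
    rw [Subgroup.mem_center_iff]
    intro g
    apply Subtype.ext
    exact Subgroup.mem_centralizer_singleton_iff.1 g.2
  exact isIntegral_classInner_central (Subgroup.inclusion (fixSub_le_centralizer (N := N) (a := a)))
    hz (Cfsg.Agent.Lib.Helper3.IsCharacter.restrict hχ _) hβ

theorem classInner_star_ne_zero {χh : Γ → ℂ} (hχ : IsCharacter Γ χh)
    {β : fixSub N a → ℂ} (hβ : IsIrrCharacter (fixSub N a) β)
    (hne : classInner (fun c : fixSub N a => χh ((c : Γ) * a)) β ≠ 0) :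
    classInner (fun c : fixSub N a => χh (c : Γ)) β ≠ 0 := by
  have : Fintype (Subgroup.centralizer ({a} : Set Γ)) := Fintype.ofFinite _
  have hz : (⟨a, Subgroup.mem_centralizer_singleton_iff.2 rfl⟩ : Subgroup.centralizer ({a} : Set Γ))
      ∈ Subgroup.center (Subgroup.centralizer ({a} : Set Γ)) := by
    rw [Subgroup.mem_center_iff]
    intro g
    apply Subtype.ext
    exact Subgroup.mem_centralizer_singleton_iff.1 g.2
  exact classInner_ne_zero_of_central
    (Subgroup.inclusion (fixSub_le_centralizer (N := N) (a := a)))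
    hz (Cfsg.Agent.Lib.Helper3.IsCharacter.restrict hχ _) hβ hne

/-- the inner products `[χh(· a), β]` are Galois-stable. -/
theorem ringEquiv_classInner_star (hcop : (Nat.card N).Coprime (orderOf a))
    (hidx : N.index = orderOf a) {χh : Γ → ℂ} (hc : IsCanon N χh)
    {β : fixSub N a → ℂ} (hβ : IsIrrCharacter (fixSub N a) β) (τ : ℂ ≃+* ℂ) :
    τ (classInner (fun c : fixSub N a => χh ((c : Γ) * a)) β)
      = classInner (fun c : fixSub N a => χh ((c : Γ) * a)) β := by
  obtain ⟨j, hjcop, hjpow⟩ := Cfsg.Agent.Lib.Helper75.exists_pow_of_ringEquiv τ (Nat.card Γ)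
    Nat.card_pos
  have hcard := card_eq_of_idx (N := N) hidx
  have hja : j.Coprime (orderOf a) :=
    Nat.Coprime.coprime_dvd_right (orderOf_dvd_natCard a) hjcop
  have hjC : (Nat.card (fixSub N a)).Coprime j :=
    (Nat.Coprime.coprime_dvd_right (Subgroup.card_subgroup_dvd_card _) hjcop).symm
  have hχval : ∀ x : Γ, τ (χh x) = χh (x ^ j) := by
    obtain ⟨n, ρ, -, rfl⟩ := hc.irr
    intro x
    exact Cfsg.Agent.Lib.Helper75.ringEquiv_character_eq_pow ρ τ (Nat.card Γ) j hjpow x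
      pow_card_eq_one'
  have hβval : ∀ c : fixSub N a, τ (β c) = β (c ^ j) := by
    obtain ⟨n, ρ, -, rfl⟩ := hβ
    intro c
    refine Cfsg.Agent.Lib.Helper75.ringEquiv_character_eq_pow ρ τ (Nat.card Γ) j hjpow c ?_
    apply Subtype.ext
    rw [Subgroup.coe_pow, Subgroup.coe_one]
    exact pow_card_eq_one'
  have hconj : ∀ c : fixSub N a, conj (β c) = β c⁻¹ := fun c =>
    (Cfsg.Agent.Lib.Helper80.irr_conj_inv ⟨β, hβ⟩ c).symm
  unfold classInner
  simp only [hconj]
  rw [map_mul, map_inv₀, map_natCast, map_sum]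
  congr 1
  simp only [map_mul, hχval, hβval]
  have h1 : ∀ c : fixSub N a, χh (((c : Γ) * a) ^ j) * β (c⁻¹ ^ j)
      = (fun c' : fixSub N a => χh ((c' : Γ) * a) * β c'⁻¹) (powCoprime hjC c) := by
    intro c
    have hcm : Commute (c : Γ) a := (mem_fixSub.1 c.2).2
    show _ = χh (((c ^ j : fixSub N a) : Γ) * a) * β (c ^ j)⁻¹
    rw [hcm.mul_pow, inv_pow, Subgroup.coe_pow]
    congr 1
    exact canon_fix_mul_pow hcop hidx hc (Subgroup.pow_mem _ c.2 j) hja
  simp only [h1]
  exact Equiv.sum_comp (powCoprime hjC) (fun c' : fixSub N a => χh ((c' : Γ) * a) * β c'⁻¹)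

/-- the inner products `[χh(· a), β]` are integers. -/
theorem exists_int_classInner_star (hcop : (Nat.card N).Coprime (orderOf a))
    (hidx : N.index = orderOf a) {χh : Γ → ℂ} (hc : IsCanon N χh)
    {β : fixSub N a → ℂ} (hβ : IsIrrCharacter (fixSub N a) β) :
    ∃ z : ℤ, (z : ℂ) = classInner (fun c : fixSub N a => χh ((c : Γ) * a)) β :=
  Cfsg.Agent.Lib.Helper75.exists_int_eq_of_forall_ringEquiv_eq _
    (isIntegral_classInner_star (Cfsg.Agent.Lib.Helper3.IsIrrCharacter.isCharacter hc.irr) hβ)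
    (ringEquiv_classInner_star hcop hidx hc hβ)

/-- the main formula: `χh (c a) = ε β(c)`. -/
theorem exists_star_eq (hcop : (Nat.card N).Coprime (orderOf a))
    (hidx : N.index = orderOf a) {χh : Γ → ℂ} (hc : IsCanon N χh) :
    ∃ (β : IrrCharacter (fixSub N a)) (ε : ℤ), (ε = 1 ∨ ε = -1) ∧
      ∀ c : fixSub N a, χh ((c : Γ) * a) = (ε : ℂ) * (β : fixSub N a → ℂ) c := by
  classical
  have : Fintype (IrrCharacter (fixSub N a)) := Fintype.ofFinite _
  have hχc := Cfsg.Agent.Lib.Helper3.IsIrrCharacter.isCharacter hc.irr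
  have hcl := isClassFunction_star (N := N) (a := a)
    (Cfsg.Agent.Lib.Helper3.IsCharacter.isClassFunction hχc)
  choose z hz using fun β : IrrCharacter (fixSub N a) =>
    exists_int_classInner_star hcop hidx hc β.2
  have hexp := Cfsg.Agent.Lib.Helper3.classFunction_eq_sum hcl
  have hnorm : classInner (fun c : fixSub N a => χh ((c : Γ) * a))
      (fun c : fixSub N a => χh ((c : Γ) * a)) = 1 := by
    unfold classInner
    rw [sum_fix_norm hcop hidx hc.irr hc.res]
    exact inv_mul_cancel₀ (card_ne_zero_complex _)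
  have hsq : ∑ β : IrrCharacter (fixSub N a), z β ^ 2 = 1 := by
    have h1 := Cfsg.Agent.Lib.Helper3.classInner_sum_sum
      (fun β : IrrCharacter (fixSub N a) =>
        classInner (fun c : fixSub N a => χh ((c : Γ) * a)) (β : fixSub N a → ℂ))
      (fun β : IrrCharacter (fixSub N a) =>
        classInner (fun c : fixSub N a => χh ((c : Γ) * a)) (β : fixSub N a → ℂ))
    rw [← hexp, hnorm] at h1
    have h2 : ((∑ β : IrrCharacter (fixSub N a), z β ^ 2 : ℤ) : ℂ) = 1 := by
      rw [h1]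
      push_cast
      refine Finset.sum_congr rfl fun β _ => ?_
      rw [← hz β, map_intCast]
      ring
    exact_mod_cast h2
  obtain ⟨β₀, hβ₀, hother⟩ := Cfsg.Agent.S1529.int_sum_sq_eq_one z hsq
  refine ⟨β₀, z β₀, hβ₀, ?_⟩
  intro c
  have h3 := congrFun hexp c
  rw [Finset.sum_apply, Finset.sum_eq_single β₀] at h3
  · simp only [Pi.smul_apply, smul_eq_mul] at h3
    rw [h3, ← hz β₀]
  · intro b _ hb
    rw [← hz b, hother b hb]
    simp
  · intro h
    exact absurd (Finset.mem_univ _) h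

/-- uniqueness of the pair `(β, ε)`. -/
theorem star_eq_unique {C : Type u} [Group C] {β β' : IrrCharacter C} {ε ε' : ℤ}
    (hε : ε = 1 ∨ ε = -1) (hε' : ε' = 1 ∨ ε' = -1)
    (h : ∀ c : C, (ε : ℂ) * (β : C → ℂ) c = (ε' : ℂ) * (β' : C → ℂ) c) : β = β' ∧ ε = ε' := by
  obtain ⟨n, hn, hβ1⟩ := Cfsg.Agent.Lib.Helper80.irr_one_eq_natCast β
  obtain ⟨n', hn', hβ'1⟩ := Cfsg.Agent.Lib.Helper80.irr_one_eq_natCast β'
  have h1 := h 1
  rw [hβ1, hβ'1] at h1
  have hεε : ε = ε' := by
    rcases hε with rfl | rfl <;> rcases hε' with rfl | rfl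
    · rfl
    · exfalso
      have h2 : ((n + n' : ℕ) : ℂ) = 0 := by
        push_cast at h1 ⊢
        linear_combination h1
      have h3 : n + n' = 0 := by exact_mod_cast h2
      omega
    · exfalso
      have h2 : ((n + n' : ℕ) : ℂ) = 0 := by
        push_cast at h1 ⊢
        linear_combination -h1
      have h3 : n + n' = 0 := by exact_mod_cast h2
      omega
    · rfl
  refine ⟨?_, hεε⟩
  subst hεε
  apply Subtype.ext
  funext c
  have hne : (ε : ℂ) ≠ 0 := by
    rcases hε with rfl | rfl <;> norm_num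
  exact mul_left_cancel₀ hne (h c)

theorem sum_irr_mul_conj_self {C : Type u} [Group C] [Fintype C] (β : IrrCharacter C) :
    ∑ c : C, (β : C → ℂ) c * conj ((β : C → ℂ) c) = Nat.card C := by
  have h := Cfsg.Agent.Lib.Helper3.classInner_irr β.2 β.2
  rw [if_pos rfl] at h
  unfold classInner at h
  have h0 : (Nat.card C : ℂ) ≠ 0 := by
    exact_mod_cast Nat.card_pos.ne'
  field_simp at h
  exact h

/-- `β` is a constituent of the restriction of `χh` to `C`. -/
theorem canon_constituent {χh : Γ → ℂ} (hχ : IsCharacter Γ χh)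
    {β : IrrCharacter (fixSub N a)} {ε : ℤ} (hε : ε = 1 ∨ ε = -1)
    (h : ∀ c : fixSub N a, χh ((c : Γ) * a) = (ε : ℂ) * (β : fixSub N a → ℂ) c) :
    classInner (fun c : fixSub N a => χh (c : Γ)) (β : fixSub N a → ℂ) ≠ 0 := by
  apply classInner_star_ne_zero (a := a) hχ β.2
  have h1 : (fun c : fixSub N a => χh ((c : Γ) * a))
      = fun c => (ε : ℂ) * (β : fixSub N a → ℂ) c := funext h
  rw [h1, classInner_const_mul_left, Cfsg.Agent.Lib.Helper3.classInner_irr β.2 β.2, if_pos rfl,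
    mul_one]
  rcases hε with rfl | rfl <;> norm_num

/-- distinct restrictions give distinct `β`. -/
theorem canon_injective (hcop : (Nat.card N).Coprime (orderOf a)) (hidx : N.index = orderOf a)
    {χh χh' : Γ → ℂ} (hc : IsCanon N χh) (hc' : IsCanon N χh')
    {β : IrrCharacter (fixSub N a)} {ε ε' : ℤ} (hε : ε = 1 ∨ ε = -1) (hε' : ε' = 1 ∨ ε' = -1)
    (h : ∀ c : fixSub N a, χh ((c : Γ) * a) = (ε : ℂ) * (β : fixSub N a → ℂ) c)
    (h' : ∀ c : fixSub N a, χh' ((c : Γ) * a) = (ε' : ℂ) * (β : fixSub N a → ℂ) c) :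
    (fun n : N => χh n) = fun n : N => χh' n := by
  by_contra hne
  have h1 := sum_fix_cross hcop hidx hc.irr hc.res hc'.irr hc'.res hne
  simp only [h, h'] at h1
  have h2 : ∑ c : fixSub N a, (ε : ℂ) * (β : fixSub N a → ℂ) c *
      conj ((ε' : ℂ) * (β : fixSub N a → ℂ) c)
      = (ε : ℂ) * (ε' : ℂ) * ∑ c : fixSub N a, (β : fixSub N a → ℂ) c *
        conj ((β : fixSub N a → ℂ) c) := by
    rw [Finset.mul_sum]
    refine Finset.sum_congr rfl fun c _ => ?_
    rw [map_mul, map_intCast]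
    ring
  rw [h2, sum_irr_mul_conj_self] at h1
  have h3 : (Nat.card (fixSub N a) : ℂ) ≠ 0 := card_ne_zero_complex _
  have h4 : (ε : ℂ) * (ε' : ℂ) ≠ 0 := by
    rcases hε with rfl | rfl <;> rcases hε' with rfl | rfl <;> norm_num
  exact mul_ne_zero h4 h3 h1

/-- some irreducible character of `Γ` has `[β, ψ(· a)] ≠ 0`. -/
theorem exists_irr_star_ne_zero (hcop : (Nat.card N).Coprime (orderOf a))
    (β : IrrCharacter (fixSub N a)) :
    ∃ ψ : IrrCharacter Γ,
      ∑ c : fixSub N a, (β : fixSub N a → ℂ) c * conj ((ψ : Γ → ℂ) ((c : Γ) * a)) ≠ 0 := by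
  classical
  have : Fintype (IrrCharacter Γ) := Fintype.ofFinite _
  by_contra hall
  push Not at hall
  have hT : ∑ ψ : IrrCharacter Γ, (ψ : Γ → ℂ) a *
      ∑ c : fixSub N a, (β : fixSub N a → ℂ) c * conj ((ψ : Γ → ℂ) ((c : Γ) * a)) = 0 := by
    apply Finset.sum_eq_zero
    intro ψ _
    rw [hall ψ, mul_zero]
  have hT2 : ∑ ψ : IrrCharacter Γ, (ψ : Γ → ℂ) a *
      ∑ c : fixSub N a, (β : fixSub N a → ℂ) c * conj ((ψ : Γ → ℂ) ((c : Γ) * a))
      = ∑ c : fixSub N a, (β : fixSub N a → ℂ) c *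
        ∑ ψ : IrrCharacter Γ, (ψ : Γ → ℂ) a * conj ((ψ : Γ → ℂ) ((c : Γ) * a)) := by
    simp only [Finset.mul_sum]
    rw [Finset.sum_comm]
    refine Finset.sum_congr rfl fun c _ => Finset.sum_congr rfl fun ψ _ => ?_
    ring
  rw [hT2] at hT
  have hcol : ∀ c : fixSub N a,
      ∑ ψ : IrrCharacter Γ, (ψ : Γ → ℂ) a * conj ((ψ : Γ → ℂ) ((c : Γ) * a))
        = if c = 1 then (Nat.card (Subgroup.centralizer ({a} : Set Γ)) : ℂ) else 0 := by
    intro c
    rw [Cfsg.Agent.Lib.Helper3.column_orthogonality]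
    by_cases hc1 : c = 1
    · rw [if_pos hc1, if_pos]
      rw [hc1, Subgroup.coe_one, one_mul]
    · rw [if_neg hc1, if_neg]
      intro hconj
      obtain ⟨z, hz⟩ := isConj_iff.1 hconj
      have h1 : (1 : Γ) ∈ fixSub N a := Subgroup.one_mem _
      have := (conj_fix_mul hcop h1 c.2 z (by rw [one_mul]; exact hz)).2
      apply hc1
      apply Subtype.ext
      rw [← this]
      simp
  simp only [hcol] at hT
  rw [Finset.sum_eq_single (1 : fixSub N a)] at hT
  · rw [if_pos rfl] at hT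
    rcases mul_eq_zero.1 hT with h0 | h0
    · exact Cfsg.Agent.Lib.Helper80.irr_one_ne_zero β h0
    · exact card_ne_zero_complex _ h0
  · intro c _ hc
    rw [if_neg hc, mul_zero]
  · intro h
    exact absurd (Finset.mem_univ _) h

/-- an irreducible character of `Γ` not vanishing on `N a` restricts irreducibly to `N`. -/
theorem irr_restrict_of_ne_zero (hgen : ∀ x : Γ, ∃ k : ℕ, x * a ^ k ∈ N)
    {ψ : Γ → ℂ} (hψ : IsIrrCharacter Γ ψ) {h : Γ} (hh : h ∈ N) (hne : ψ (h * a) ≠ 0) :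
    IsIrrCharacter N (fun n : N => ψ n) := by
  classical
  have : Fintype (IrrCharacter Γ) := Fintype.ofFinite _
  have hψc := Cfsg.Agent.Lib.Helper3.IsIrrCharacter.isCharacter hψ
  apply Cfsg.Agent.Lib.Helper3.isIrrCharacter_of_classInner_self_eq_one
    (Cfsg.Agent.Lib.Helper3.IsCharacter.restrict hψc N)
  rw [← cosetAvg_one N ψ ψ, cosetAvg_eq_sum N hψc
    (Cfsg.Agent.Lib.Helper3.IsCharacter.isClassFunction hψc)]
  -- commutativity of `Γ ⧸ N`
  have hz : ∀ x : Γ ⧸ N, ∃ i : ℤ, (QuotientGroup.mk a : Γ ⧸ N) ^ i = x := by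
    intro x
    obtain ⟨g, rfl⟩ := QuotientGroup.mk_surjective x
    obtain ⟨k, hk⟩ := hgen g
    refine ⟨-(k : ℤ), ?_⟩
    have h1 : (QuotientGroup.mk (g * a ^ k) : Γ ⧸ N) = 1 := (QuotientGroup.eq_one_iff _).2 hk
    rw [QuotientGroup.mk_mul, QuotientGroup.mk_pow] at h1
    rw [zpow_neg, zpow_natCast]
    exact (eq_inv_of_mul_eq_one_left h1).symm
  have hcomm : IsMulCommutative (Γ ⧸ N) := ⟨⟨fun x y => by
    obtain ⟨i, rfl⟩ := hz x
    obtain ⟨j, rfl⟩ := hz y
    rw [← zpow_add, ← zpow_add, add_comm]⟩⟩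
  have hlin : ∀ φ : IrrCharacter Γ,
      (∀ (n : N) (g : Γ), (φ : Γ → ℂ) ((n : Γ) * g) = (φ : Γ → ℂ) g) → (φ : Γ → ℂ) 1 = 1 := by
    intro φ hφ
    obtain ⟨ψ', hψ', hval⟩ := Cfsg.Agent.Lib.Helper79.isIrrCharacter_deflate φ.2 N
      (fun x hx => by have := hφ ⟨x, hx⟩ 1; simpa using this)
    have := Cfsg.Agent.Lib.Helper79.irr_one_eq_one_of_comm ⟨ψ', hψ'⟩
    rw [← hval 1]
    exact this
  have htriv : IsIrrCharacter Γ (fun _ => (1 : ℂ)) := by
    have := Cfsg.Agent.Lib.Helper79.isIrrCharacter_of_monoidHom (1 : Γ →* ℂˣ)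
    simpa using this
  rw [Finset.sum_apply, Finset.sum_eq_single_of_mem (⟨fun _ => (1 : ℂ), htriv⟩ : IrrCharacter Γ)]
  · simp only [Pi.smul_apply, smul_eq_mul, mul_one]
    have h1 : ((fun _ => (1 : ℂ)) * ψ : Γ → ℂ) = ψ := by
      funext g
      simp
    rw [h1, Cfsg.Agent.Lib.Helper3.classInner_irr hψ hψ, if_pos rfl]
  · rw [Finset.mem_filter]
    exact ⟨Finset.mem_univ _, fun _ _ => rfl⟩
  · intro φ hφmem hφne
    have hφ := (Finset.mem_filter.1 hφmem).2
    have hφ1 := hlin φ hφ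
    have hφc := Cfsg.Agent.Lib.Helper3.IsIrrCharacter.isCharacter φ.2
    have hirr : IsIrrCharacter Γ ((φ : Γ → ℂ) * ψ) := by
      rw [mul_comm]
      exact Cfsg.Agent.Lib.Helper75.isIrrCharacter_mul_of_linear hφc hφ1 hψ
    rw [Pi.smul_apply, Cfsg.Agent.Lib.Helper3.classInner_irr hψ hirr, if_neg, zero_smul]
    intro heq
    apply hφne
    have hφa : (φ : Γ → ℂ) a = 1 := by
      have h1 := congrFun heq (h * a)
      rw [Pi.mul_apply] at h1
      have h2 : (φ : Γ → ℂ) (h * a) = 1 := by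
        have h3 : (1 : ℂ) * ψ (h * a) = (φ : Γ → ℂ) (h * a) * ψ (h * a) := by rw [one_mul]; exact h1
        exact (mul_right_cancel₀ hne h3).symm
      rw [← h2]
      exact (hφ ⟨h, hh⟩ a).symm
    apply Subtype.ext
    funext g
    show (φ : Γ → ℂ) g = 1
    obtain ⟨k, hk⟩ := hgen g
    have hl : IsCharacter Γ (φ : Γ → ℂ) ∧ (φ : Γ → ℂ) 1 = 1 := ⟨hφc, hφ1⟩
    have h1 := hφ ⟨g * a ^ k, hk⟩ (a ^ k)⁻¹
    have h2 : ((⟨g * a ^ k, hk⟩ : N) : Γ) * (a ^ k)⁻¹ = g := by
      show g * a ^ k * (a ^ k)⁻¹ = g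
      group
    rw [h2] at h1
    rw [h1, linChar_inv hl, ← linCharHom_apply hl, map_pow, linCharHom_apply hl, hφa, one_pow,
      inv_one]

/-- existence of the canonical extension. -/
theorem exists_canon (hcopI : (Nat.card N).Coprime N.index) {θ : N → ℂ}
    (hθ : IsIrrCharacter N θ)
    (hinv : ∀ (g : Γ) (n : N), θ ⟨g * n * g⁻¹, hN.conj_mem (n : Γ) n.2 g⟩ = θ n) :
    ∃ χh : Γ → ℂ, IsCanon N χh ∧ ∀ n : N, χh n = θ n := by
  obtain ⟨d, hd, hdvd, -⟩ := Cfsg.Agent.Lib.Helper3.IsIrrCharacter.apply_one_dvd_card hθ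
  have hordN : detOrder θ ∣ Nat.card N := by
    unfold detOrder
    apply orderOf_dvd_of_pow_eq_one
    funext k
    have hlin := detChar_isLinear θ
    have h1 : ((detChar θ) ^ Nat.card N) k = (detChar θ) k ^ Nat.card N := by simp
    rw [h1, ← linCharHom_apply hlin, ← map_pow, pow_card_eq_one', map_one]
    rfl
  have hcop2 : Nat.Coprime N.index (detOrder θ * d) := by
    apply Nat.Coprime.mul_right
    · exact (Nat.Coprime.coprime_dvd_left hordN hcopI).symm
    · exact (Nat.Coprime.coprime_dvd_left hdvd hcopI).symm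
  obtain ⟨χ₀, ⟨hirr, hres, hdet⟩, -⟩ := Cfsg.Agent.S0867.result N θ hθ hinv d hd hcop2
  refine ⟨χ₀, ⟨hirr, ?_, ?_⟩, hres⟩
  · have : (fun n : N => χ₀ n) = θ := funext hres
    rw [this]
    exact hθ
  · rw [hdet]
    exact (Nat.Coprime.coprime_dvd_left hordN hcopI).symm

/-- every irreducible character of `C` arises. -/
theorem canon_surjective (hcop : (Nat.card N).Coprime (orderOf a)) (hidx : N.index = orderOf a)
    (hgen : ∀ x : Γ, ∃ k : ℕ, x * a ^ k ∈ N) (β : IrrCharacter (fixSub N a)) :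
    ∃ χh : Γ → ℂ, IsCanon N χh ∧ ∃ ε : ℤ, (ε = 1 ∨ ε = -1) ∧
      ∀ c : fixSub N a, χh ((c : Γ) * a) = (ε : ℂ) * (β : fixSub N a → ℂ) c := by
  classical
  obtain ⟨ψ, hψ⟩ := exists_irr_star_ne_zero hcop β
  -- `ψ` does not vanish on `C a`
  obtain ⟨c₀, hc₀⟩ : ∃ c : fixSub N a, (ψ : Γ → ℂ) ((c : Γ) * a) ≠ 0 := by
    by_contra hall
    push Not at hall
    apply hψ
    apply Finset.sum_eq_zero
    intro c _
    rw [hall c, map_zero, mul_zero]
  have hresψ := irr_restrict_of_ne_zero hgen ψ.2 (fixSub_le c₀.2) hc₀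
  have hψc := Cfsg.Agent.Lib.Helper3.IsIrrCharacter.isCharacter ψ.2
  have hcopI : (Nat.card N).Coprime N.index := by rwa [hidx]
  obtain ⟨χ₀, hcan, hχ₀⟩ := exists_canon hcopI hresψ (fun g n =>
    Cfsg.Agent.Lib.Helper3.IsCharacter.isClassFunction hψc (n : Γ) g)
  have hne : classInner (fun n : N => (ψ : Γ → ℂ) n) (fun n : N => χ₀ n) ≠ 0 := by
    have : (fun n : N => χ₀ n) = fun n : N => (ψ : Γ → ℂ) n := funext hχ₀
    rw [this, Cfsg.Agent.Lib.Helper3.classInner_irr hresψ hresψ, if_pos rfl]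
    exact one_ne_zero
  obtain ⟨φ, -, hφN, hφχ, -⟩ := exists_mul_ext N hcan.irr hcan.res ψ.2 hne
  obtain ⟨β₀, ε₀, hε₀, hstar⟩ := exists_star_eq hcop hidx hcan
  refine ⟨χ₀, hcan, ε₀, hε₀, ?_⟩
  suffices hβ : β = β₀ by rw [hβ]; exact hstar
  by_contra hββ
  apply hψ
  have h1 : ∀ c : fixSub N a, (β : fixSub N a → ℂ) c * conj ((ψ : Γ → ℂ) ((c : Γ) * a))
      = conj (φ a * (ε₀ : ℂ)) * ((β : fixSub N a → ℂ) c * conj ((β₀ : fixSub N a → ℂ) c)) := by
    intro c
    rw [hφχ, Pi.mul_apply, hstar c, hφN ⟨c, fixSub_le c.2⟩ a]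
    simp only [map_mul]
    ring
  simp only [h1]
  rw [← Finset.mul_sum]
  have h2 := Cfsg.Agent.Lib.Helper3.classInner_irr β.2 β₀.2
  rw [if_neg (fun h => hββ (Subtype.ext h))] at h2
  unfold classInner at h2
  rcases mul_eq_zero.1 h2 with h3 | h3
  · exact absurd (inv_eq_zero.1 h3) (card_ne_zero_complex _)
  · rw [h3, mul_zero]

end GlaubCyc

end Cfsg.Agent.Lib.Helper15
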