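import Mathlib
import Cfsg.Prelude.Def_Blocks
import Cfsg.Agent.Lib.Helper15.GlaubCyc
import Cfsg.Agent.Lib.Helper80.Kernel
import Cfsg.Agent.Lib.Helper3.Decomp
import Cfsg.Agent.S0887

set_option autoImplicit false
set_option linter.unusedSectionVars false
set_option linter.style.haveILetI false

/-!
# Irreducible characters of degree prime to the index of a normal Hall subgroup

If `K ◁ G` is a normal Hall subgroup, the irreducible characters of `G` of degree prime to
`|G : K|` are exactly the `μ θ̂` with `θ ∈ Irr(K)` invariant, `θ̂` its canonical extension and `μ` a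
linear character of `G / K`.
-/

namespace Cfsg.Agent.Lib.Helper15

open Cfsg
open scoped ComplexConjugate

universe u

section DegCoprime

variable {G : Type u} [Group G] [Fintype G] (K : Subgroup G) [hK : K.Normal]

/-- an irreducible character of degree prime to the index restricts irreducibly -/
theorem irr_restrict_of_coprime_degree [Fintype K] (χ : IrrCharacter G)
    (hdeg : (charDegree (χ : G → ℂ)).Coprime K.index) :
    IsIrrCharacter K (fun n : K => (χ : G → ℂ) n) := by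
  classical
  have : Fintype (IrrCharacter K) := Fintype.ofFinite _
  have hχc := Cfsg.Agent.Lib.Helper3.IsIrrCharacter.isCharacter χ.2
  have hres : IsCharacter K (fun n : K => (χ : G → ℂ) n) :=
    Cfsg.Agent.Lib.Helper3.IsCharacter.restrict hχc K
  obtain ⟨m, hm, hexp⟩ := Cfsg.Agent.Lib.Helper3.IsCharacter.exists_mult hres
  have hc := Cfsg.Agent.Lib.Helper80.irr_charDegree_cast χ
  set c := charDegree (χ : G → ℂ) with hcdef
  have hcpos : 0 < c := Cfsg.Agent.Lib.Helper80.irr_charDegree_pos χ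
  -- the degree equation
  have hdegeq : (c : ℂ) = ∑ ψ : IrrCharacter K, (m ψ : ℂ) * (charDegree (ψ : K → ℂ) : ℂ) := by
    have h1 := congrFun hexp 1
    simp only [Finset.sum_apply, Pi.smul_apply, smul_eq_mul] at h1
    rw [hc]
    rw [show ((1 : K) : G) = 1 from rfl] at h1
    rw [h1]
    refine Finset.sum_congr rfl fun ψ _ => ?_
    rw [Cfsg.Agent.Lib.Helper80.irr_charDegree_cast ψ]
  have hdegeq' : c = ∑ ψ : IrrCharacter K, m ψ * charDegree (ψ : K → ℂ) := by
    exact_mod_cast hdegeq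
  -- some constituent
  obtain ⟨θ, hθ⟩ : ∃ θ : IrrCharacter K, m θ ≠ 0 := by
    by_contra hall
    push Not at hall
    rw [Finset.sum_eq_zero (fun ψ _ => by rw [hall ψ, zero_mul])] at hdegeq'
    omega
  have hcon : classInner (fun n : K => (χ : G → ℂ) n) (θ : K → ℂ) ≠ 0 := by
    rw [hm θ]
    exact_mod_cast hθ
  have hd := Cfsg.Agent.Lib.Helper80.irr_charDegree_cast θ
  obtain ⟨hdvd, hquot⟩ := Cfsg.Agent.S0887.result K (χ : G → ℂ) χ.2 (θ : K → ℂ) θ.2 hcon c
    (charDegree (θ : K → ℂ)) hc.symm hd.symm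
  have hdpos : 0 < charDegree (θ : K → ℂ) := Cfsg.Agent.Lib.Helper80.irr_charDegree_pos θ
  have hq1 : c / charDegree (θ : K → ℂ) = 1 := by
    have h1 : (c / charDegree (θ : K → ℂ)) ∣ c := Nat.div_dvd_of_dvd hdvd
    exact Nat.eq_one_of_dvd_coprimes hdeg h1 hquot
  have hcd : c = charDegree (θ : K → ℂ) := by
    have := Nat.div_mul_cancel hdvd
    rw [hq1, one_mul] at this
    exact this.symm
  -- all other multiplicities vanish, `m θ = 1`
  have hsplit : ∑ ψ : IrrCharacter K, m ψ * charDegree (ψ : K → ℂ)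
      = m θ * charDegree (θ : K → ℂ)
        + ∑ ψ ∈ Finset.univ.erase θ, m ψ * charDegree (ψ : K → ℂ) :=
    (Finset.add_sum_erase Finset.univ (fun ψ => m ψ * charDegree (ψ : K → ℂ))
      (Finset.mem_univ θ)).symm
  rw [hsplit, ← hcd] at hdegeq'
  have hmθ : m θ = 1 := by
    have h1 : 1 ≤ m θ := Nat.one_le_iff_ne_zero.2 hθ
    by_contra hne
    have h2 : 2 ≤ m θ := by omega
    have : 2 * c ≤ m θ * c := Nat.mul_le_mul_right c h2
    omega
  have hrest : ∑ ψ ∈ Finset.univ.erase θ, m ψ * charDegree (ψ : K → ℂ) = 0 := by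
    rw [hmθ] at hdegeq'
    omega
  have hzero : ∀ ψ : IrrCharacter K, ψ ≠ θ → m ψ = 0 := by
    intro ψ hψ
    have h1 := (Finset.sum_eq_zero_iff.1 hrest) ψ (Finset.mem_erase.2 ⟨hψ, Finset.mem_univ _⟩)
    have h2 : 0 < charDegree (ψ : K → ℂ) := Cfsg.Agent.Lib.Helper80.irr_charDegree_pos ψ
    rcases Nat.mul_eq_zero.1 h1 with h3 | h3
    · exact h3
    · omega
  have hfin : (fun n : K => (χ : G → ℂ) n) = (θ : K → ℂ) := by
    rw [hexp, Finset.sum_eq_single θ]
    · rw [hmθ]; simp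
    · intro ψ _ hψ
      rw [hzero ψ hψ]; simp
    · intro h
      exact absurd (Finset.mem_univ _) h
  rw [hfin]
  exact θ.2

/-- the count of irreducible characters of degree prime to the index of a normal Hall subgroup -/
theorem card_coprime_degree [Fintype K] (hcop : (Nat.card K).Coprime K.index) :
    Nat.card {χ : IrrCharacter G // (charDegree (χ : G → ℂ)).Coprime K.index}
      = Nat.card {θ : IrrCharacter K // ∀ (g : G) (n : K),
          (θ : K → ℂ) ⟨g * n * g⁻¹, hK.conj_mem n n.2 g⟩ = (θ : K → ℂ) n}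
        * Nat.card {μ : G →* ℂˣ // ∀ n ∈ K, μ n = 1} := by
  classical
  rw [← Nat.card_prod]
  symm
  -- the canonical extension
  have hex : ∀ θ : {θ : IrrCharacter K // ∀ (g : G) (n : K),
      (θ : K → ℂ) ⟨g * n * g⁻¹, hK.conj_mem n n.2 g⟩ = (θ : K → ℂ) n},
      ∃ χh : G → ℂ, IsCanon K χh ∧ ∀ n : K, χh n = (θ.1 : K → ℂ) n :=
    fun θ => exists_canon hcop θ.1.2 θ.2
  choose can hcan hcanres using hex
  have hconst : ∀ (μ : {μ : G →* ℂˣ // ∀ n ∈ K, μ n = 1}) (n : K) (g : G),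
      (fun g => ((μ.1 g : ℂˣ) : ℂ)) ((n : G) * g) = (fun g => ((μ.1 g : ℂˣ) : ℂ)) g := by
    intro μ n g
    show ((μ.1 ((n : G) * g) : ℂˣ) : ℂ) = ((μ.1 g : ℂˣ) : ℂ)
    rw [map_mul, μ.2 n n.2, one_mul]
  have hirr : ∀ (θ : {θ : IrrCharacter K // ∀ (g : G) (n : K),
      (θ : K → ℂ) ⟨g * n * g⁻¹, hK.conj_mem n n.2 g⟩ = (θ : K → ℂ) n})
      (μ : {μ : G →* ℂˣ // ∀ n ∈ K, μ n = 1}),
      IsIrrCharacter G ((fun g => ((μ.1 g : ℂˣ) : ℂ)) * can θ) := fun θ μ =>
    isIrrCharacter_mul_ext K (hcan θ).irr (hcan θ).res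
      (Cfsg.Agent.Lib.Helper79.isIrrCharacter_of_monoidHom μ.1) (hconst μ)
  have hdeg : ∀ (θ : {θ : IrrCharacter K // ∀ (g : G) (n : K),
      (θ : K → ℂ) ⟨g * n * g⁻¹, hK.conj_mem n n.2 g⟩ = (θ : K → ℂ) n})
      (μ : {μ : G →* ℂˣ // ∀ n ∈ K, μ n = 1}),
      (charDegree ((fun g => ((μ.1 g : ℂˣ) : ℂ)) * can θ)).Coprime K.index := by
    intro θ μ
    obtain ⟨d, hd, hdvd, -⟩ := Cfsg.Agent.Lib.Helper3.IsIrrCharacter.apply_one_dvd_card θ.1.2
    have h1 := Cfsg.Agent.Lib.Helper80.irr_charDegree_cast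
      (⟨(fun g => ((μ.1 g : ℂˣ) : ℂ)) * can θ, hirr θ μ⟩ : IrrCharacter G)
    have h2 : ((fun g => ((μ.1 g : ℂˣ) : ℂ)) * can θ) 1 = (d : ℂ) := by
      rw [Pi.mul_apply, ← hd]
      have := hcanres θ 1
      rw [show ((1 : K) : G) = 1 from rfl] at this
      rw [this]
      simp
    simp only at h1
    rw [h2] at h1
    have h3 : charDegree ((fun g => ((μ.1 g : ℂˣ) : ℂ)) * can θ) = d := by exact_mod_cast h1
    rw [h3]
    exact Nat.Coprime.coprime_dvd_left hdvd hcop
  refine Nat.card_congr (Equiv.ofBijective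
    (fun p => ⟨⟨(fun g => ((p.2.1 g : ℂˣ) : ℂ)) * can p.1, hirr p.1 p.2⟩, hdeg p.1 p.2⟩) ⟨?_, ?_⟩)
  · rintro ⟨θ, μ⟩ ⟨θ', μ'⟩ h
    have h1 : (fun g => ((μ.1 g : ℂˣ) : ℂ)) * can θ = (fun g => ((μ'.1 g : ℂˣ) : ℂ)) * can θ' := by
      have := congrArg (fun x : {χ : IrrCharacter G // (charDegree (χ : G → ℂ)).Coprime K.index} =>
        (x.1 : G → ℂ)) h
      exact this
    have hθ : θ = θ' := by
      apply Subtype.ext
      apply Subtype.ext
      funext n
      have h2 := congrFun h1 (n : G)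
      simp only [Pi.mul_apply] at h2
      rw [μ.2 n n.2, μ'.2 n n.2] at h2
      simp only [Units.val_one, one_mul] at h2
      rw [← hcanres θ n, ← hcanres θ' n]
      exact h2
    subst hθ
    have h3 := mul_ext_injective K (hcan θ).irr (hcan θ).res
      (Cfsg.Agent.Lib.Helper79.isIrrCharacter_of_monoidHom μ.1) (hconst μ)
      (Cfsg.Agent.Lib.Helper79.isIrrCharacter_of_monoidHom μ'.1) (hconst μ') h1
    have hμ : μ = μ' := by
      apply Subtype.ext
      refine MonoidHom.ext fun g => ?_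
      apply Units.ext
      exact congrFun h3 g
    rw [hμ]
  · rintro ⟨χ, hχ⟩
    have hres := irr_restrict_of_coprime_degree K χ hχ
    have hχc := Cfsg.Agent.Lib.Helper3.IsIrrCharacter.isCharacter χ.2
    have hinv : ∀ (g : G) (n : K),
        (fun n : K => (χ : G → ℂ) n) ⟨g * n * g⁻¹, hK.conj_mem n n.2 g⟩
          = (fun n : K => (χ : G → ℂ) n) n := fun g n =>
      Cfsg.Agent.Lib.Helper3.IsCharacter.isClassFunction hχc (n : G) g
    let θ : {θ : IrrCharacter K // ∀ (g : G) (n : K),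
      (θ : K → ℂ) ⟨g * n * g⁻¹, hK.conj_mem n n.2 g⟩ = (θ : K → ℂ) n} :=
      ⟨⟨fun n : K => (χ : G → ℂ) n, hres⟩, hinv⟩
    have hne : classInner (fun n : K => (χ : G → ℂ) n) (fun n : K => can θ n) ≠ 0 := by
      have : (fun n : K => can θ n) = fun n : K => (χ : G → ℂ) n := funext (hcanres θ)
      rw [this, Cfsg.Agent.Lib.Helper3.classInner_irr hres hres, if_pos rfl]
      exact one_ne_zero
    obtain ⟨φ, hφ, hφK, hφχ, -⟩ := exists_mul_ext K (hcan θ).irr (hcan θ).res χ.2 hne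
    have hφ1 : φ 1 = 1 := by
      have h1 := congrFun hφχ 1
      rw [Pi.mul_apply] at h1
      have h2 := hcanres θ 1
      rw [show ((1 : K) : G) = 1 from rfl] at h2
      rw [h2] at h1
      have h3 : (θ.1 : K → ℂ) 1 = (χ : G → ℂ) 1 := rfl
      rw [h3] at h1
      have h4 : (χ : G → ℂ) 1 ≠ 0 := Cfsg.Agent.Lib.Helper80.irr_one_ne_zero χ
      have h5 : (1 : ℂ) * (χ : G → ℂ) 1 = φ 1 * (χ : G → ℂ) 1 := by rw [one_mul]; exact h1
      exact (mul_right_cancel₀ h4 h5).symm
    obtain ⟨μ, hμ⟩ := Cfsg.Agent.Lib.Helper79.exists_monoidHom_of_isCharacter_of_one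
      (Cfsg.Agent.Lib.Helper3.IsIrrCharacter.isCharacter hφ) hφ1
    have hμK : ∀ n ∈ K, μ n = 1 := by
      intro n hn
      apply Units.ext
      rw [← hμ n]
      have := hφK ⟨n, hn⟩ 1
      rw [mul_one] at this
      rw [show ((⟨n, hn⟩ : K) : G) = n from rfl] at this
      rw [this, hφ1]
      rfl
    refine ⟨(θ, ⟨μ, hμK⟩), ?_⟩
    apply Subtype.ext
    apply Subtype.ext
    show (fun g => ((μ g : ℂˣ) : ℂ)) * can θ = (χ : G → ℂ)
    rw [hφχ]
    congr 1
    funext g
    exact (hμ g).symm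

omit [Fintype G] in
/-- linear characters trivial on a normal subgroup with complement `H` are the linear characters
of `H`. -/
theorem card_linMod_of_complement {H : Subgroup G} (hc : H.IsComplement' K) :
    Nat.card {μ : G →* ℂˣ // ∀ n ∈ K, μ n = 1} = Nat.card (H →* ℂˣ) := by
  let e1 : {μ : G →* ℂˣ // ∀ n ∈ K, μ n = 1} ≃ (G ⧸ K →* ℂˣ) :=
    { toFun := fun μ => QuotientGroup.lift K μ.1 (fun n hn => MonoidHom.mem_ker.2 (μ.2 n hn))
      invFun := fun ν => ⟨ν.comp (QuotientGroup.mk' K), fun n hn => by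
        show ν (QuotientGroup.mk n) = 1
        rw [(QuotientGroup.eq_one_iff n).2 hn, map_one]⟩
      left_inv := fun μ => Subtype.ext (MonoidHom.ext fun g => rfl)
      right_inv := fun ν => MonoidHom.ext fun x => by
        obtain ⟨g, rfl⟩ := QuotientGroup.mk_surjective x
        rfl }
  exact Nat.card_congr (e1.trans (MulEquiv.monoidHomCongrLeftEquiv hc.QuotientMulEquiv))

end DegCoprime

end Cfsg.Agent.Lib.Helper15
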