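import Mathlib
import Cfsg.Prelude.Def_Characters
import Cfsg.Agent.Lib.Helper15.BergerCore
import Cfsg.Agent.Lib.Helper15.IrrCrit
import Cfsg.Agent.Lib.Helper25.Ind
import Cfsg.Agent.Lib.Helper3.Induced
import Cfsg.Agent.Lib.Helper3.CharBasic

set_option autoImplicit false
open Cfsg
open scoped ComplexConjugate

/-!
# Fully ramified characters

`χ ∈ Irr(G)`, `θ ∈ Irr(Z)` with `χ_Z = e θ` and `e² = |G : Z|`.
-/

namespace Cfsg.Agent.Lib.Helper15

open Cfsg.Agent.Lib.Helper25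

variable {G : Type*} [Group G] [Fintype G]

/-- A fully ramified character vanishes off the subgroup. -/
theorem fullyRam_vanish (Z : Subgroup G) [Fintype Z] {χ : G → ℂ} (hχ : IsIrrCharacter G χ)
    {θ : Z → ℂ} (hθ : IsIrrCharacter Z θ) {e : ℕ} (he : e ^ 2 = Z.index)
    (hres : ∀ z : Z, χ z = (e : ℂ) * θ z) : ∀ g : G, g ∉ Z → χ g = 0 := by
  classical
  have h1 := sum_normSq_irr hχ
  have h2 := sum_normSq_irr hθ
  have h3 : ∑ z : Z, χ z * conj (χ z) = (Nat.card G : ℂ) := by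
    have : ∀ z : Z, χ z * conj (χ z) = ((e : ℂ) ^ 2) * (θ z * conj (θ z)) := by
      intro z
      rw [hres z, map_mul, Complex.conj_natCast]
      ring
    rw [Finset.sum_congr rfl (fun z _ => this z), ← Finset.mul_sum, h2]
    have h4 : Nat.card Z * Z.index = Nat.card G := Subgroup.card_mul_index Z
    rw [← h4, ← he]
    push_cast
    ring
  rw [sum_subgroup_eq_sum_filter Z (fun g => χ g * conj (χ g))] at h3
  have h5 : ∑ g ∈ Finset.univ.filter (fun g => g ∉ Z), χ g * conj (χ g) = 0 := by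
    have h6 := Finset.sum_filter_add_sum_filter_not Finset.univ (fun g => g ∈ Z)
      (fun g => χ g * conj (χ g))
    rw [h3, h1] at h6
    exact add_left_cancel (a := (Nat.card G : ℂ)) (by rw [h6, add_zero])
  have h7 : ∑ g ∈ Finset.univ.filter (fun g => g ∉ Z), Complex.normSq (χ g) = 0 := by
    have : ∀ g : G, χ g * conj (χ g) = ((Complex.normSq (χ g) : ℝ) : ℂ) := fun g =>
      Complex.mul_conj (χ g)
    rw [Finset.sum_congr rfl (fun g _ => this g), ← Complex.ofReal_sum] at h5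
    exact_mod_cast h5
  intro g hg
  have h8 := (Finset.sum_eq_zero_iff_of_nonneg (fun g _ => Complex.normSq_nonneg (χ g))).1 h7 g
    (by simp [hg])
  exact Complex.normSq_eq_zero.1 h8

/-- The extension by zero of `θ` is `e⁻¹ χ`. -/
theorem fullyRam_extendByZero (Z : Subgroup G) [Fintype Z] {χ : G → ℂ} (hχ : IsIrrCharacter G χ)
    {θ : Z → ℂ} (hθ : IsIrrCharacter Z θ) {e : ℕ} (he : e ^ 2 = Z.index)
    (hres : ∀ z : Z, χ z = (e : ℂ) * θ z) (y : G) :
    extendByZero Z θ y = (e : ℂ)⁻¹ * χ y := by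
  have he0 : (e : ℂ) ≠ 0 := by
    have : e ≠ 0 := by
      intro h
      rw [h] at he
      have := Z.index_ne_zero_of_finite
      exact this (by rw [← he]; norm_num)
    exact_mod_cast this
  by_cases hy : y ∈ Z
  · rw [extendByZero_of_mem Z θ hy, hres ⟨y, hy⟩, ← mul_assoc, inv_mul_cancel₀ he0, one_mul]
  · rw [extendByZero_of_not_mem Z θ hy, fullyRam_vanish Z hχ hθ he hres y hy, mul_zero]

/-- `θ^G = e χ`. -/
theorem fullyRam_indFun (Z : Subgroup G) [Fintype Z] {χ : G → ℂ} (hχ : IsIrrCharacter G χ)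
    {θ : Z → ℂ} (hθ : IsIrrCharacter Z θ) {e : ℕ} (he : e ^ 2 = Z.index)
    (hres : ∀ z : Z, χ z = (e : ℂ) * θ z) (g : G) :
    ∑ x : G, extendByZero Z θ (x⁻¹ * g * x) = (Nat.card Z : ℂ) * ((e : ℂ) * χ g) := by
  have he0 : (e : ℂ) ≠ 0 := by
    have : e ≠ 0 := by
      intro h
      rw [h] at he
      have := Z.index_ne_zero_of_finite
      exact this (by rw [← he]; norm_num)
    exact_mod_cast this
  have hcl := Cfsg.Agent.Lib.Helper3.IsCharacter.isClassFunction
    (Cfsg.Agent.Lib.Helper3.IsIrrCharacter.isCharacter hχ)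
  have h1 : ∀ x : G, extendByZero Z θ (x⁻¹ * g * x) = (e : ℂ)⁻¹ * χ g := by
    intro x
    rw [fullyRam_extendByZero Z hχ hθ he hres]
    have := hcl g x⁻¹
    rw [inv_inv] at this
    rw [this]
  rw [Finset.sum_congr rfl (fun x _ => h1 x), Finset.sum_const, Finset.card_univ, nsmul_eq_mul,
    ← Nat.card_eq_fintype_card]
  have h4 : Nat.card Z * Z.index = Nat.card G := Subgroup.card_mul_index Z
  rw [← h4, ← he]
  push_cast
  field_simp

/-- Key lemma: if `ψ` is a character of `A ≥ Z` restricting to `θ` on `Z` and `λ_i` are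
characters of `A` whose sum is `M` times the indicator of `Z`, then each `(ψ λ_i)^G`
vanishes off `Z`. -/
theorem fullyRam_ind_vanish (Z A : Subgroup G) [Fintype Z] (hZA : Z ≤ A)
    {χ : G → ℂ} (hχ : IsIrrCharacter G χ)
    {θ : Z → ℂ} (hθ : IsIrrCharacter Z θ) {e : ℕ} (he : e ^ 2 = Z.index)
    (hres : ∀ z : Z, χ z = (e : ℂ) * θ z)
    {ψ : A → ℂ} (hψ : IsCharacter A ψ) (hψZ : ∀ z : Z, ψ ⟨z, hZA z.2⟩ = θ z)
    {ι : Type*} [Fintype ι] (lam : ι → A → ℂ) (hlam : ∀ i, IsCharacter A (lam i))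
    [DecidablePred (fun g : G => g ∈ Z)]
    (M : ℂ) (hsum : ∀ a : A, ∑ i, lam i a = if (a : G) ∈ Z then M else 0)
    (i : ι) (g : G) (hg : g ∉ Z) : indFun A (ψ * lam i) g = 0 := by
  classical
  have : Fintype (IrrCharacter G) := Fintype.ofFinite _
  have hΨ : ∀ j, IsCharacter G (indFun A (ψ * lam j)) := fun j =>
    Cfsg.Agent.Lib.Helper3.isCharacter_indFun A (Cfsg.Agent.Lib.Helper3.IsCharacter.mul hψ (hlam j))
  -- the sum
  have hS : ∑ j, indFun A (ψ * lam j) =
      ((Nat.card A : ℂ)⁻¹ * M * (Nat.card Z : ℂ) * (e : ℂ)) • χ := by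
    rw [← Cfsg.Agent.Lib.Helper25.indFun_sum]
    funext y
    rw [Cfsg.Agent.Lib.Helper25.indFun_apply]
    have h1 : ∀ w : G, extendByZero A (∑ j, ψ * lam j) w = M * extendByZero Z θ w := by
      intro w
      by_cases hwA : w ∈ A
      · rw [extendByZero_of_mem A _ hwA]
        rw [Finset.sum_apply]
        simp only [Pi.mul_apply]
        rw [← Finset.mul_sum, hsum ⟨w, hwA⟩]
        by_cases hwZ : w ∈ Z
        · rw [if_pos hwZ, extendByZero_of_mem Z θ hwZ, ← hψZ ⟨w, hwZ⟩]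
          ring
        · rw [if_neg hwZ, extendByZero_of_not_mem Z θ hwZ, mul_zero, mul_zero]
      · rw [extendByZero_of_not_mem A _ hwA, extendByZero_of_not_mem Z θ (fun h => hwA (hZA h)),
          mul_zero]
    rw [Finset.sum_congr rfl (fun x _ => h1 (x⁻¹ * y * x)), ← Finset.mul_sum,
      fullyRam_indFun Z hχ hθ he hres y]
    simp only [Pi.smul_apply, smul_eq_mul]
    ring
  -- multiplicities
  have hm : ∀ (χ' : IrrCharacter G), (χ' : G → ℂ) ≠ χ → ∀ j,
      classInner (indFun A (ψ * lam j)) (χ' : G → ℂ) = 0 := by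
    intro χ' hne
    have h1 : ∑ j, classInner (indFun A (ψ * lam j)) (χ' : G → ℂ) = 0 := by
      rw [← Cfsg.Agent.Lib.Helper25.classInner_sum_left, hS,
        Cfsg.Agent.Lib.Helper25.classInner_smul_left,
        Cfsg.Agent.Lib.Helper3.classInner_irr hχ χ'.2, if_neg (fun h => hne h.symm), mul_zero]
    choose m hm using fun j => exists_nat_classInner (hΨ j)
      (Cfsg.Agent.Lib.Helper3.IsIrrCharacter.isCharacter χ'.2)
    rw [Finset.sum_congr rfl (fun j _ => hm j)] at h1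
    have h2 : ∑ j, m j = 0 := by exact_mod_cast h1
    intro j
    rw [hm j]
    have := (Finset.sum_eq_zero_iff.1 h2) j (Finset.mem_univ j)
    rw [this, Nat.cast_zero]
  obtain ⟨m, hm1, hm2⟩ := exists_nat_decomp (hΨ i)
  rw [hm2, Finset.sum_apply]
  apply Finset.sum_eq_zero
  intro χ' _
  simp only [Pi.smul_apply, smul_eq_mul]
  by_cases hne : (χ' : G → ℂ) = χ
  · rw [hne, fullyRam_vanish Z hχ hθ he hres g hg, mul_zero]
  · rw [← hm1 χ', hm χ' hne i, zero_mul]

open Classical in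
/-- Orthogonality for the dual group of a finite commutative group. -/
theorem sum_monoidHom_apply (Q : Type*) [CommGroup Q] [Finite Q] [Fintype (Q →* ℂˣ)] (q : Q) :
    ∑ φ : Q →* ℂˣ, ((φ q : ℂˣ) : ℂ) = if q = 1 then (Fintype.card (Q →* ℂˣ) : ℂ) else 0 := by
  split_ifs with hq
  · subst hq
    simp
  · obtain ⟨φ₀, hφ₀⟩ := CommGroup.exists_apply_ne_one_of_hasEnoughRootsOfUnity Q ℂ hq
    have h1 : ((φ₀ q : ℂˣ) : ℂ) * ∑ φ : Q →* ℂˣ, ((φ q : ℂˣ) : ℂ)
        = ∑ φ : Q →* ℂˣ, ((φ q : ℂˣ) : ℂ) := by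
      rw [Finset.mul_sum]
      refine Fintype.sum_equiv (Equiv.mulLeft φ₀) _ _ ?_
      intro φ
      simp
    have h2 : ((φ₀ q : ℂˣ) : ℂ) ≠ 1 := by
      intro h
      apply hφ₀
      exact Units.ext h
    have h3 : (((φ₀ q : ℂˣ) : ℂ) - 1) * ∑ φ : Q →* ℂˣ, ((φ q : ℂˣ) : ℂ) = 0 := by
      rw [sub_mul, h1, one_mul, sub_self]
    rcases mul_eq_zero.1 h3 with h | h
    · exact absurd (sub_eq_zero.1 h) h2
    · exact h

end Cfsg.Agent.Lib.Helper15
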