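import Mathlib
import Cfsg.Agent.Lib.Helper15.GlaubCyc
import Cfsg.Agent.Lib.Helper74.Osima5
import Cfsg.Agent.Lib.Helper3.Degree
import Cfsg.Agent.Lib.Helper15.GlaubData

set_option autoImplicit false
set_option linter.unusedSectionVars false
set_option linter.style.haveILetI false

/-!
# Cyclic `p`-groups of operators: the congruence `[χ_C, β'] ≡ ε δ_{β β'} (mod p)`
-/

namespace Cfsg.Agent.Lib.Helper15

open Cfsg
open scoped ComplexConjugate

universe u

section RootSum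

/-- `p` is not a unit in the ring of algebraic integers -/
theorem natCast_mem_nonunits_algInt (p : ℕ) (hp : p.Prime) : (p : AlgInt) ∈ nonunits AlgInt := by
  obtain ⟨M, hM⟩ := Cfsg.Agent.Lib.Helper74.exists_isPModular hp
  intro hu
  exact hM.2.1.ne_top (Ideal.eq_top_of_isUnit_mem _ hM.2.2 hu)

/-- A sum of `p`-power roots of unity with natural multiplicities, if an integer, is congruent
modulo `p` to the sum of the multiplicities. -/
theorem int_modEq_of_root_sum (p : ℕ) [hp : Fact p.Prime] {ι : Type*} [Fintype ι] (m : ι → ℕ)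
    (ω : ι → ℂ) (j : ℕ) (hω : ∀ i, ω i ^ (p ^ j) = 1) (r M : ℤ)
    (hr : (r : ℂ) = ∑ i, (m i : ℂ) * ω i) (hM : (M : ℂ) = ∑ i, (m i : ℂ)) :
    r ≡ M [ZMOD p] := by
  have hint : ∀ i, IsIntegral ℤ (ω i) := fun i =>
    IsIntegral.of_pow (pow_pos hp.out.pos j) (by rw [hω i]; exact isIntegral_one)
  let z : ι → AlgInt := fun i => ⟨ω i, hint i⟩
  haveI := CharP.quotient AlgInt p (natCast_mem_nonunits_algInt p hp.out)
  have hz : ∀ i, z i ^ (p ^ j) = 1 := by
    intro i
    apply Subtype.ext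
    show ω i ^ (p ^ j) = 1
    exact hω i
  have hq : (Ideal.Quotient.mk (Ideal.span {(p : AlgInt)}))
      ((∑ i, (m i : AlgInt) * z i) ^ (p ^ j) - (∑ i, (m i : AlgInt)) ^ (p ^ j)) = 0 := by
    rw [map_sub, map_pow, map_sum, map_pow, map_sum, sum_pow_char_pow, sum_pow_char_pow]
    rw [sub_eq_zero]
    refine Finset.sum_congr rfl fun i _ => ?_
    rw [map_mul, mul_pow, ← map_pow _ (z i), hz i, map_one, mul_one]
  rw [Ideal.Quotient.eq_zero_iff_mem, Ideal.mem_span_singleton] at hq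
  obtain ⟨γ, hγ⟩ := hq
  have h1 := congrArg (fun u : AlgInt => (u : ℂ)) hγ
  simp only [z] at h1
  have h2 : (r : ℂ) ^ (p ^ j) - (M : ℂ) ^ (p ^ j) = (p : ℂ) * (γ : ℂ) := by
    rw [hr, hM]
    convert h1 using 1
    · push_cast
      rfl
    · push_cast
      rfl
  have hp0 : (p : ℂ) ≠ 0 := by exact_mod_cast hp.out.ne_zero
  have h3 : IsIntegral ℤ ((((r ^ (p ^ j) - M ^ (p ^ j) : ℤ) : ℚ) / (p : ℚ) : ℚ) : ℂ) := by
    have h4 : ((((r ^ (p ^ j) - M ^ (p ^ j) : ℤ) : ℚ) / (p : ℚ) : ℚ) : ℂ) = (γ : ℂ) := by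
      push_cast
      rw [h2]
      field_simp
    rw [h4]
    exact γ.2
  obtain ⟨t, ht⟩ := Cfsg.Agent.Lib.Helper3.int_of_isIntegral_ratCast h3
  have hp0' : (p : ℚ) ≠ 0 := by exact_mod_cast hp.out.ne_zero
  have h5 : r ^ (p ^ j) - M ^ (p ^ j) = (p : ℤ) * t := by
    have h6 : ((r ^ (p ^ j) - M ^ (p ^ j) : ℤ) : ℚ) = (p : ℚ) * (t : ℚ) := by
      rw [ht]
      field_simp
    exact_mod_cast h6
  rw [← ZMod.intCast_eq_intCast_iff]
  have h7 := congrArg (fun x : ℤ => (x : ZMod p)) h5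
  simp only [Int.cast_sub, Int.cast_pow, Int.cast_mul, Int.cast_natCast, ZMod.natCast_self,
    zero_mul, ZMod.pow_card_pow] at h7
  exact sub_eq_zero.1 h7

end RootSum

section CentralPow

variable {D : Type u} [Group D] [Fintype D] {C : Type u} [Group C] [Fintype C]

/-- the decomposition, with roots of unity -/
theorem central_decomp_pow [Fintype (IrrCharacter D)] (j : C →* D) {z : D}
    (hz : z ∈ Subgroup.center D)
    {ψ : D → ℂ} (hψ : IsCharacter D ψ) {β : C → ℂ} (hβ : IsIrrCharacter C β) :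
    ∃ (m : IrrCharacter D → ℕ) (ω : IrrCharacter D → ℂ), (∀ η, ω η ^ orderOf z = 1) ∧
      classInner (fun c => ψ (j c * z)) β = ∑ η : IrrCharacter D, (m η : ℂ) * ω η ∧
      classInner (fun c => ψ (j c)) β = ∑ η : IrrCharacter D, (m η : ℂ) := by
  classical
  obtain ⟨n, -, hn⟩ := Cfsg.Agent.Lib.Helper3.IsCharacter.exists_mult hψ
  have hk : ∀ η : IrrCharacter D, ∃ k : ℕ, classInner (fun c => (η : D → ℂ) (j c)) β = (k : ℂ) :=
    fun η => Cfsg.Agent.Lib.Helper3.IsCharacter.classInner_irr_nat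
      (Cfsg.Agent.Lib.Helper25.IsCharacter.comp_hom j
        (Cfsg.Agent.Lib.Helper3.IsIrrCharacter.isCharacter η.2)) hβ
  choose k hk using hk
  refine ⟨fun η => n η * k η, fun η => Cfsg.Agent.Lib.Helper76.om η z,
    fun η => om_pow_eq_one η hz, ?_, ?_⟩
  · have h1 : (fun c => ψ (j c * z)) = fun c => ∑ η : IrrCharacter D,
        ((n η : ℂ) * Cfsg.Agent.Lib.Helper76.om η z) * (η : D → ℂ) (j c) := by
      funext c
      rw [hn]
      simp only [Finset.sum_apply, Pi.smul_apply, smul_eq_mul]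
      refine Finset.sum_congr rfl fun η _ => ?_
      rw [Cfsg.Agent.Lib.Helper76.irr_mul_central' η z hz]
      ring
    rw [h1, classInner_sum_left]
    refine Finset.sum_congr rfl fun η _ => ?_
    rw [classInner_const_mul_left, hk]
    push_cast
    ring
  · have h1 : (fun c => ψ (j c)) = fun c => ∑ η : IrrCharacter D,
        (n η : ℂ) * (η : D → ℂ) (j c) := by
      funext c
      rw [hn]
      simp only [Finset.sum_apply, Pi.smul_apply, smul_eq_mul]
    rw [h1, classInner_sum_left]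
    refine Finset.sum_congr rfl fun η _ => ?_
    rw [classInner_const_mul_left, hk]
    push_cast
    ring

end CentralPow

section P1abs

variable {Γ : Type u} [Group Γ] [Fintype Γ] {N : Subgroup Γ} [hN : N.Normal] [Fintype N] {a : Γ}
  [Fintype (fixSub N a)]

/-- the congruence for `p`-elements `a`. -/
theorem p1_congr (p : ℕ) [hp : Fact p.Prime] {j : ℕ} (hord : orderOf a = p ^ j)
    {χh : Γ → ℂ} (hχ : IsCharacter Γ χh)
    {β : IrrCharacter (fixSub N a)} {ε : ℤ}
    (hstar : ∀ c : fixSub N a, χh ((c : Γ) * a) = (ε : ℂ) * (β : fixSub N a → ℂ) c)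
    (β' : IrrCharacter (fixSub N a)) :
    ∃ m : ℕ, classInner (fun c : fixSub N a => χh (c : Γ)) (β' : fixSub N a → ℂ) = (m : ℂ) ∧
      (m : ℤ) ≡ (if β' = β then ε else 0) [ZMOD p] := by
  classical
  have : Fintype (Subgroup.centralizer ({a} : Set Γ)) := Fintype.ofFinite _
  have : Fintype (IrrCharacter (Subgroup.centralizer ({a} : Set Γ))) := Fintype.ofFinite _
  have hz : (⟨a, Subgroup.mem_centralizer_singleton_iff.2 rfl⟩ : Subgroup.centralizer ({a} : Set Γ))
      ∈ Subgroup.center (Subgroup.centralizer ({a} : Set Γ)) := by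
    rw [Subgroup.mem_center_iff]
    intro g
    apply Subtype.ext
    exact Subgroup.mem_centralizer_singleton_iff.1 g.2
  obtain ⟨mm, ω, hω, h1, h2⟩ := central_decomp_pow
    (Subgroup.inclusion (fixSub_le_centralizer (N := N) (a := a)))
    hz (Cfsg.Agent.Lib.Helper3.IsCharacter.restrict hχ _) β'.2
  have hordz : orderOf (⟨a, Subgroup.mem_centralizer_singleton_iff.2 rfl⟩ :
      Subgroup.centralizer ({a} : Set Γ)) = p ^ j := by
    rw [← hord]
    exact (Subgroup.orderOf_coe (⟨a, Subgroup.mem_centralizer_singleton_iff.2 rfl⟩ :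
      Subgroup.centralizer ({a} : Set Γ))).symm
  rw [hordz] at hω
  obtain ⟨m, hm⟩ := Cfsg.Agent.Lib.Helper3.IsCharacter.classInner_irr_nat
    (Cfsg.Agent.Lib.Helper3.IsCharacter.restrict hχ (fixSub N a)) β'.2
  refine ⟨m, hm, ?_⟩
  have h3 : classInner (fun c : fixSub N a => χh ((c : Γ) * a)) (β' : fixSub N a → ℂ)
      = (((if β' = β then ε else 0 : ℤ)) : ℂ) := by
    have h4 : (fun c : fixSub N a => χh ((c : Γ) * a))
        = fun c => (ε : ℂ) * (β : fixSub N a → ℂ) c := funext hstar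
    rw [h4, classInner_const_mul_left, Cfsg.Agent.Lib.Helper3.classInner_irr β.2 β'.2]
    by_cases hb : β' = β
    · rw [if_pos hb, if_pos (by rw [hb]), mul_one]
    · rw [if_neg hb, if_neg (fun h => hb (Subtype.ext h.symm)), mul_zero, Int.cast_zero]
  have h5 := int_modEq_of_root_sum p mm ω j hω (if β' = β then ε else 0) (m : ℤ)
    (by rw [← h3]; exact h1) (by rw [Int.cast_natCast, ← hm]; exact h2)
  exact h5.symm

omit [Fintype N] [Fintype (fixSub N a)] in
/-- `Γ = N ⟨a⟩`, elementwise. -/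
theorem exists_pow_mul_mem_of_sup (hsup : N ⊔ Subgroup.zpowers a = ⊤) (x : Γ) :
    ∃ k : ℕ, x * a ^ k ∈ N := by
  have hx : x ∈ ((N ⊔ Subgroup.zpowers a : Subgroup Γ) : Set Γ) := by rw [hsup]; trivial
  rw [Subgroup.normal_mul] at hx
  obtain ⟨g, hg, s, hs, rfl⟩ := Set.mem_mul.1 hx
  have hs' : s⁻¹ ∈ Subgroup.zpowers a := Subgroup.inv_mem _ hs
  rw [← mem_powers_iff_mem_zpowers, Submonoid.mem_powers_iff] at hs'
  obtain ⟨k, hk⟩ := hs'
  refine ⟨k, ?_⟩
  rw [hk]
  have : g * s * s⁻¹ = g := by group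
  rw [this]
  exact hg

omit [Fintype N] [Fintype (fixSub N a)] in
theorem index_eq_of_sup (hcop : (Nat.card N).Coprime (orderOf a))
    (hsup : N ⊔ Subgroup.zpowers a = ⊤) : N.index = orderOf a := by
  rw [← Nat.card_zpowers]
  exact (Cfsg.Agent.Lib.Helper24.card_eq_index_of_sup_eq_top N (Subgroup.zpowers a) hsup
    (by rwa [Nat.card_zpowers])).symm

omit [Fintype N] [Fintype (fixSub N a)] in
/-- invariance under `a` gives invariance under `Γ = N ⟨a⟩`. -/
theorem inv_of_inv_gen (hsup : N ⊔ Subgroup.zpowers a = ⊤) {θ : N → ℂ}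
    (hθ : IsClassFunction N θ)
    (ha : ∀ n : N, θ ⟨a * n * a⁻¹, hN.conj_mem n n.2 a⟩ = θ n) :
    ∀ (g : Γ) (n : N), θ ⟨g * n * g⁻¹, hN.conj_mem n n.2 g⟩ = θ n := by
  let Stab : Subgroup Γ :=
    { carrier := {g | ∀ n : N, θ ⟨g * n * g⁻¹, hN.conj_mem n n.2 g⟩ = θ n}
      one_mem' := by
        intro n
        congr 1
        apply Subtype.ext
        simp
      mul_mem' := by
        intro g h hg hh n
        have h1 := hg ⟨h * n * h⁻¹, hN.conj_mem n n.2 h⟩
        rw [hh n] at h1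
        rw [← h1]
        congr 1
        apply Subtype.ext
        simp only [mul_inv_rev]
        group
      inv_mem' := by
        intro g hg n
        have h1 := hg ⟨g⁻¹ * n * g⁻¹⁻¹, hN.conj_mem n n.2 g⁻¹⟩
        rw [← h1]
        congr 1
        apply Subtype.ext
        simp only [inv_inv]
        group }
  have h1 : N ≤ Stab := by
    intro h hh n
    have := hθ n ⟨h, hh⟩
    rw [← this]
    congr 1
  have h2 : Subgroup.zpowers a ≤ Stab := by
    rw [Subgroup.zpowers_le]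
    exact ha
  have h3 : (⊤ : Subgroup Γ) ≤ Stab := by
    rw [← hsup]
    exact sup_le h1 h2
  intro g n
  exact h3 (Subgroup.mem_top g) n

/-- the correspondence for `Γ = N ⟨a⟩`, `a` a `p`-element. -/
theorem glaubData_cyc (p : ℕ) [hp : Fact p.Prime] (hcop : (Nat.card N).Coprime (orderOf a))
    (hsup : N ⊔ Subgroup.zpowers a = ⊤) {j : ℕ} (hord : orderOf a = p ^ j) :
    GlaubData p (Subgroup.inclusion (fixSub_le : fixSub N a ≤ N))
      (fun θ : N → ℂ => ∀ n : N, θ ⟨a * n * a⁻¹, hN.conj_mem n n.2 a⟩ = θ n) := by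
  classical
  have hidx := index_eq_of_sup hcop hsup
  have hgen := exists_pow_mul_mem_of_sup hsup
  have hcopI : (Nat.card N).Coprime N.index := by rwa [hidx]
  -- the canonical data of an invariant character
  have key : ∀ θ : IrrCharacter N,
      (∀ n : N, (θ : N → ℂ) ⟨a * n * a⁻¹, hN.conj_mem n n.2 a⟩ = (θ : N → ℂ) n) →
      ∃ (χh : Γ → ℂ) (β : IrrCharacter (fixSub N a)) (ε : ℤ), IsCanon N χh ∧
        (∀ n : N, χh n = (θ : N → ℂ) n) ∧ (ε = 1 ∨ ε = -1) ∧
        (∀ c : fixSub N a, χh ((c : Γ) * a) = (ε : ℂ) * (β : fixSub N a → ℂ) c) ∧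
        ∀ β' : IrrCharacter (fixSub N a), ∃ m : ℕ,
          classInner (fun c : fixSub N a => (θ : N → ℂ)
            (Subgroup.inclusion (fixSub_le : fixSub N a ≤ N) c)) (β' : fixSub N a → ℂ) = (m : ℂ) ∧
          (β' = β → (m : ℤ) ≡ ε [ZMOD p]) ∧ (β' ≠ β → p ∣ m) := by
    intro θ hθ
    have hinv := inv_of_inv_gen hsup (Cfsg.Agent.Lib.Helper3.IsCharacter.isClassFunction
      (Cfsg.Agent.Lib.Helper3.IsIrrCharacter.isCharacter θ.2)) hθ
    obtain ⟨χh, hcan, hχh⟩ := exists_canon hcopI θ.2 hinv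
    obtain ⟨β, ε, hε, hstar⟩ := exists_star_eq hcop hidx hcan
    refine ⟨χh, β, ε, hcan, hχh, hε, hstar, ?_⟩
    intro β'
    obtain ⟨m, hm, hmod⟩ := p1_congr p hord
      (Cfsg.Agent.Lib.Helper3.IsIrrCharacter.isCharacter hcan.irr) hstar β'
    refine ⟨m, ?_, ?_, ?_⟩
    · rw [← hm]
      congr 1
      funext c
      exact (hχh _).symm
    · intro hb
      rwa [if_pos hb] at hmod
    · intro hb
      rw [if_neg hb] at hmod
      have := (Int.modEq_zero_iff_dvd).1 hmod
      exact_mod_cast this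
  constructor
  · intro θ hθ
    obtain ⟨χh, β, ε, -, -, hε, -, h⟩ := key θ hθ
    exact ⟨β, ε, hε, h⟩
  · intro θ θ' hθ hθ' β m m' hm hmd hm' hmd'
    obtain ⟨χh, β₁, ε₁, hcan₁, hχh₁, hε₁, hstar₁, h₁⟩ := key θ hθ
    obtain ⟨χh', β₂, ε₂, hcan₂, hχh₂, hε₂, hstar₂, h₂⟩ := key θ' hθ'
    have hβ₁ : β = β₁ := by
      by_contra hne
      obtain ⟨m₁, hm₁, -, hd⟩ := h₁ β
      have : m = m₁ := natCast_eq_of_complex hm hm₁
      exact hmd (this ▸ hd hne)
    have hβ₂ : β = β₂ := by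
      by_contra hne
      obtain ⟨m₁, hm₁, -, hd⟩ := h₂ β
      have : m' = m₁ := natCast_eq_of_complex hm' hm₁
      exact hmd' (this ▸ hd hne)
    subst hβ₁
    have h3 := canon_injective hcop hidx hcan₁ hcan₂ hε₁ hε₂ hstar₁ (by rw [hβ₂]; exact hstar₂)
    apply Subtype.ext
    funext n
    rw [← hχh₁ n, ← hχh₂ n]
    exact congrFun h3 n
  · intro β
    obtain ⟨χh, hcan, ε, hε, hstar⟩ := canon_surjective hcop hidx hgen β
    refine ⟨⟨fun n : N => χh n, hcan.res⟩, ?_, ?_⟩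
    · intro n
      exact Cfsg.Agent.Lib.Helper3.IsCharacter.isClassFunction
        (Cfsg.Agent.Lib.Helper3.IsIrrCharacter.isCharacter hcan.irr) (n : Γ) a
    · obtain ⟨m, hm, hmod⟩ := p1_congr p hord
        (Cfsg.Agent.Lib.Helper3.IsIrrCharacter.isCharacter hcan.irr) hstar β
      rw [if_pos rfl] at hmod
      exact ⟨m, hm, not_dvd_of_modEq_sign hp.out hε hmod⟩

end P1abs

end Cfsg.Agent.Lib.Helper15
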