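import Mathlib
import Cfsg.Agent.Lib.Helper15.GlaubP

set_option autoImplicit false
set_option linter.unusedSectionVars false
set_option linter.style.haveILetI false

/-!
# The correspondence for a `p`-element `a` normalising a subgroup `E` of `Γ`
-/

namespace Cfsg.Agent.Lib.Helper15

open Cfsg
open scoped ComplexConjugate

universe u

section P1

variable {Γ : Type u} [Group Γ]

/-- `θ` is invariant under conjugation by `x`. -/
def InvAt (E : Subgroup Γ) (x : Γ) (θ : E → ℂ) : Prop :=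
  ∀ g g' : E, (g' : Γ) = x * g * x⁻¹ → θ g' = θ g

variable [Fintype Γ]

/-- if `a E a⁻¹ ⊆ E` then `a` normalises `E`. -/
theorem mem_normalizer_of_conj_mem {E : Subgroup Γ} {a : Γ} (ha : ∀ e ∈ E, a * e * a⁻¹ ∈ E) :
    a ∈ Subgroup.normalizer (E : Set Γ) := by
  rw [Subgroup.mem_normalizer_iff]
  intro h
  refine ⟨ha h, ?_⟩
  intro hh
  let f : E → E := fun e => ⟨a * e * a⁻¹, ha e e.2⟩
  have hf : Function.Injective f := by
    intro e e' hee
    have h1 : a * (e : Γ) * a⁻¹ = a * (e' : Γ) * a⁻¹ := congrArg Subtype.val hee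
    apply Subtype.ext
    exact mul_left_cancel (mul_right_cancel h1)
  obtain ⟨e, he⟩ := (Finite.injective_iff_surjective.1 hf) ⟨a * h * a⁻¹, hh⟩
  have h1 : a * (e : Γ) * a⁻¹ = a * h * a⁻¹ := congrArg Subtype.val he
  have h2 : (e : Γ) = h := mul_left_cancel (mul_right_cancel h1)
  rw [← h2]
  exact e.2

/-- the correspondence for a `p`-element normalising `E`. -/
theorem glaubData_sub (p : ℕ) [hp : Fact p.Prime] (E : Subgroup Γ) (a : Γ)
    (ha : ∀ e ∈ E, a * e * a⁻¹ ∈ E) (hcop : (Nat.card E).Coprime (orderOf a)) {j : ℕ}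
    (hord : orderOf a = p ^ j) [Fintype (fixSub E a)] :
    GlaubData p (Subgroup.inclusion (fixSub_le : fixSub E a ≤ E)) (InvAt E a) := by
  classical
  have hEM : E ≤ E ⊔ Subgroup.zpowers a := le_sup_left
  have haM : a ∈ E ⊔ Subgroup.zpowers a := le_sup_right (a := E) (Subgroup.mem_zpowers a)
  have hnorm : E ⊔ Subgroup.zpowers a ≤ Subgroup.normalizer (E : Set Γ) :=
    sup_le Subgroup.le_normalizer (Subgroup.zpowers_le.2 (mem_normalizer_of_conj_mem ha))
  haveI hN₀ : (E.subgroupOf (E ⊔ Subgroup.zpowers a)).Normal :=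
    (Subgroup.normal_subgroupOf_iff_le_normalizer hEM).2 hnorm
  haveI : Fintype (E ⊔ Subgroup.zpowers a : Subgroup Γ) := Fintype.ofFinite _
  haveI : Fintype (E.subgroupOf (E ⊔ Subgroup.zpowers a)) := Fintype.ofFinite _
  haveI : Fintype (fixSub (E.subgroupOf (E ⊔ Subgroup.zpowers a))
    (⟨a, haM⟩ : (E ⊔ Subgroup.zpowers a : Subgroup Γ))) := Fintype.ofFinite _
  have hord₀ : orderOf (⟨a, haM⟩ : (E ⊔ Subgroup.zpowers a : Subgroup Γ)) = orderOf a :=
    Subgroup.orderOf_mk a haM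
  have hcard₀ : Nat.card (E.subgroupOf (E ⊔ Subgroup.zpowers a)) = Nat.card E :=
    Nat.card_congr (Subgroup.subgroupOfEquivOfLe hEM).toEquiv
  have hzp : (Subgroup.zpowers a).subgroupOf (E ⊔ Subgroup.zpowers a)
      = Subgroup.zpowers (⟨a, haM⟩ : (E ⊔ Subgroup.zpowers a : Subgroup Γ)) := by
    ext x
    rw [Subgroup.mem_subgroupOf, Subgroup.mem_zpowers_iff, Subgroup.mem_zpowers_iff]
    constructor
    · rintro ⟨k, hk⟩
      exact ⟨k, Subtype.ext (by rw [Subgroup.coe_zpow]; exact hk)⟩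
    · rintro ⟨k, hk⟩
      refine ⟨k, ?_⟩
      have := congrArg Subtype.val hk
      rw [Subgroup.coe_zpow] at this
      exact this
  have hsup₀ : E.subgroupOf (E ⊔ Subgroup.zpowers a)
      ⊔ Subgroup.zpowers (⟨a, haM⟩ : (E ⊔ Subgroup.zpowers a : Subgroup Γ)) = ⊤ := by
    rw [← hzp]
    exact codisjoint_iff.1 (Subgroup.codisjoint_subgroupOf_sup E (Subgroup.zpowers a))
  have D := glaubData_cyc p (N := E.subgroupOf (E ⊔ Subgroup.zpowers a))
    (a := (⟨a, haM⟩ : (E ⊔ Subgroup.zpowers a : Subgroup Γ)))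
    (by rw [hcard₀, hord₀]; exact hcop) hsup₀ (by rw [hord₀]; exact hord)
  -- the isomorphisms
  let eK : E ≃* E.subgroupOf (E ⊔ Subgroup.zpowers a) :=
    { toFun := fun e => ⟨⟨(e : Γ), hEM e.2⟩, Subgroup.mem_subgroupOf.2 e.2⟩
      invFun := fun n => ⟨((n : (E ⊔ Subgroup.zpowers a : Subgroup Γ)) : Γ),
        Subgroup.mem_subgroupOf.1 n.2⟩
      left_inv := fun e => rfl
      right_inv := fun n => rfl
      map_mul' := fun e e' => rfl }
  let eC : fixSub E a ≃* fixSub (E.subgroupOf (E ⊔ Subgroup.zpowers a))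
      (⟨a, haM⟩ : (E ⊔ Subgroup.zpowers a : Subgroup Γ)) :=
    { toFun := fun c => ⟨⟨(c : Γ), hEM (fixSub_le c.2)⟩, mem_fixSub.2
        ⟨Subgroup.mem_subgroupOf.2 (fixSub_le c.2), Subtype.ext (mem_fixSub.1 c.2).2⟩⟩
      invFun := fun y => ⟨((y : (E ⊔ Subgroup.zpowers a : Subgroup Γ)) : Γ), mem_fixSub.2
        ⟨Subgroup.mem_subgroupOf.1 (mem_fixSub.1 y.2).1,
          congrArg Subtype.val (mem_fixSub.1 y.2).2⟩⟩
      left_inv := fun c => rfl
      right_inv := fun y => rfl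
      map_mul' := fun c c' => rfl }
  refine GlaubData.transport eK eC _ _ (fun c' => rfl) _ _ ?_ D
  intro θ
  constructor
  · intro h g g' hgg'
    show (θ : _ → ℂ) (eK g') = (θ : _ → ℂ) (eK g)
    rw [← h (eK g)]
    refine congrArg _ (Subtype.ext (Subtype.ext ?_))
    exact hgg'
  · intro h n
    have h1 := h (eK.symm n) (eK.symm ⟨⟨a, haM⟩ * n * (⟨a, haM⟩ : (E ⊔ Subgroup.zpowers a :
      Subgroup Γ))⁻¹, hN₀.conj_mem n n.2 _⟩) rfl
    simp only [irrComp_apply, MulEquiv.apply_symm_apply] at h1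
    exact h1

end P1

end Cfsg.Agent.Lib.Helper15
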