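import Mathlib
import Cfsg.Agent.Lib.Helper15.GlaubP1
import Cfsg.Agent.Lib.Helper1.AutBound

set_option autoImplicit false
set_option linter.unusedSectionVars false
set_option linter.style.haveILetI false

/-!
# The Glauberman correspondence for `p`-groups of operators, by induction
-/

namespace Cfsg.Agent.Lib.Helper15

open Cfsg
open scoped ComplexConjugate

universe u

section Ind

variable {Γ : Type u} [Group Γ]

/-- `χ` is `S`-invariant. -/
def InvChar (S G : Subgroup Γ) (χ : G → ℂ) : Prop :=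
  ∀ s ∈ S, ∀ g g' : G, (g' : Γ) = s * g * s⁻¹ → χ g' = χ g

/-- conjugation by a normalising element, as an automorphism of the subgroup. -/
def conjEquiv (H : Subgroup Γ) (x : Γ) (h1 : ∀ e ∈ H, x * e * x⁻¹ ∈ H)
    (h2 : ∀ e ∈ H, x⁻¹ * e * x ∈ H) : H ≃* H where
  toFun e := ⟨x * e * x⁻¹, h1 e e.2⟩
  invFun e := ⟨x⁻¹ * e * x, h2 e e.2⟩
  left_inv e := by
    apply Subtype.ext
    show x⁻¹ * (x * e * x⁻¹) * x = e
    group
  right_inv e := by
    apply Subtype.ext
    show x * (x⁻¹ * e * x) * x⁻¹ = e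
    group
  map_mul' e e' := by
    apply Subtype.ext
    show x * (e * e') * x⁻¹ = x * e * x⁻¹ * (x * e' * x⁻¹)
    group

theorem GlaubData.congr_inv {p : ℕ} {K Cg : Type u} [Group K] [Group Cg] [Fintype Cg]
    {i : Cg →* K} {Inv Inv' : (K → ℂ) → Prop}
    (h : ∀ θ : IrrCharacter K, Inv θ ↔ Inv' θ) (D : GlaubData p i Inv) : GlaubData p i Inv' := by
  constructor
  · intro θ hθ
    exact D.ex θ ((h θ).2 hθ)
  · intro θ θ' hθ hθ'
    exact D.inj θ θ' ((h θ).2 hθ) ((h θ').2 hθ')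
  · intro β
    obtain ⟨θ, hθ, hm⟩ := D.surj β
    exact ⟨θ, (h θ).1 hθ, hm⟩

theorem invAt_pow {G : Subgroup Γ} {x : Γ} (hx : ∀ g ∈ G, x * g * x⁻¹ ∈ G) {χ : G → ℂ}
    (h : InvAt G x χ) : ∀ k : ℕ, InvAt G (x ^ k) χ := by
  intro k
  induction k with
  | zero =>
    intro g g' hgg'
    have : g' = g := by
      apply Subtype.ext
      rw [hgg']
      simp
    rw [this]
  | succ k ih =>
    intro g g' hgg'
    have hk : ∀ k : ℕ, ∀ g ∈ G, x ^ k * g * (x ^ k)⁻¹ ∈ G := by
      intro k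
      induction k with
      | zero => intro g hg; simpa using hg
      | succ k ihk =>
        intro g hg
        have := hx _ (ihk g hg)
        have h2 : x ^ (k + 1) * g * (x ^ (k + 1))⁻¹ = x * (x ^ k * g * (x ^ k)⁻¹) * x⁻¹ := by
          rw [pow_succ']
          group
        rw [h2]
        exact this
    have h1 := ih g ⟨x ^ k * g * (x ^ k)⁻¹, hk k g g.2⟩ rfl
    rw [← h1]
    apply h
    rw [hgg', pow_succ']
    show x * x ^ k * ↑g * (x * x ^ k)⁻¹ = x * (x ^ k * ↑g * (x ^ k)⁻¹) * x⁻¹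
    group

variable [Fintype Γ]

/-- a maximal subgroup of a `p`-subgroup and an element outside it. -/
theorem exists_index_p_sub {p : ℕ} [hp : Fact p.Prime] (S : Subgroup Γ) (hS : IsPGroup p S)
    (hne : S ≠ ⊥) :
    ∃ (T : Subgroup Γ) (a : Γ), T ≤ S ∧ a ∈ S ∧ Nat.card S = p * Nat.card T ∧
      (∀ s ∈ S, ∀ t ∈ T, s * t * s⁻¹ ∈ T) ∧ (∀ s ∈ S, ∃ k : ℕ, ∃ t ∈ T, s = a ^ k * t) := by
  have htop : (⊤ : Subgroup S) ≠ ⊥ := by
    intro h
    apply hne
    rw [Subgroup.eq_bot_iff_forall]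
    intro x hx
    have : (⟨x, hx⟩ : S) ∈ (⊥ : Subgroup S) := by rw [← h]; trivial
    rw [Subgroup.mem_bot] at this
    exact congrArg Subtype.val this
  obtain ⟨T₁, hT₁n, -, hcard⟩ := Cfsg.Agent.Lib.Helper1.exists_normal_index_p hS (⊤ : Subgroup S) htop
  rw [Subgroup.card_top] at hcard
  have hidx : T₁.index = p := by
    have h1 := Subgroup.card_mul_index T₁
    rw [hcard, mul_comm] at h1
    exact Nat.eq_of_mul_eq_mul_right Nat.card_pos h1
  -- an element outside
  have hT₁ne : T₁ ≠ ⊤ := by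
    intro h
    rw [h, Subgroup.index_top] at hidx
    exact hp.out.one_lt.ne hidx
  obtain ⟨a₁, ha₁⟩ : ∃ a₁ : S, a₁ ∉ T₁ := by
    by_contra hall
    push Not at hall
    exact hT₁ne (eq_top_iff.2 fun x _ => hall x)
  have hQ : Nat.card (S ⧸ T₁) = p := by rw [← Subgroup.index_eq_card]; exact hidx
  have hmk : (QuotientGroup.mk a₁ : S ⧸ T₁) ≠ 1 := by
    intro h
    exact ha₁ ((QuotientGroup.eq_one_iff a₁).1 h)
  refine ⟨T₁.map S.subtype, (a₁ : Γ), ?_, a₁.2, ?_, ?_, ?_⟩
  · rintro x ⟨y, -, rfl⟩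
    exact y.2
  · rw [hcard, Subgroup.card_map_of_injective S.subtype_injective]
  · rintro s hs t ⟨t₁, ht₁, rfl⟩
    refine ⟨⟨s, hs⟩ * t₁ * ⟨s, hs⟩⁻¹, hT₁n.conj_mem t₁ ht₁ _, rfl⟩
  · intro s hs
    have h1 := mem_powers_of_prime_card hQ hmk (g' := (QuotientGroup.mk ⟨s, hs⟩ : S ⧸ T₁))
    obtain ⟨k, hk⟩ := (Submonoid.mem_powers_iff _ _).1 h1
    rw [← QuotientGroup.mk_pow, QuotientGroup.eq] at hk
    refine ⟨k, ((a₁ ^ k)⁻¹ * ⟨s, hs⟩ : S), ⟨_, hk, rfl⟩, ?_⟩
    simp

/-- **The Glauberman correspondence for `p`-groups**, abstract form. -/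
theorem glaubData_pgroup (p : ℕ) [hp : Fact p.Prime] : ∀ (n : ℕ) (S : Subgroup Γ),
    Nat.card S = n → IsPGroup p S → ∀ (G : Subgroup Γ), (∀ s ∈ S, ∀ g ∈ G, s * g * s⁻¹ ∈ G) →
    (Nat.card G).Coprime (Nat.card S) →
    ∀ (C : Subgroup Γ) [Fintype C] (_ : C = G ⊓ Subgroup.centralizer (S : Set Γ)) (hCG : C ≤ G),
      GlaubData p (Subgroup.inclusion hCG) (InvChar S G) := by
  intro n
  induction n using Nat.strong_induction_on with
  | _ n ih =>
  intro S hn hS G hnorm hcop C _ hC hCG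
  by_cases hbot : S = ⊥
  · -- base case
    subst hbot
    have hC' : C = fixSub G 1 := by
      rw [hC]
      unfold fixSub
      ext x
      simp [Subgroup.mem_centralizer_iff]
    subst hC'
    have D := glaubData_sub p G 1 (by intro e he; simpa using he) (by simp) (j := 0) (by simp)
    refine GlaubData.congr_inv ?_ D
    intro θ
    constructor
    · intro _ s hs g g' hgg'
      rw [Subgroup.mem_bot] at hs
      subst hs
      have : g' = g := Subtype.ext (by rw [hgg']; simp)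
      rw [this]
    · intro _ g g' hgg'
      have : g' = g := Subtype.ext (by rw [hgg']; simp)
      rw [this]
  · -- the inductive step
    obtain ⟨T, a, hTS, haS, hcard, hTn, hgen⟩ := exists_index_p_sub S hS hbot
    have hTcard : Nat.card T < n := by
      rw [← hn, hcard]
      have h1 : 0 < Nat.card T := Nat.card_pos
      have h2 := hp.out.two_le
      nlinarith
    haveI : Fintype (G ⊓ Subgroup.centralizer (T : Set Γ) : Subgroup Γ) := Fintype.ofFinite _
    have hEG : G ⊓ Subgroup.centralizer (T : Set Γ) ≤ G := inf_le_left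
    have hST : IsPGroup p T := hS.to_le hTS
    have hnormT : ∀ s ∈ T, ∀ g ∈ G, s * g * s⁻¹ ∈ G := fun s hs => hnorm s (hTS hs)
    have hcopT : (Nat.card G).Coprime (Nat.card T) :=
      Nat.Coprime.coprime_dvd_right (Subgroup.card_dvd_of_le hTS) hcop
    have D₁ := ih (Nat.card T) hTcard T rfl hST G hnormT hcopT
      (G ⊓ Subgroup.centralizer (T : Set Γ)) rfl hEG
    -- `S` normalises `E`
    have hSE : ∀ s ∈ S, ∀ e ∈ G ⊓ Subgroup.centralizer (T : Set Γ),
        s * e * s⁻¹ ∈ G ⊓ Subgroup.centralizer (T : Set Γ) := by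
      intro s hs e he
      refine Subgroup.mem_inf.2 ⟨hnorm s hs e he.1, ?_⟩
      rw [Subgroup.mem_centralizer_iff]
      intro t ht
      have h1 := hTn s⁻¹ (S.inv_mem hs) t ht
      have h2 := (Subgroup.mem_centralizer_iff.1 he.2) _ h1
      calc t * (s * e * s⁻¹) = s * ((s⁻¹ * t * s⁻¹⁻¹) * e) * s⁻¹ := by group
        _ = s * (e * (s⁻¹ * t * s⁻¹⁻¹)) * s⁻¹ := by rw [h2]
        _ = s * e * s⁻¹ * t := by group
    have haE := hSE a haS
    have haE' : ∀ e ∈ G ⊓ Subgroup.centralizer (T : Set Γ),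
        a⁻¹ * e * a ∈ G ⊓ Subgroup.centralizer (T : Set Γ) := fun e he => by
      have := hSE a⁻¹ (S.inv_mem haS) e he
      simpa using this
    have haG := hnorm a haS
    have haG' : ∀ g ∈ G, a⁻¹ * g * a ∈ G := fun g hg => by
      have := hnorm a⁻¹ (S.inv_mem haS) g hg
      simpa using this
    obtain ⟨j, hj⟩ : ∃ j, orderOf a = p ^ j := by
      have := (IsPGroup.iff_orderOf.1 hS) ⟨a, haS⟩
      rwa [Subgroup.orderOf_mk] at this
    have hcopa : (Nat.card (G ⊓ Subgroup.centralizer (T : Set Γ) : Subgroup Γ)).Coprime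
        (orderOf a) := by
      apply Nat.Coprime.coprime_dvd_left (Subgroup.card_dvd_of_le hEG)
      apply Nat.Coprime.coprime_dvd_right _ hcop
      have := orderOf_dvd_natCard (⟨a, haS⟩ : S)
      rwa [Subgroup.orderOf_mk] at this
    have hC' : C = fixSub (G ⊓ Subgroup.centralizer (T : Set Γ)) a := by
      rw [hC]
      ext x
      rw [mem_fixSub, Subgroup.mem_inf, Subgroup.mem_centralizer_iff]
      constructor
      · rintro ⟨hxG, hx⟩
        exact ⟨⟨hxG, Subgroup.mem_centralizer_iff.2 fun t ht => hx t (hTS ht)⟩, (hx a haS).symm⟩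
      · rintro ⟨⟨hxG, hxT⟩, hxa⟩
        refine ⟨hxG, ?_⟩
        intro s hs
        obtain ⟨k, t, ht, rfl⟩ := hgen s hs
        have h1 := (Subgroup.mem_centralizer_iff.1 hxT) t ht
        have h2 : a ^ k * x = x * a ^ k :=
          ((Commute.pow_right (show Commute x a from hxa) k)).eq.symm
        calc a ^ k * t * x = a ^ k * (t * x) := by group
          _ = a ^ k * (x * t) := by rw [h1]
          _ = (a ^ k * x) * t := by group
          _ = x * a ^ k * t := by rw [h2]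
          _ = x * (a ^ k * t) := by group
    subst hC'
    have D₂ := glaubData_sub p (G ⊓ Subgroup.centralizer (T : Set Γ)) a haE hcopa hj
    have D₂' : GlaubData p (Subgroup.inclusion
        (fixSub_le : fixSub (G ⊓ Subgroup.centralizer (T : Set Γ)) a ≤ _))
        (fun η : (G ⊓ Subgroup.centralizer (T : Set Γ) : Subgroup Γ) → ℂ =>
          ∀ e, η (conjEquiv _ a haE haE' e) = η e) := by
      refine GlaubData.congr_inv ?_ D₂
      intro η
      constructor
      · intro h e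
        exact h e (conjEquiv _ a haE haE' e) rfl
      · intro h g g' hgg'
        have : g' = conjEquiv _ a haE haE' g := Subtype.ext hgg'
        rw [this]
        exact h g
    have hInvT : ∀ θ : IrrCharacter G, InvChar T G θ →
        InvChar T G (irrComp (conjEquiv G a haG haG') θ : G → ℂ) := by
      intro θ hθ t ht g g' hgg'
      show (θ : G → ℂ) (conjEquiv G a haG haG' g') = (θ : G → ℂ) (conjEquiv G a haG haG' g)
      apply hθ (a * t * a⁻¹) (hTn a haS t ht)
      show a * (g' : Γ) * a⁻¹ = a * t * a⁻¹ * (a * (g : Γ) * a⁻¹) * (a * t * a⁻¹)⁻¹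
      rw [hgg']
      group
    have D := GlaubData.comp hp.out (Subgroup.inclusion hEG) (Subgroup.inclusion fixSub_le)
      (conjEquiv G a haG haG') (conjEquiv _ a haE haE') (fun e => rfl) (InvChar T G) hInvT D₁ D₂'
    have hi : (Subgroup.inclusion hEG).comp (Subgroup.inclusion
        (fixSub_le : fixSub (G ⊓ Subgroup.centralizer (T : Set Γ)) a ≤ _))
        = Subgroup.inclusion hCG := rfl
    rw [hi] at D
    refine GlaubData.congr_inv ?_ D
    intro θ
    constructor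
    · rintro ⟨hT, ha⟩ s hs g g' hgg'
      obtain ⟨k, t, ht, rfl⟩ := hgen s hs
      have h1 : (θ : G → ℂ) ⟨t * g * t⁻¹, hnorm t (hTS ht) g g.2⟩ = (θ : G → ℂ) g :=
        hT t ht g _ rfl
      have hInvA : InvAt G a (θ : G → ℂ) := by
        intro g g' hgg'
        have : g' = conjEquiv G a haG haG' g := Subtype.ext hgg'
        rw [this]
        exact ha g
      have h2 := invAt_pow haG hInvA k ⟨t * g * t⁻¹, hnorm t (hTS ht) g g.2⟩ g' (by
        rw [hgg']
        show a ^ k * t * ↑g * (a ^ k * t)⁻¹ = a ^ k * (t * ↑g * t⁻¹) * (a ^ k)⁻¹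
        group)
      rw [h2, h1]
    · intro h
      exact ⟨fun t ht => h t (hTS ht), fun k => h a haS k (conjEquiv G a haG haG' k) rfl⟩

/-- from the abstract form to the four statements. -/
theorem frozen_of_glaubData {p : ℕ} (hp : p.Prime) {G C S : Subgroup Γ} [Fintype C] (hCG : C ≤ G)
    (D : GlaubData p (Subgroup.inclusion hCG) (InvChar S G)) :
    (∀ χ : IrrCharacter G, InvChar S G χ → ∃! β : IrrCharacter C, ∃ m : ℕ,
      classInner (fun c : C => (χ : G → ℂ) ⟨c, hCG c.2⟩) (β : C → ℂ) = (m : ℂ) ∧ ¬ p ∣ m) ∧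
    (∀ χ : IrrCharacter G, InvChar S G χ → ∀ β : IrrCharacter C, ∀ m : ℕ,
      classInner (fun c : C => (χ : G → ℂ) ⟨c, hCG c.2⟩) (β : C → ℂ) = (m : ℂ) → ¬ p ∣ m →
      ((m : ℤ) ≡ 1 [ZMOD p] ∨ (m : ℤ) ≡ -1 [ZMOD p])) ∧
    (∀ χ χ' : IrrCharacter G, InvChar S G χ → InvChar S G χ' → ∀ β : IrrCharacter C,
      ∀ m m' : ℕ, classInner (fun c : C => (χ : G → ℂ) ⟨c, hCG c.2⟩) (β : C → ℂ) = (m : ℂ) →
      ¬ p ∣ m → classInner (fun c : C => (χ' : G → ℂ) ⟨c, hCG c.2⟩) (β : C → ℂ) = (m' : ℂ) →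
      ¬ p ∣ m' → χ = χ') ∧
    (∀ β : IrrCharacter C, ∃ χ : IrrCharacter G, InvChar S G χ ∧ ∃ m : ℕ,
      classInner (fun c : C => (χ : G → ℂ) ⟨c, hCG c.2⟩) (β : C → ℂ) = (m : ℂ) ∧ ¬ p ∣ m) := by
  refine ⟨?_, ?_, ?_, ?_⟩
  · intro χ hχ
    obtain ⟨β, ε, n, hε, hn, hn1, hnd, hother⟩ := D.exists_corr hp χ hχ
    refine ⟨β, ⟨n, hn, hnd⟩, ?_⟩
    rintro β' ⟨m, hm, hmd⟩
    by_contra hne
    exact hmd (hother β' m hm hne)
  · intro χ hχ β m hm hmd
    obtain ⟨β₀, ε, n, hε, hn, hn1, hnd, hother⟩ := D.exists_corr hp χ hχ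
    have hβ : β = β₀ := by
      by_contra hne
      exact hmd (hother β m hm hne)
    subst hβ
    have hmn : m = n := natCast_eq_of_complex hm hn
    subst hmn
    rcases hε with rfl | rfl
    · left; exact hn1
    · right; exact hn1
  · intro χ χ' hχ hχ' β m m' hm hmd hm' hmd'
    exact D.inj χ χ' hχ hχ' β m m' hm hmd hm' hmd'
  · intro β
    exact D.surj β

end Ind

end Cfsg.Agent.Lib.Helper15
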