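import Mathlib

/-! # Hq hive (helper15), S5974: the arithmetic condition for `r` odd, `r ≠ p` -/

set_option autoImplicit false

namespace Cfsg.Agent.Lib.Helper15.Hq

/-- the `r`-odd part of the right-hand side of S5974 (`n = 2 d`, `i` = order of `q` mod `r`,
`c = i` for `i` even and `2 i` for `i` odd) -/
def RhsOdd (d m i c : ℕ) : Prop :=
  (Odd i ∧ c ≤ m ∧ m % c ≤ (2 * d) % c) ∨
  (Even i ∧
    (((2 * d) % c = 0 ∧ (Odd ((2 * d) / i) ∨ (m % c = 0 ∧ Even (m / i)))) ∨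
     (i ≤ m ∧ ((m % c < (2 * d) % c ∧ 0 < m % c) ∨
               ((2 * d) % c = m % c ∧ 0 < m % c ∧ Even ((2 * d + m - 2 * ((2 * d) % c)) / i)) ∨
               (0 < (2 * d) % c ∧ m % c = 0 ∧ Even (m / i))))))

end Cfsg.Agent.Lib.Helper15.Hq
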