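import Mathlib
import Cfsg.Prelude.Def_ClassicalGeometry
import Cfsg.Prelude.Def_GeometricClasses
import Cfsg.Prelude.Def_Classical
import Cfsg.Agent.Lib.Helper15.HqDefs
import Cfsg.Agent.Lib.Helper15.HqArDefs
import Cfsg.Agent.Lib.Helper81.OnBR
import Cfsg.Agent.Lib.Helper5.HyAsmA
import Cfsg.Agent.Lib.Helper73.HqARSUF
import Cfsg.Agent.Lib.Helper85.QeASM3
import Cfsg.Agent.Lib.Helper20.QeASM4
import Cfsg.Agent.Lib.Helper20.QeASM5
import Cfsg.Agent.Lib.Helper65.QeLayer
import Cfsg.Agent.Lib.Helper54.QeASM0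
import Cfsg.Agent.Lib.Helper5.QeASM1
import Cfsg.Agent.Lib.Helper45.QeELT
import Cfsg.Agent.Lib.Helper79.QeODDMEM
import Cfsg.Agent.Lib.Helper21.EqCONG
import Cfsg.Agent.Lib.Helper78.HqARNEC

/-! # Hq hive (helper15): assembly of the part `r` odd, `r ≠ p` of S5974
(on top of helper65's Qe layer and helper39's EQ-CONG) -/

set_option autoImplicit false
set_option linter.unusedSectionVars false

namespace Cfsg.Agent.Lib.Helper15.Hq

open Module
open Cfsg.Agent.Lib.Helper2.BG Cfsg.Agent.Lib.Helper99 Cfsg.Agent.Lib.Helper48.Ti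
open Cfsg.Agent.Lib.Helper5.Hy (Fix Orth)
open Cfsg.Agent.Lib.Helper65.Qe

section abstract

variable {F V : Type*} [Field F] [Fintype F] [AddCommGroup V] [Module F V] [FiniteDimensional F V]
variable {Q : QuadraticForm F V}

theorem odd_pol_isom {f : Module.End F V} (hf : IsomQ Q f) (u v : V) :
    pol Q (f u) (f v) = pol Q u v := by
  show QuadraticMap.polar Q (f u) (f v) = QuadraticMap.polar Q u v
  unfold QuadraticMap.polar
  rw [← map_add, hf, hf, hf]

theorem odd_injective {f : Module.End F V} {r : ℕ} (hr : 0 < r) (hfr : f ^ r = 1) :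
    Function.Injective f := by
  have h1 : f ^ (r - 1) * f = 1 := by
    rw [← pow_succ, Nat.sub_add_cancel hr, hfr]
  intro a b hab
  have := congrArg (fun g : Module.End F V => g a) h1
  have h2 := congrArg (fun g : Module.End F V => g b) h1
  simp only [Module.End.mul_apply, Module.End.one_apply] at this h2
  rw [← this, ← h2, hab]

/-- images under injective isometries keep nondegeneracy, dimension and plus type -/
theorem odd_map_props {f : Module.End F V} (hf : IsomQ Q f) (hinj : Function.Injective f)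
    {m : ℕ} {W : Submodule F V}
    (hW : Nd (pol Q) W ∧ finrank F W = m ∧ PlusQ Q W) :
    Nd (pol Q) (W.map f) ∧ finrank F ↥(W.map f) = m ∧ PlusQ Q (W.map f) := by
  obtain ⟨hNd, hfin, U, hUW, hUs, hUd⟩ := hW
  have hfr : ∀ X : Submodule F V, finrank F ↥(X.map f) = finrank F X := fun X =>
    (LinearEquiv.finrank_eq (Submodule.equivMapOfInjective f hinj X)).symm
  refine ⟨?_, by rw [hfr, hfin], U.map f, Submodule.map_mono hUW, ?_, by rw [hfr, hfr, hUd]⟩
  · rintro _ ⟨u, hu, rfl⟩ h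
    have : u = 0 := by
      apply hNd u hu
      intro v hv
      rw [← odd_pol_isom hf]
      exact h _ (Submodule.mem_map_of_mem hv)
    rw [this, map_zero]
  · rintro _ ⟨u, hu, rfl⟩
    rw [hf]
    exact hUs u hu

theorem odd_inv_of_le_fix {f : Module.End F V} {W : Submodule F V} (h : W ≤ Fix f) : Inv f W := by
  intro v hv
  have h1 : (f - 1) v = 0 := LinearMap.mem_ker.1 (h hv)
  rw [LinearMap.sub_apply, Module.End.one_apply, sub_eq_zero] at h1
  rw [h1]
  exact hv

/-- the counting step: if `m < c`, the fixed space of `f` has dimension `< c` and `f` fixes a hyperbolic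
`m`-space, then the number of hyperbolic `m`-spaces is prime to `r` -/
theorem not_dvd_small (hV : Nd (pol Q) ⊤) (he : Even (finrank F V)) {f : Module.End F V}
    (hf : IsomQ Q f) (r : ℕ) [Fact r.Prime] (hr2 : r ≠ 2) (hrq : ¬ r ∣ Fintype.card F)
    (hfr : f ^ r = 1) (i c : ℕ) (hi : i = orderOf ((Fintype.card F : ℕ) : ZMod r))
    (hc : c = if Even i then i else 2 * i) (m : ℕ) (hme : Even m) (h0 : 0 < m) (hmc : m < c)
    (hfc : finrank F ↥(Fix f) < c) (hfix : FixesQ Q f m True) :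
    ¬ r ∣ Nat.card {W : Submodule F V // Nd (pol Q) W ∧ finrank F W = m ∧ PlusQ Q W} := by
  have hr0 : 0 < r := (Fact.out : r.Prime).pos
  have hinj := odd_injective hr0 hfr
  have hcong := Cfsg.Agent.Lib.Helper39.Eq.card_modEq_fixedQ f r hfr
    (fun W => Nd (pol Q) W ∧ finrank F W = m ∧ PlusQ Q W) (fun W hW => odd_map_props hf hinj hW)
  intro hdvd
  have hdvd2 : r ∣ Nat.card {W : Submodule F V //
      (Nd (pol Q) W ∧ finrank F W = m ∧ PlusQ Q W) ∧ Inv f W} :=
    (Nat.modEq_zero_iff_dvd.1 (hcong.symm.trans (Nat.modEq_zero_iff_dvd.2 hdvd)))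
  obtain ⟨hNdC, -, -⟩ := plusQ_fix_iff r hV hf hr2 hrq hfr i c hi hc he
  have hle : ∀ W : Submodule F V, (Nd (pol Q) W ∧ finrank F W = m ∧ PlusQ Q W) → Inv f W →
      W ≤ Fix f := fun W hW hWi =>
    le_fix_of_lt r hf hr2 hrq hfr i c hi hc hWi hW.1 (by rw [hW.2.1]; exact hmc)
  obtain ⟨W0, hW0i, hW0nd, hW0m, hW0p⟩ := hfix
  have hW0C := hle W0 ⟨hW0nd, hW0m, hW0p.2 trivial⟩ hW0i
  have hmC : m ≤ finrank F ↥(Fix f) := by
    rw [← hW0m]; exact Submodule.finrank_mono hW0C
  rcases hmC.lt_or_eq with hlt | heq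
  · have key := not_dvd_card_typeQ hV hNdC r
      (fun g hg hgr hgC => no_isomQ_of_small r hV hr2 hrq i c hi hc hfc g hg hgr hgC)
      m hme h0 hlt True
    apply key
    have hcard : Nat.card {W : Submodule F V //
        (Nd (pol Q) W ∧ finrank F W = m ∧ PlusQ Q W) ∧ Inv f W} =
        Nat.card {W : Submodule F V // W ≤ Fix f ∧ Nd (pol Q) W ∧ finrank F W = m ∧
          (PlusQ Q W ↔ True)} := by
      apply Nat.card_congr
      apply Equiv.subtypeEquivRight
      intro W
      constructor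
      · rintro ⟨hW, hWi⟩
        exact ⟨hle W hW hWi, hW.1, hW.2.1, iff_of_true hW.2.2 trivial⟩
      · rintro ⟨hWC, h1, h3, h4⟩
        exact ⟨⟨h1, h3, h4.2 trivial⟩, odd_inv_of_le_fix hWC⟩
    rw [← hcard]
    exact hdvd2
  · have huniq : ∀ W : Submodule F V, (Nd (pol Q) W ∧ finrank F W = m ∧ PlusQ Q W) → Inv f W →
        W = Fix f := by
      intro W hW hWi
      exact Submodule.eq_of_le_of_finrank_eq (hle W hW hWi) (by rw [hW.2.1, heq])
    have hone : Nat.card {W : Submodule F V //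
        (Nd (pol Q) W ∧ finrank F W = m ∧ PlusQ Q W) ∧ Inv f W} = 1 := by
      rw [Nat.card_eq_one_iff_unique]
      refine ⟨⟨?_⟩, ⟨⟨W0, ⟨hW0nd, hW0m, hW0p.2 trivial⟩, hW0i⟩⟩⟩
      rintro ⟨W, hW, hWi⟩ ⟨W', hW', hWi'⟩
      apply Subtype.ext
      show W = W'
      rw [huniq W hW hWi, huniq W' hW' hWi']
    rw [hone] at hdvd2
    exact (Fact.out : r.Prime).one_lt.ne' (Nat.dvd_one.1 hdvd2)

/-- replace `g` with `g ^ r = ± 1` by `f = ± g` with `f ^ r = 1` -/
theorem odd_normalize {g : Module.End F V} (hg : IsomQ Q g) {r : ℕ} (hr : Odd r) {z : F}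
    (hz : z = 1 ∨ z = -1) (hgr : g ^ r = z • (1 : Module.End F V)) :
    ∃ f : Module.End F V, IsomQ Q f ∧ f ^ r = 1 ∧ ∀ W : Submodule F V, Inv f W → Inv g W := by
  have hzz : z * z = 1 := by rcases hz with rfl | rfl <;> ring
  refine ⟨z • g, ?_, ?_, ?_⟩
  · intro v
    rw [LinearMap.smul_apply, QuadraticMap.map_smul, hg, smul_eq_mul, hzz, one_mul]
  · rw [smul_pow, hgr, smul_smul, ← pow_succ]
    obtain ⟨k, rfl⟩ := hr
    have : z ^ (2 * k + 1 + 1) = 1 := by
      have h1 : 2 * k + 1 + 1 = 2 * (k + 1) := by ring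
      rw [h1, pow_mul, pow_two, hzz, one_pow]
    rw [this, one_smul]
  · intro W hW v hv
    have h1 := hW v hv
    rw [LinearMap.smul_apply] at h1
    have h2 : g v = z • (z • g v) := by rw [smul_smul, hzz, one_smul]
    rw [h2]
    exact W.smul_mem z h1

end abstract

section concrete

variable {F : Type*} [Field F]

local notation "Mat" d => Matrix (Fin d ⊕ Fin d) (Fin d ⊕ Fin d) F

theorem odd_toLin_pow {ι : Type*} [Fintype ι] [DecidableEq ι] (x : GL ι F) (k : ℕ) :
    (Matrix.toLin' (x : Matrix ι ι F)) ^ k = Matrix.toLin' ((x ^ k : GL ι F) : Matrix ι ι F) := by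
  induction k with
  | zero => simp; rfl
  | succ k ih =>
    rw [pow_succ, ih, pow_succ, Units.val_mul, Matrix.toLin'_mul]
    rfl

theorem odd_pol_apply (d : ℕ) (u v : VP d F) :
    pol (QP d F) u v = QuadraticMap.polar (Cfsg.quadFormPlus d F) u v := by
  rw [Cfsg.Agent.Lib.Helper8.plusForm_coe]
  rfl

theorem odd_ndTop (d : ℕ) : Nd (pol (QP d F)) ⊤ := by
  intro u _ h
  apply (Cfsg.Agent.Lib.Helper8.plusForm_nondegenerate d F).1
  intro v
  exact h v Submodule.mem_top

theorem odd_plusTop (d : ℕ) : PlusQ (QP d F) ⊤ := by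
  refine ⟨LinearMap.ker (LinearMap.funLeft F F (Sum.inr : Fin d → Fin d ⊕ Fin d)), le_top, ?_, ?_⟩
  · intro u hu
    rw [LinearMap.mem_ker] at hu
    have hu' : ∀ i, u (Sum.inr i) = 0 := fun i => congrFun hu i
    show (Cfsg.Agent.Lib.Helper8.plusForm d F) u = 0
    rw [← Cfsg.Agent.Lib.Helper8.plusForm_coe]
    unfold Cfsg.quadFormPlus
    apply Finset.sum_eq_zero
    intro i _
    rw [hu', mul_zero]
  · have h1 := LinearMap.finrank_range_add_finrank_ker
      (LinearMap.funLeft F F (Sum.inr : Fin d → Fin d ⊕ Fin d))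
    have h2 : LinearMap.range (LinearMap.funLeft F F (Sum.inr : Fin d → Fin d ⊕ Fin d)) = ⊤ :=
      LinearMap.range_eq_top.2
        (LinearMap.funLeft_surjective_of_injective F F _ Sum.inr_injective)
    rw [h2, finrank_top] at h1
    rw [finrank_top]
    simp only [Module.finrank_fintype_fun_eq_card, Fintype.card_fin, Fintype.card_sum] at h1
    have h3 : finrank F (VP d F) = d + d := by
      simp [VP, Module.finrank_fintype_fun_eq_card]
    rw [h3]
    have h4 : finrank F (LinearMap.ker (LinearMap.funLeft F F (Sum.inr : Fin d → Fin d ⊕ Fin d))) =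
        d := by omega
    have h5 : 2 * finrank F (LinearMap.ker (LinearMap.funLeft F F
        (Sum.inr : Fin d → Fin d ⊕ Fin d))) = d + d := by omega
    exact h5

theorem odd_finrank (d : ℕ) : finrank F (VP d F) = 2 * d := by
  rw [Module.finrank_fintype_fun_eq_card, Fintype.card_sum, Fintype.card_fin]
  ring

theorem odd_isHyp_iff (d m : ℕ) (W : Submodule F (VP d F)) :
    IsHyp d m W ↔ (Nd (pol (QP d F)) W ∧ finrank F W = m ∧ PlusQ (QP d F) W) := by
  constructor
  · rintro ⟨h1, h2, U, hU, hUd, hUs⟩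
    refine ⟨?_, h1, U, hU, ?_, by rw [hUd, h1]⟩
    · intro u hu h
      by_contra hne
      obtain ⟨v, hv, hv2⟩ := h2 u hu hne
      apply hv2
      rw [← odd_pol_apply]
      exact h v hv
    · intro u hu
      have := hUs u hu
      rw [Cfsg.Agent.Lib.Helper8.plusForm_coe] at this
      exact this
  · rintro ⟨h1, h2, U, hU, hUs, hUd⟩
    refine ⟨h2, ?_, U, hU, by rw [hUd, h2], ?_⟩
    · intro u hu hne
      by_contra hcon
      push Not at hcon
      apply hne
      apply h1 u hu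
      intro v hv
      rw [odd_pol_apply]
      exact hcon v hv
    · intro u hu
      rw [Cfsg.Agent.Lib.Helper8.plusForm_coe]
      exact hUs u hu

theorem odd_isomQ_of_mem (d : ℕ) (x : GL (Fin d ⊕ Fin d) F)
    (hx : x ∈ Cfsg.isometryGroup F (Cfsg.quadFormPlus d F)) :
    IsomQ (QP d F) (Matrix.toLin' (x : Mat d)) := by
  intro v
  have h := hx v 0
  rw [Cfsg.Agent.Lib.Helper8.plusForm_coe] at h
  rw [Matrix.toLin'_apply]
  exact h

end concrete

section main

variable {F : Type*} [Field F] [Fintype F]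

local notation "Mat" d => Matrix (Fin d ⊕ Fin d) (Fin d ⊕ Fin d) F

theorem odd_not_dvd {p : ℕ} [Fact p.Prime] [CharP F p] {r : ℕ} [Fact r.Prime] (hrp : r ≠ p) :
    ¬ r ∣ Fintype.card F := by
  obtain ⟨k, hp, hk⟩ := FiniteField.card F p
  rw [hk]
  intro h
  have h1 := (Fact.out : r.Prime).dvd_of_dvd_pow h
  exact hrp ((Nat.prime_dvd_prime_iff_eq (Fact.out : r.Prime) hp).1 h1)

theorem odd_fixH_of_fixesQ (d m : ℕ) (x : GL (Fin d ⊕ Fin d) F) {f : Module.End F (VP d F)}
    (hfW : ∀ W : Submodule F (VP d F), Inv f W → Inv (Matrix.toLin' (x : Mat d)) W)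
    (h : FixesQ (QP d F) f m True) : FixH d m x := by
  obtain ⟨W, hWi, hWnd, hWm, hWp⟩ := h
  refine ⟨W, (odd_isHyp_iff d m W).2 ⟨hWnd, hWm, hWp.2 trivial⟩, ?_⟩
  rw [Submodule.map_le_iff_le_comap]
  intro v hv
  exact hfW W hWi v hv

open Cfsg.Agent.Lib.Helper81.On (mem_isom_of_mem_omega scalar_pm_one) in
/-- the good direction for `r` odd, `r ≠ p` -/
theorem odd_good {p : ℕ} [Fact p.Prime] [CharP F p] (d m : ℕ) (hd : 4 ≤ d) (hm : 2 ≤ m)
    (hme : Even m) (hmd : m < d) (r : ℕ) [Fact r.Prime] (hr2 : r ≠ 2) (hrp : r ≠ p) (i c : ℕ)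
    (hi : i = orderOf ((Fintype.card F : ℕ) : ZMod r)) (hc : c = if Even i then i else 2 * i)
    (hR : RhsOdd d m i c) (x : GL (Fin d ⊕ Fin d) F)
    (hx : x ∈ Cfsg.Geo.omegaGL (Cfsg.quadFormPlus d F))
    (hsc : ∃ z : F, ((x ^ r : GL (Fin d ⊕ Fin d) F) : Mat d) = z • (1 : Mat d)) :
    FixH d m x := by
  have hxi := mem_isom_of_mem_omega d x hx
  obtain ⟨z, hz⟩ := hsc
  have hz1 := scalar_pm_one d (by omega) (x ^ r) (Subgroup.pow_mem _ hxi r) z hz
  have hg : IsomQ (QP d F) (Matrix.toLin' (x : Mat d)) := odd_isomQ_of_mem d x hxi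
  have hgr : (Matrix.toLin' (x : Mat d) : Module.End F (VP d F)) ^ r
      = z • (1 : Module.End F (VP d F)) := by
    rw [odd_toLin_pow, hz]
    apply LinearMap.ext
    intro v
    rw [Matrix.toLin'_apply, Matrix.smul_mulVec, Matrix.one_mulVec]
    rfl
  have hrodd : Odd r := (Fact.out : r.Prime).odd_of_ne_two hr2
  obtain ⟨f, hf, hfr, hfW⟩ := odd_normalize hg hrodd hz1 hgr
  have hrq := odd_not_dvd (F := F) hrp
  obtain ⟨hi0, hc0, hce⟩ := Cfsg.Agent.Lib.Helper5.Hy.asm_c_pos r hrq i c hi hc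
  have hV := odd_ndTop (F := F) d
  have hev : Even (finrank F (VP d F)) := by rw [odd_finrank]; exact even_two_mul d
  obtain ⟨hNdC, ⟨s, hs⟩, hCt⟩ := plusQ_fix_iff r hV hf hr2 hrq hfr i c hi hc hev
  rw [odd_finrank] at hs
  have hsub : finrank F (VP d F) - finrank F ↥(Fix f) = s * c := by rw [odd_finrank]; omega
  rw [hsub, tp_iff r hr2 hrq i c hi hc s] at hCt
  have hCt' : PlusQ (QP d F) (Fix f) ↔ (Odd i ∨ Even s) := by
    rw [hCt]
    exact ⟨fun h => h.1 (odd_plusTop d), fun h => iff_of_true (odd_plusTop d) h⟩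
  have hval : finrank F ↥(Fix f) = 0 → (Odd i ∨ Even s) := by
    intro h0
    rw [← hCt']
    rw [Submodule.finrank_eq_zero] at h0
    rw [h0]
    exact ⟨⊥, le_refl _, fun u hu => by rw [(Submodule.mem_bot F).1 hu, map_zero], by simp⟩
  obtain ⟨j, hj1, hj2, hmode⟩ := ar_suf d m i c s (finrank F ↥(Fix f)) hi0 hc hme hm hmd hs hval hR
  apply odd_fixH_of_fixesQ d m x hfW
  apply fixesQ_of_mode r hV hf hr2 hrq hfr i c hi hc m hme True j hj1
    (by rw [odd_finrank]; exact hj2)
  rcases hmode with h | ⟨h1, h2⟩ | ⟨h1, h2⟩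
  · exact Or.inl h
  · right; left
    refine ⟨h1, ?_⟩
    rw [tp_iff r hr2 hrq i c hi hc j]
    exact iff_of_true trivial h2
  · right; right
    refine ⟨h1, ?_⟩
    rw [tp_iff r hr2 hrq i c hi hc j, hCt']
    exact iff_of_true trivial h2

open Cfsg.Agent.Lib.Helper81.On (scalar_pm_one) in
/-- the test element is not scalar -/
theorem odd_nonScal (d : ℕ) (hd : 1 ≤ d) (r : ℕ) (hr : Odd r) (c : ℕ) (hc0 : 0 < c)
    (hcn : c ≤ 2 * d) (x : GL (Fin d ⊕ Fin d) F)
    (hxi : x ∈ Cfsg.isometryGroup F (Cfsg.quadFormPlus d F)) (hxr : x ^ r = 1)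
    (hxfix : finrank F ↥(Fix (Matrix.toLin' (x : MP d F))) = (2 * d) % c) : NonScal d x := by
  intro z hz
  have hz1 := scalar_pm_one d hd x hxi z hz
  have hzr : z ^ r = 1 := by
    have h1 : ((x ^ r : GL (Fin d ⊕ Fin d) F) : Mat d) = 1 := by rw [hxr]; rfl
    rw [Units.val_pow_eq_pow_val, hz, smul_pow, one_pow] at h1
    set i₀ : Fin d ⊕ Fin d := Sum.inl ⟨0, by omega⟩
    have h3 := congrFun (congrFun h1 i₀) i₀
    simpa using h3
  have hz' : z = 1 := by
    rcases hz1 with h | h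
    · exact h
    · rw [h, hr.neg_one_pow] at hzr
      rw [h, hzr]
  rw [hz', one_smul] at hz
  have htop : Fix (Matrix.toLin' (x : MP d F)) = ⊤ := by
    rw [eq_top_iff]
    intro v _
    show v ∈ LinearMap.ker (Matrix.toLin' (x : MP d F) - 1)
    rw [LinearMap.mem_ker, LinearMap.sub_apply, hz, Matrix.toLin'_one]
    simp
  rw [htop, finrank_top, odd_finrank] at hxfix
  have := Nat.mod_lt (2 * d) hc0
  omega

open Cfsg.Agent.Lib.Helper81.On (mem_isom_of_mem_omega) in
/-- the necessary direction for `r` odd, `r ≠ p` -/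
theorem odd_nec {p : ℕ} [Fact p.Prime] [CharP F p] (d m : ℕ) (hd : 4 ≤ d) (hm : 2 ≤ m)
    (hme : Even m) (hmd : m < d) (r : ℕ) [Fact r.Prime] (hr2 : r ≠ 2) (hrp : r ≠ p) (i c : ℕ)
    (hi : i = orderOf ((Fintype.card F : ℕ) : ZMod r)) (hc : c = if Even i then i else 2 * i)
    (hrΩ : r ∣ Nat.card {W : Submodule F (VP d F) // IsHyp d m W})
    (hL : ∀ x : GL (Fin d ⊕ Fin d) F, x ∈ Cfsg.Geo.omegaGL (Cfsg.quadFormPlus d F) →
      (∃ z : F, ((x ^ r : GL (Fin d ⊕ Fin d) F) : Mat d) = z • (1 : Mat d)) →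
      NonScal d x → FixH d m x) : RhsOdd d m i c := by
  have hrq := odd_not_dvd (F := F) hrp
  obtain ⟨hi0, hc0, hce⟩ := Cfsg.Agent.Lib.Helper5.Hy.asm_c_pos r hrq i c hi hc
  have hV := odd_ndTop (F := F) d
  have hev : Even (finrank F (VP d F)) := by rw [odd_finrank]; exact even_two_mul d
  have hrodd : Odd r := (Fact.out : r.Prime).odd_of_ne_two hr2
  have hcardeq : Nat.card {W : Submodule F (VP d F) // IsHyp d m W} =
      Nat.card {W : Submodule F (VP d F) //
        Nd (pol (QP d F)) W ∧ finrank F W = m ∧ PlusQ (QP d F) W} :=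
    Nat.card_congr (Equiv.subtypeEquivRight (odd_isHyp_iff d m))
  rw [hcardeq] at hrΩ
  by_cases hcn : c ≤ 2 * d
  · by_cases hside : Odd i ∨ (2 * d) % c ≠ 0 ∨ Even ((2 * d) / c)
    · obtain ⟨x, hxi, hxr, hxfix⟩ := exists_max_isom r hr2 hrp d (by omega) i c hi hc hcn hside
      have hxΩ := mem_omegaGL_of_pow_eq_one d r hr2 hrp x hxi hxr
      have hf : IsomQ (QP d F) (Matrix.toLin' (x : Mat d)) := odd_isomQ_of_mem d x hxi
      have hfr : (Matrix.toLin' (x : Mat d) : Module.End F (VP d F)) ^ r = 1 := by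
        rw [odd_toLin_pow, hxr]
        simp
        rfl
      have hns := odd_nonScal d (by omega) r hrodd c hc0 hcn x hxi hxr hxfix
      obtain ⟨W, hW, hWmap⟩ := hL x hxΩ ⟨1, by rw [hxr, one_smul]; rfl⟩ hns
      obtain ⟨hWnd, hWm, hWp⟩ := (odd_isHyp_iff d m W).1 hW
      have hfix : FixesQ (QP d F) (Matrix.toLin' (x : Mat d)) m True :=
        ⟨W, fun v hv => hWmap (Submodule.mem_map_of_mem hv), hWnd, hWm, iff_of_true hWp trivial⟩
      have hfc : finrank F ↥(Fix (Matrix.toLin' (x : Mat d))) < c := by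
        rw [hxfix]; exact Nat.mod_lt _ hc0
      by_cases hcm : c ≤ m
      · obtain ⟨j, h1, h2, h3, h4, h5⟩ :=
          mode_of_fixesQ r hV hf hr2 hrq hfr i c hi hc m hme True hfix
        obtain ⟨-, -, hCt⟩ := plusQ_fix_iff r hV hf hr2 hrq hfr i c hi hc hev
        have hsub : finrank F (VP d F) - finrank F ↥(Fix (Matrix.toLin' (x : Mat d)))
            = ((2 * d) / c) * c := by
          rw [odd_finrank, hxfix]
          have := Nat.div_add_mod (2 * d) c
          rw [mul_comm] at this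
          omega
        rw [hsub, tp_iff r hr2 hrq i c hi hc ((2 * d) / c)] at hCt
        have hCt' : PlusQ (QP d F) (Fix (Matrix.toLin' (x : Mat d))) ↔
            (Odd i ∨ Even ((2 * d) / c)) := by
          rw [hCt]
          exact ⟨fun h => h.1 (odd_plusTop d), fun h => iff_of_true (odd_plusTop d) h⟩
        rw [hxfix] at h2 h3 h5
        rw [odd_finrank] at h2
        apply ar_nec d m i c j hi0 hc hme hm hmd hcn hside hcm h1 h2 h3
        · intro hmj
          have := (h4 hmj).1 trivial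
          rwa [tp_iff r hr2 hrq i c hi hc j] at this
        · intro hmj
          have := (h5 hmj).1 trivial
          rwa [tp_iff r hr2 hrq i c hi hc j, hCt'] at this
      · exfalso
        exact not_dvd_small hV hev hf r hr2 hrq hfr i c hi hc m hme (by omega) (by omega) hfc
          hfix hrΩ
    · push Not at hside
      obtain ⟨h1, h2, h3⟩ := hside
      have hie : Even i := Nat.not_odd_iff_even.1 h1
      have hci : c = i := by rw [hc, if_pos hie]
      right
      refine ⟨hie, Or.inl ⟨h2, Or.inl ?_⟩⟩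
      rw [← hci]
      exact Nat.not_even_iff_odd.1 h3
  · exfalso
    have hf : IsomQ (QP d F) (1 : Module.End F (VP d F)) := fun v => rfl
    have hfixtop : Fix (1 : Module.End F (VP d F)) = ⊤ := by
      rw [eq_top_iff]
      intro v _
      show v ∈ LinearMap.ker ((1 : Module.End F (VP d F)) - 1)
      rw [sub_self]
      simp
    obtain ⟨W₀, -, hW₀nd, hW₀m, hW₀p⟩ := exists_ndQ_of_type (Q := QP d F) hV m hme (by omega)
      (by rw [finrank_top, odd_finrank]; omega) True
    have hfix : FixesQ (QP d F) (1 : Module.End F (VP d F)) m True :=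
      ⟨W₀, fun v hv => hv, hW₀nd, hW₀m, hW₀p⟩
    exact not_dvd_small hV hev hf r hr2 hrq (one_pow r) i c hi hc m hme (by omega) (by omega)
      (by rw [hfixtop, finrank_top, odd_finrank]; omega) hfix hrΩ

end main

end Cfsg.Agent.Lib.Helper15.Hq
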