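import Mathlib
import Cfsg.Prelude.Def_ClassicalGeometry
import Cfsg.Prelude.Def_GeometricClasses
import Cfsg.Prelude.Def_Classical
import Cfsg.Agent.Lib.Helper15.HqDefs
import Cfsg.Agent.Lib.Helper2.HqBAD2
import Cfsg.Agent.Lib.Helper31.HqBR
import Cfsg.Agent.Lib.Helper4.HqALT
import Cfsg.Agent.Lib.Helper42.HqCOORD
import Cfsg.Agent.Lib.Helper42.HqSQ1
import Cfsg.Agent.Lib.Helper53.HqSQM1
import Cfsg.Agent.Lib.Helper69.HqSQM2
import Cfsg.Agent.Lib.Helper78.HqNALT
import Cfsg.Agent.Lib.Helper85.HqRANK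
import Cfsg.Agent.Lib.Helper9.HqTOP
import Cfsg.Agent.Lib.Helper81.OnR2

/-! # Hq hive (helper15): assembly of the part `r = 2` of S5974 -/

set_option autoImplicit false

namespace Cfsg.Agent.Lib.Helper15.Hq

open Module
open Cfsg.Agent.Lib.Helper2.BG Cfsg.Agent.Lib.Helper99 Cfsg.Agent.Lib.Helper48.Ti
open Cfsg.Agent.Lib.Helper5.Hy (Plus Fixes)
open Cfsg.Agent.Lib.Helper81.On (plusB VP)
open Cfsg.Agent.Lib.Helper8 (plusForm IsInvIso nilPart)

section char2asm

variable {F : Type*} [Field F]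

local notation "VV" d => (Fin d ⊕ Fin d → F)

/-- counting a filter of `Fin d` through its image in `ℕ` -/
theorem asm_card_filter (d : ℕ) (P : ℕ → Prop) [DecidablePred P] (T : Finset ℕ)
    (hT : ∀ n, n ∈ T ↔ n < d ∧ P n) :
    (Finset.univ.filter (fun i : Fin d => P i.val)).card = T.card := by
  rw [← Finset.card_map Fin.valEmbedding]
  congr 1
  ext n
  simp only [Finset.mem_map, Finset.mem_filter, Finset.mem_univ, true_and, Fin.valEmbedding_apply,
    hT]
  constructor
  · rintro ⟨i, hi, rfl⟩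
    exact ⟨i.isLt, hi⟩
  · rintro ⟨hn, hP⟩
    exact ⟨⟨n, hn⟩, hP, rfl⟩

theorem asm_fixHL_of_coord (d : ℕ) (t : (VV d) →ₗ[F] (VV d)) (S : Finset (Fin d))
    (h : (coordSub d (S : Set (Fin d))).map t ≤ coordSub d (S : Set (Fin d))) :
    FixHL d (2 * S.card) t :=
  ⟨coordSub d (S : Set (Fin d)), isHyp_coordSub d S, h⟩

/-- transfer of `FixHL` along a conjugating isometry (own copy of HQ-CONJ) -/
theorem asm_fixHL_of_conj (d m : ℕ) {t t' : (VV d) →ₗ[F] (VV d)} (g : (VV d) ≃ₗ[F] (VV d))
    (hg : ∀ v, Cfsg.quadFormPlus d F (g v) = Cfsg.quadFormPlus d F v)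
    (hgt : ∀ z, g (t z) = t' (g z)) (h : FixHL d m t') : FixHL d m t := by
  obtain ⟨W', ⟨hfin, hnd, U', hU', hUd, hUs⟩, hinv⟩ := h
  have hgs : ∀ v, Cfsg.quadFormPlus d F (g.symm v) = Cfsg.quadFormPlus d F v := by
    intro v
    rw [← hg (g.symm v), LinearEquiv.apply_symm_apply]
  have hpol : ∀ u v, QuadraticMap.polar (Cfsg.quadFormPlus d F) (g.symm u) (g.symm v)
      = QuadraticMap.polar (Cfsg.quadFormPlus d F) u v := by
    intro u v
    unfold QuadraticMap.polar
    rw [← map_add, hgs, hgs, hgs]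
  refine ⟨W'.map (g.symm : (VV d) →ₗ[F] (VV d)), ⟨?_, ?_, U'.map (g.symm : (VV d) →ₗ[F] (VV d)),
    Submodule.map_mono hU', ?_, ?_⟩, ?_⟩
  · rw [LinearEquiv.finrank_map_eq, hfin]
  · rintro _ ⟨u', hu', rfl⟩ hne
    have hne' : u' ≠ 0 := by
      intro h0
      apply hne
      rw [h0]
      simp
    obtain ⟨v', hv', hv2⟩ := hnd u' hu' hne'
    refine ⟨g.symm v', Submodule.mem_map_of_mem hv', ?_⟩
    rw [LinearEquiv.coe_coe, hpol]
    exact hv2
  · rw [LinearEquiv.finrank_map_eq, hUd]
  · rintro _ ⟨u', hu', rfl⟩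
    rw [LinearEquiv.coe_coe, hgs]
    exact hUs u' hu'
  · rintro _ ⟨_, ⟨w', hw', rfl⟩, rfl⟩
    refine ⟨t' w', hinv (Submodule.mem_map_of_mem hw'), ?_⟩
    show g.symm (t' w') = t (g.symm w')
    rw [LinearEquiv.symm_apply_eq, hgt, LinearEquiv.apply_symm_apply]

/-- the good direction in characteristic 2: every involutive isometry `≠ 1` of `quadFormPlus d`
fixes a hyperbolic `m`-space, if `d` is odd or `4 ∣ m` -/
theorem char2_good [Fintype F] (h2 : (2 : F) = 0) (d m : ℕ) (hme : Even m) (hmd : m < d)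
    (hgood : Odd d ∨ m % 4 = 0) {t : (VV d) →ₗ[F] (VV d)} (ht : IsInvIso (plusForm d F) t)
    (hne : t ≠ LinearMap.id) : FixHL d m t := by
  classical
  have hchar : ringChar F = 2 := CharP.ringChar_of_prime_eq_zero Nat.prime_two (by exact_mod_cast h2)
  have hsq : ∀ a : F, ∃ c : F, c * c = a := by
    intro a
    obtain ⟨c, hc⟩ := FiniteField.isSquare_of_char_two hchar a
    exact ⟨c, hc.symm⟩
  have hQ := Cfsg.Agent.Lib.Helper8.plusForm_nondegenerate d F
  have hrk := rank_le h2 d ht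
  have hs1 : 1 ≤ finrank F (LinearMap.range (nilPart t)) := by
    by_contra hcon
    have h0 : finrank F (LinearMap.range (nilPart t)) = 0 := by omega
    rw [Submodule.finrank_eq_zero, LinearMap.range_eq_bot] at h0
    apply hne
    have : t - LinearMap.id = 0 := h0
    exact sub_eq_zero.1 this
  obtain ⟨m', rfl⟩ : ∃ m', m = 2 * m' := ⟨m / 2, by obtain ⟨k, rfl⟩ := hme; omega⟩
  by_cases hA : ∀ z, plusForm d F (nilPart t z) = 0
  · -- alternating type
    obtain ⟨r, w, hw⟩ := Cfsg.Agent.Lib.Helper8.exists_frame_alt h2 hQ ht hA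
    have hr2 : finrank F (LinearMap.range (nilPart t)) = 2 * r := by
      rw [hw.finrank_range]
      simp only [Fintype.card_sum, Fintype.card_fin]
      omega
    have hrd : 2 * r ≤ d := by omega
    obtain ⟨t', ht', hrank', halt', hinv'⟩ := std_alt h2 d r hrd
    obtain ⟨g, hg, hgt⟩ := Cfsg.Agent.Lib.Helper8.conj_of_same_type h2 hsq hQ ht ht'
      (by rw [hr2, hrank']) ⟨fun _ => halt', fun _ => hA⟩
    apply asm_fixHL_of_conj d (2 * m') g
      (by intro v; rw [Cfsg.Agent.Lib.Helper8.plusForm_coe]; exact hg v) hgt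
    -- choose `a`, `b`
    obtain ⟨a, b, ha, hb, hab⟩ : ∃ a b : ℕ, a ≤ r ∧ b + 2 * r ≤ d ∧ m' = 2 * a + b := by
      by_cases hcase : r ≤ m' / 2
      · exact ⟨r, m' - 2 * r, le_refl _, by omega, by omega⟩
      · refine ⟨m' / 2, m' % 2, by omega, ?_, by omega⟩
        rcases hgood with hodd | h4
        · obtain ⟨k, hk⟩ := hodd
          omega
        · omega
    set S : Finset (Fin d) :=
      Finset.univ.filter (fun i : Fin d => i.val < 2 * a ∨ (2 * r ≤ i.val ∧ i.val < 2 * r + b))
      with hS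
    have hcard : S.card = m' := by
      rw [hS, asm_card_filter d (fun n => n < 2 * a ∨ (2 * r ≤ n ∧ n < 2 * r + b))
        (Finset.range (2 * a) ∪ Finset.Ico (2 * r) (2 * r + b))]
      · rw [Finset.card_union_of_disjoint]
        · simp only [Finset.card_range, Nat.card_Ico]
          omega
        · rw [Finset.disjoint_left]
          intro n hn1 hn2
          simp only [Finset.mem_range, Finset.mem_Ico] at hn1 hn2
          omega
      · intro n
        simp only [Finset.mem_union, Finset.mem_range, Finset.mem_Ico]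
        constructor
        · intro h
          refine ⟨?_, h⟩
          omega
        · intro h
          exact h.2
    rw [← hcard]
    apply asm_fixHL_of_coord
    apply hinv'
    intro i j hij hi2r hiS
    simp only [hS, Finset.coe_filter, Finset.mem_univ, true_and, Set.mem_ofPred_eq] at hiS ⊢
    left
    omega
  · -- non-alternating type
    push Not at hA
    obtain ⟨t', ht', hrank', hnalt', hinv'⟩ :=
      std_nonalt h2 d (finrank F (LinearMap.range (nilPart t))) hs1 hrk
    obtain ⟨g, hg, hgt⟩ := Cfsg.Agent.Lib.Helper8.conj_of_same_type h2 hsq hQ ht ht'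
      (by rw [hrank'])
      ⟨fun h => absurd (h _) hA.choose_spec, fun h => absurd (h _) hnalt'.choose_spec⟩
    apply asm_fixHL_of_conj d (2 * m') g
      (by intro v; rw [Cfsg.Agent.Lib.Helper8.plusForm_coe]; exact hg v) hgt
    set S : Finset (Fin d) := Finset.univ.filter (fun i : Fin d => i.val < m') with hS
    have hcard : S.card = m' := by
      rw [hS, asm_card_filter d (fun n => n < m') (Finset.range m')]
      · simp
      · intro n
        simp only [Finset.mem_range]
        constructor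
        · intro h
          exact ⟨by omega, h⟩
        · intro h
          exact h.2
    rw [← hcard]
    apply asm_fixHL_of_coord
    exact hinv' _

end char2asm

section oddasm

variable {F : Type*} [Field F]

local notation "Mat" d => Matrix (Fin d ⊕ Fin d) (Fin d ⊕ Fin d) F

open Cfsg.Agent.Lib.Helper81.On in
theorem asm_sq_toLin (d : ℕ) (x : GL (Fin d ⊕ Fin d) F) (z : F)
    (hz : ((x ^ 2 : GL (Fin d ⊕ Fin d) F) : Mat d) = z • (1 : Mat d)) :
    (Matrix.toLin' (x : Mat d) : Module.End F (VP d F)) * Matrix.toLin' (x : Mat d) = z • 1 := by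
  have h1 : (x : Mat d) * (x : Mat d) = z • (1 : Mat d) := by
    rw [← hz, pow_two, Units.val_mul]
  have h2 : (Matrix.toLin' (x : Mat d) : Module.End F (VP d F)) * Matrix.toLin' (x : Mat d)
      = Matrix.toLin' ((x : Mat d) * (x : Mat d)) := by
    rw [Matrix.toLin'_mul]; rfl
  rw [h2, h1]
  apply LinearMap.ext
  intro v
  rw [Matrix.toLin'_apply, Matrix.smul_mulVec, Matrix.one_mulVec]
  rfl

open Cfsg.Agent.Lib.Helper81.On in
/-- the type of an invariant nondegenerate subspace of an `x` with `x² = -1`, for `quadFormPlus d` -/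
theorem asm_neg_sq_of_odd [Fintype F] (h2 : (2 : F) ≠ 0) (d : ℕ) (hd : Odd d)
    {f : Module.End F (VP d F)} (hf : Isom (plusB d) f) (hff : f * f = -1) :
    IsSquare (-1 : F) := by
  have h := (sq_neg_type h2 (plusB_symm d) hf hff (W := ⊤) (fun v _ => Submodule.mem_top)
    (plusB_nd d)).1 (plus_top d)
  rcases h with h | h
  · exact h
  · exfalso
    rw [finrank_top, finrank_VP] at h
    obtain ⟨k, hk⟩ := hd
    omega

open Cfsg.Agent.Lib.Helper81.On in
/-- the good direction for `r = 2`, `q` odd -/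
theorem two_good_odd [Fintype F] (h2 : (2 : F) ≠ 0) (d m : ℕ) (hd : 1 ≤ d) (hm : 2 ≤ m)
    (hme : Even m) (hmd : m < d)
    (hgood : Odd d ∨ m % 4 = 0 ∨ Fintype.card F % 4 = 1)
    (x : GL (Fin d ⊕ Fin d) F) (hx : x ∈ Cfsg.Geo.omegaGL (Cfsg.quadFormPlus d F))
    (hsc : ∃ z : F, ((x ^ 2 : GL (Fin d ⊕ Fin d) F) : Mat d) = z • (1 : Mat d)) :
    FixH d m x := by
  have hxi := mem_isom_of_mem_omega d x hx
  have hx2 : x ^ 2 ∈ Cfsg.isometryGroup F (Cfsg.quadFormPlus d F) := Subgroup.pow_mem _ hxi 2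
  obtain ⟨z, hz⟩ := hsc
  have hz1 := scalar_pm_one d hd (x ^ 2) hx2 z hz
  have hf : Isom (plusB d) (Matrix.toLin' (x : Mat d)) := isom_of_mem d x hxi
  have hff := asm_sq_toLin d x z hz
  have key : ∀ W : Submodule F (VP d F), Inv (Matrix.toLin' (x : Mat d)) W → Nd (plusB d) W →
      finrank F W = m → Plus (plusB d) W → FixH d m x := by
    intro W hInv hNd hfin hPlus
    refine ⟨W, (isHyp_iff h2 d m W).2 ⟨hNd, hfin, hPlus⟩, ?_⟩
    rw [Submodule.map_le_iff_le_comap]
    intro v hv
    exact hInv v hv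
  rcases hz1 with rfl | rfl
  · rw [one_smul] at hff
    obtain ⟨W, hInv, hNd, hfin, hPlus⟩ := sq_one_fixes h2 (plusB_symm d) (plusB_nd d) hf hff m hme
      (by omega) (by rw [finrank_VP]; omega) True
    exact key W hInv hNd hfin (hPlus.2 trivial)
  · have hff' : (Matrix.toLin' (x : Mat d) : Module.End F (VP d F)) * Matrix.toLin' (x : Mat d)
        = -1 := by rw [hff]; apply LinearMap.ext; intro v; simp
    obtain ⟨W, hInv, hNd, hfin⟩ := sq_neg_exists h2 (plusB_symm d) (plusB_nd d) hf hff' m hme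
      (by rw [finrank_VP]; omega)
    apply key W hInv hNd hfin
    rw [sq_neg_type h2 (plusB_symm d) hf hff' hInv hNd, hfin]
    rcases hgood with hodd | h4 | hq
    · exact Or.inl (asm_neg_sq_of_odd h2 d hodd hf hff')
    · exact Or.inr (by omega)
    · left
      rw [FiniteField.isSquare_neg_one_iff]
      omega

open Cfsg.Agent.Lib.Helper81.On in
/-- the bad element for `r = 2`, `q ≡ 3 (mod 4)`, `d` even, `m ≡ 2 (mod 4)` -/
theorem two_bad_odd [Fintype F] (h2 : (2 : F) ≠ 0) (d m : ℕ) (hd : 1 ≤ d) (hde : Even d)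
    (hm4 : m % 4 = 2) (hq : Fintype.card F % 4 = 3) :
    ∃ x : GL (Fin d ⊕ Fin d) F, x ∈ Cfsg.Geo.omegaGL (Cfsg.quadFormPlus d F) ∧
      (∃ z : F, ((x ^ 2 : GL (Fin d ⊕ Fin d) F) : Mat d) = z • (1 : Mat d)) ∧
      NonScal d x ∧ ¬ FixH d m x := by
  obtain ⟨x, hx, hxx⟩ := exists_sq_neg_one_mem h2 d hd (Or.inl hde)
  have hns : ¬ IsSquare (-1 : F) := by
    rw [FiniteField.isSquare_neg_one_iff]
    omega
  have hz : ((x ^ 2 : GL (Fin d ⊕ Fin d) F) : Mat d) = (-1 : F) • (1 : Mat d) := by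
    rw [pow_two, Units.val_mul, hxx, neg_one_smul]
  refine ⟨x, hx, ⟨-1, hz⟩, ?_, ?_⟩
  · intro z hzz
    apply hns
    refine ⟨z, ?_⟩
    have h1 : (z • (1 : Mat d)) * (z • (1 : Mat d)) = -1 := by rw [← hzz, hxx]
    rw [Matrix.smul_mul, Matrix.mul_smul, Matrix.one_mul, smul_smul] at h1
    set i₀ : Fin d ⊕ Fin d := Sum.inl ⟨0, by omega⟩
    have h3 := congrFun (congrFun h1 i₀) i₀
    simp only [Matrix.smul_apply, Matrix.one_apply_eq, Matrix.neg_apply, smul_eq_mul, mul_one] at h3
    exact h3.symm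
  · rintro ⟨W, hW, hmap⟩
    have hxi := mem_isom_of_mem_omega d x hx
    have hf : Isom (plusB d) (Matrix.toLin' (x : Mat d)) := isom_of_mem d x hxi
    have hff := asm_sq_toLin d x (-1) hz
    have hneg : ((-1 : F) • (1 : Module.End F (VP d F))) = -1 := by
      apply LinearMap.ext; intro v; simp
    rw [hneg] at hff
    obtain ⟨hNd, hfin, hPlus⟩ := (isHyp_iff h2 d m W).1 hW
    have hInv : Inv (Matrix.toLin' (x : Mat d)) W := by
      intro v hv
      exact hmap (Submodule.mem_map_of_mem hv)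
    rcases (sq_neg_type h2 (plusB_symm d) hf hff hInv hNd).1 hPlus with h | h
    · exact hns h
    · rw [hfin] at h
      omega

end oddasm

section twoasm

variable {F : Type*} [Field F]

local notation "Mat" d => Matrix (Fin d ⊕ Fin d) (Fin d ⊕ Fin d) F

open Cfsg.Agent.Lib.Helper81.On in
/-- the good direction for `r = 2 = p` in matrix form -/
theorem two_good_even [Fintype F] (h2 : (2 : F) = 0) (d m : ℕ) (hd : 1 ≤ d) (hme : Even m)
    (hmd : m < d) (hgood : Odd d ∨ m % 4 = 0)
    (x : GL (Fin d ⊕ Fin d) F) (hx : x ∈ Cfsg.Geo.omegaGL (Cfsg.quadFormPlus d F))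
    (hsc : ∃ z : F, ((x ^ 2 : GL (Fin d ⊕ Fin d) F) : Mat d) = z • (1 : Mat d))
    (hns : NonScal d x) : FixH d m x := by
  have hxi := mem_isom_of_mem_omega d x hx
  have hx2 : x ^ 2 ∈ Cfsg.isometryGroup F (Cfsg.quadFormPlus d F) := Subgroup.pow_mem _ hxi 2
  obtain ⟨z, hz⟩ := hsc
  have hz1 : z = 1 := by
    rcases scalar_pm_one d hd (x ^ 2) hx2 z hz with h | h
    · exact h
    · rw [h]
      linear_combination (-1 : F) * h2
  subst hz1
  have hff := asm_sq_toLin d x 1 hz
  rw [one_smul] at hff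
  apply char2_good h2 d m hme hmd hgood
  · constructor
    · intro v
      rw [← Cfsg.Agent.Lib.Helper8.plusForm_coe, Matrix.toLin'_apply]
      exact hxi v 0
    · intro v
      have := congrArg (fun g : Module.End F (VP d F) => g v) hff
      exact this
  · intro hid
    apply hns 1
    rw [one_smul]
    have h1 : Matrix.toLin' (x : Mat d) = Matrix.toLin' (1 : Mat d) := by
      rw [hid, Matrix.toLin'_one]
    exact Matrix.toLin'.injective h1

open Cfsg.Agent.Lib.Helper81.On in
/-- the part `r = 2` of S5974 -/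
theorem main_two [Fintype F] (d m : ℕ) (hd : 4 ≤ d) (hm : 2 ≤ m) (hme : Even m) (hmd : m < d) :
    (∀ x : GL (Fin d ⊕ Fin d) F, x ∈ Cfsg.Geo.omegaGL (Cfsg.quadFormPlus d F) →
      (∃ z : F, ((x ^ 2 : GL (Fin d ⊕ Fin d) F) : Mat d) = z • (1 : Mat d)) →
      NonScal d x → FixH d m x) ↔
    ((2 * d) % 4 = 2 ∨ m % 4 = 0 ∨ Fintype.card F % 4 = 1) := by
  obtain ⟨m', rfl⟩ : ∃ m', m = 2 * m' := ⟨m / 2, by obtain ⟨k, rfl⟩ := hme; omega⟩
  by_cases h2 : (2 : F) = 0
  · have hchar : ringChar F = 2 :=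
      CharP.ringChar_of_prime_eq_zero Nat.prime_two (by exact_mod_cast h2)
    have hqe : Fintype.card F % 2 = 0 := FiniteField.even_card_iff_char_two.1 hchar
    constructor
    · intro h
      by_contra hcon
      push Not at hcon
      obtain ⟨hc1, hc2, -⟩ := hcon
      obtain ⟨x, hx, hxx, hns, hbad⟩ := char2_bad h2 d (2 * m') hd
        (by rw [Nat.even_iff]; omega) (by omega)
      apply hbad
      apply h x hx ⟨1, ?_⟩ hns
      rw [pow_two, hxx, one_smul]
      rfl
    · intro h x hx hsc hns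
      apply two_good_even h2 d (2 * m') (by omega) hme hmd ?_ x hx hsc hns
      rcases h with h | h | h
      · left
        rw [Nat.odd_iff]; omega
      · exact Or.inr h
      · omega
  · have hchar : ringChar F ≠ 2 := by
      intro hc
      apply h2
      have := ringChar.Nat.cast_ringChar (R := F)
      rw [hc] at this
      exact_mod_cast this
    have hqo : Fintype.card F % 2 = 1 := FiniteField.odd_card_of_char_ne_two hchar
    constructor
    · intro h
      by_contra hcon
      push Not at hcon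
      obtain ⟨hc1, hc2, hc3⟩ := hcon
      obtain ⟨x, hx, hsc, hns, hbad⟩ := two_bad_odd h2 d (2 * m') (by omega)
        (by rw [Nat.even_iff]; omega) (by omega) (by omega)
      exact hbad (h x hx hsc hns)
    · intro h x hx hsc _
      apply two_good_odd h2 d (2 * m') (by omega) hm hme hmd ?_ x hx hsc
      rcases h with h | h | h
      · left
        rw [Nat.odd_iff]; omega
      · exact Or.inr (Or.inl h)
      · exact Or.inr (Or.inr h)

end twoasm

end Cfsg.Agent.Lib.Helper15.Hq
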