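import Cfsg.Agent.Lib.Helper15.HsDefs

/-!
# Hs hive (S2536): basic facts on Hall π-subgroups (factorization form) — proved, reusable
-/

set_option autoImplicit false

namespace Cfsg.Agent.Lib.Helper15.Hs

open Cfsg

section general

variable {G : Type*} [Group G] [Finite G] {π : Set ℕ} {H : Subgroup G}

/-- For `p ∈ π`, a Hall `π`-subgroup has the full `p`-part of `|G|`. -/
theorem hall_factorization_eq (hH : IsPiHall π H) {p : ℕ} (hp : p.Prime) (hpπ : p ∈ π) :
    (Nat.card H).factorization p = (Nat.card G).factorization p := by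
  have h1 : Nat.card H * H.index = Nat.card G := Subgroup.card_mul_index H
  have hc : Nat.card H ≠ 0 := Nat.card_pos.ne'
  have hi : H.index ≠ 0 := Subgroup.index_ne_zero_of_finite
  rw [← h1, Nat.factorization_mul hc hi]
  have : H.index.factorization p = 0 := Nat.factorization_eq_zero_of_not_dvd (hH.2 p hp hpπ)
  simp [this]

/-- Converse: a `π`-subgroup having the full `p`-part for every `p ∈ π` is a Hall `π`-subgroup. -/
theorem isPiHall_of_factorization (h1 : ∀ p : ℕ, p.Prime → p ∣ Nat.card H → p ∈ π)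
    (h2 : ∀ p : ℕ, p.Prime → p ∈ π → (Nat.card G).factorization p ≤ (Nat.card H).factorization p) :
    IsPiHall π H := by
  refine ⟨h1, fun p hp hpπ hdvd => ?_⟩
  have h3 : Nat.card H * H.index = Nat.card G := Subgroup.card_mul_index H
  have hc : Nat.card H ≠ 0 := Nat.card_pos.ne'
  have hi : H.index ≠ 0 := Subgroup.index_ne_zero_of_finite
  have h4 := h2 p hp hpπ
  rw [← h3, Nat.factorization_mul hc hi] at h4
  have h5 : 1 ≤ H.index.factorization p :=
    (hp.dvd_iff_one_le_factorization hi).mp hdvd
  simp only [Finsupp.coe_add, Pi.add_apply] at h4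
  omega

/-- The order of a Hall `π`-subgroup involves only primes of `π` (restated). -/
theorem hall_prime_mem (hH : IsPiHall π H) {p : ℕ} (hp : p.Prime) (hd : p ∣ Nat.card H) : p ∈ π :=
  hH.1 p hp hd

/-- If every prime divisor of `|G|` lies in `π`, the only Hall `π`-subgroup is `G`. -/
theorem hall_eq_top_of_all (hH : IsPiHall π H) (hall : ∀ p : ℕ, p.Prime → p ∣ Nat.card G → p ∈ π) :
    H = ⊤ := by
  rw [← Subgroup.index_eq_one]
  by_contra hne
  obtain ⟨p, hp, hpd⟩ := Nat.exists_prime_and_dvd hne
  have h3 : Nat.card H * H.index = Nat.card G := Subgroup.card_mul_index H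
  have : p ∣ Nat.card G := h3 ▸ Dvd.dvd.mul_left hpd _
  exact hH.2 p hp (hall p hp this) hpd

end general

section perm

variable {α : Type*} [Fintype α] [DecidableEq α] {π : Set ℕ} {H : Subgroup (Equiv.Perm α)}

/-- In `Perm α`: if all primes `≤ |α|` lie in `π`, the only Hall `π`-subgroup is `⊤`. -/
theorem hall_eq_top (hH : IsPiHall π H)
    (hall : ∀ r : ℕ, r.Prime → r ≤ Nat.card α → r ∈ π) : H = ⊤ := by
  apply hall_eq_top_of_all hH
  intro p hp hpd
  rw [Nat.card_perm] at hpd
  exact hall p hp ((hp.dvd_factorial).mp hpd)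

/-- For `p ∈ π`, `v_p(|H|) = v_p(|α|!)`. -/
theorem hall_perm_factorization (hH : IsPiHall π H) {p : ℕ} (hp : p.Prime) (hpπ : p ∈ π) :
    (Nat.card H).factorization p = (Nat.card α).factorial.factorization p := by
  rw [hall_factorization_eq hH hp hpπ, Nat.card_perm]

end perm

end Cfsg.Agent.Lib.Helper15.Hs
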