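import Mathlib
import Cfsg.Prelude.Def_HallClasses

/-!
# Hs hive (S2536): Hall π-subgroups of symmetric groups — shared definitions

`resSub H s` is the subgroup of `Equiv.Perm ↥s` induced by those elements of `H` which map `s`
into itself (for an `H`-invariant set `s`: the restriction of `H` to `s`).
-/

set_option autoImplicit false

namespace Cfsg.Agent.Lib.Helper15.Hs

/-- At least two primes of `π` are `≤ m`. -/
def TwoIn (π : Set ℕ) (m : ℕ) : Prop :=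
  ∃ r s : ℕ, r.Prime ∧ s.Prime ∧ r ≠ s ∧ r ∈ π ∧ s ∈ π ∧ r ≤ m ∧ s ≤ m

/-- Some prime `≤ m` is not in `π`. -/
def OneOut (π : Set ℕ) (m : ℕ) : Prop :=
  ∃ r : ℕ, r.Prime ∧ r ≤ m ∧ r ∉ π

/-- The standard case: `m` prime and the primes of `π` up to `m` are exactly the primes `< m`. -/
def StdCase (π : Set ℕ) (m : ℕ) : Prop :=
  m.Prime ∧ ∀ r : ℕ, r.Prime → r ≤ m → (r ∈ π ↔ r < m)

/-- The exceptional case of degree `k` (`k = 7, 8`): `m = k` and the primes of `π` up to `m` are `2, 3`. -/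
def Exc (π : Set ℕ) (m k : ℕ) : Prop :=
  m = k ∧ ∀ r : ℕ, r.Prime → r ≤ m → (r ∈ π ↔ (r = 2 ∨ r = 3))

variable {α : Type*}

/-- The subgroup of `Perm ↥s` of all permutations of `s` induced by elements of `H`. -/
def resSub (H : Subgroup (Equiv.Perm α)) (s : Set α) : Subgroup (Equiv.Perm ↥s) where
  carrier := {σ | ∃ g ∈ H, ∀ x : ↥s, ((σ x : ↥s) : α) = g (x : α)}
  one_mem' := ⟨1, H.one_mem, fun _ => rfl⟩
  mul_mem' := by
    rintro σ τ ⟨g, hg, hσ⟩ ⟨h, hh, hτ⟩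
    refine ⟨g * h, H.mul_mem hg hh, fun x => ?_⟩
    simp only [Equiv.Perm.coe_mul, Function.comp_apply]
    rw [hσ, hτ]
  inv_mem' := by
    rintro σ ⟨g, hg, hσ⟩
    refine ⟨g⁻¹, H.inv_mem hg, fun x => ?_⟩
    have h1 := hσ (σ⁻¹ x)
    have h2 : σ (σ⁻¹ x) = x := by simp
    rw [h2] at h1
    rw [h1]
    simp

theorem mem_resSub {H : Subgroup (Equiv.Perm α)} {s : Set α} {σ : Equiv.Perm ↥s} :
    σ ∈ resSub H s ↔ ∃ g ∈ H, ∀ x : ↥s, ((σ x : ↥s) : α) = g (x : α) := Iff.rfl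

end Cfsg.Agent.Lib.Helper15.Hs
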