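import Cfsg.Agent.Lib.Helper15.HsBasic
import Cfsg.Agent.Lib.Helper53.HsNUM
import Cfsg.Agent.Lib.Helper78.HsRES
import Cfsg.Agent.Lib.Helper64.HsORB
import Cfsg.Agent.Lib.Helper88.HsCYC
import Cfsg.Agent.Lib.Helper24.HsPRIM
import Cfsg.Agent.Lib.Helper24.HsIDX
import Cfsg.Agent.Lib.Helper70.HsSTAB
import Cfsg.Agent.Lib.Helper72.HsEXP
import Cfsg.Agent.Lib.Helper42.HsEX7
import Cfsg.Agent.Lib.Helper42.HsEX8

set_option autoImplicit false
set_option linter.unusedSectionVars false
set_option linter.style.haveILetI false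

namespace Cfsg.Agent.Lib.Helper15.Hs

open Cfsg

/-- The (strong) induction hypothesis. -/
def IHyp (m : ℕ) : Prop :=
  ∀ k < m, ∀ (α : Type) [Fintype α] [DecidableEq α] (π : Set ℕ) (H : Subgroup (Equiv.Perm α)),
    Nat.card α = k → IsPiHall π H → TwoIn π k → OneOut π k →
    (¬ MulAction.IsPretransitive H α ∧ (StdCase π k ∨ Exc π k 7)) ∨
      (MulAction.IsPretransitive H α ∧ Exc π k 8)

section aux

variable {α : Type} [Fintype α] [DecidableEq α] (π : Set ℕ) (H : Subgroup (Equiv.Perm α))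

theorem main_three_le {m : ℕ} (h2 : TwoIn π m) : 3 ≤ m := by
  obtain ⟨r, s, hr, hs, hrs, -, -, hrm, hsm⟩ := h2
  have := hr.two_le
  have := hs.two_le
  omega

theorem main_orbit_inv (x : α) : ∀ g ∈ H, ∀ y ∈ MulAction.orbit H x, g y ∈ MulAction.orbit H x := by
  intro g hg y hy
  exact MulAction.mem_orbit_of_mem_orbit (⟨g, hg⟩ : H) hy

theorem main_orbit_ne_univ (hntr : ¬ MulAction.IsPretransitive H α) (x : α) :
    ∃ y : α, y ∉ MulAction.orbit H x := by
  by_contra hcon
  push Not at hcon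
  apply hntr
  refine ⟨fun a b => ?_⟩
  obtain ⟨g, hg⟩ := hcon a
  obtain ⟨h, hh⟩ := hcon b
  refine ⟨h * g⁻¹, ?_⟩
  rw [← hg, ← hh, mul_smul, inv_smul_smul]

theorem main_card_lt (s : Set α) (y : α) (hy : y ∉ s) : Nat.card ↥s < Nat.card α := by
  rw [Nat.card_coe_set_eq, ← Set.ncard_univ]
  apply Set.ncard_lt_ncard _ (Set.toFinite _)
  exact ⟨Set.subset_univ _, fun h => hy (h (Set.mem_univ y))⟩

theorem main_card_pos (s : Set α) (x : α) (hx : x ∈ s) : 0 < Nat.card ↥s := by
  haveI : Nonempty ↥s := ⟨⟨x, hx⟩⟩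
  exact Nat.card_pos

/-- Type of a transitive constituent (case `2, 3 ∈ π`). -/
theorem main_constituent {m : ℕ} (ih : IHyp m) (hH : IsPiHall π H) (h2 : 2 ∈ π) (h3 : 3 ∈ π)
    (A : Set α) (hA : ∀ g ∈ H, ∀ x ∈ A, g x ∈ A)
    (hAtr : MulAction.IsPretransitive (resSub H A) ↥A) (hlt : Nat.card ↥A < m) :
    (∀ r : ℕ, r.Prime → r ≤ Nat.card ↥A → r ∈ π) ∨ (Nat.card ↥A = 8 ∧ 5 ∉ π ∧ 7 ∉ π) := by
  classical
  by_cases hall : ∀ r : ℕ, r.Prime → r ≤ Nat.card ↥A → r ∈ π
  · exact Or.inl hall
  · right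
    push Not at hall
    obtain ⟨r₀, hr₀, hr₀le, hr₀π⟩ := hall
    have hR := (hall_restrict π H hH A hA).1
    have hr5 : 5 ≤ r₀ := by
      by_contra hlt5
      have h2' := hr₀.two_le
      have : r₀ = 2 ∨ r₀ = 3 ∨ r₀ = 4 := by omega
      rcases this with rfl | rfl | rfl
      · exact hr₀π h2
      · exact hr₀π h3
      · exact absurd hr₀ (by decide)
    have hTwo : TwoIn π (Nat.card ↥A) :=
      ⟨2, 3, Nat.prime_two, Nat.prime_three, by decide, h2, h3, by omega, by omega⟩
    have hOne : OneOut π (Nat.card ↥A) := ⟨r₀, hr₀, hr₀le, hr₀π⟩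
    rcases ih _ hlt ↥A π (resSub H A) rfl hR hTwo hOne with ⟨hnt, -⟩ | ⟨-, hE⟩
    · exact absurd hAtr hnt
    · obtain ⟨h8, hE⟩ := hE
      refine ⟨h8, ?_, ?_⟩
      · intro h5
        have := (hE 5 (by norm_num) (by omega)).mp h5
        omega
      · intro h7
        have := (hE 7 (by norm_num) (by omega)).mp h7
        omega

/-- A proper invariant subset containing two orbits has odd size (case `2, 3 ∈ π`). -/
theorem main_union_odd {m : ℕ} (ih : IHyp m) (hH : IsPiHall π H) (h2 : 2 ∈ π) (h3 : 3 ∈ π)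
    (U : Set α) (hU : ∀ g ∈ H, ∀ x ∈ U, g x ∈ U) (x y : α) (hx : x ∈ U) (hy : y ∈ U)
    (hxy : y ∉ MulAction.orbit H x) (hlt : Nat.card ↥U < m) : Odd (Nat.card ↥U) := by
  classical
  have hR := (hall_restrict π H hH U hU).1
  have hnt := resSub_not_pretransitive H U x y hx hy hxy
  by_cases hall : ∀ r : ℕ, r.Prime → r ≤ Nat.card ↥U → r ∈ π
  · exfalso
    apply hnt
    apply top_pretransitive H U
    exact hall_eq_top hR hall
  · push Not at hall
    obtain ⟨r₀, hr₀, hr₀le, hr₀π⟩ := hall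
    have hr5 : 5 ≤ r₀ := by
      by_contra hlt5
      have h2' := hr₀.two_le
      have : r₀ = 2 ∨ r₀ = 3 ∨ r₀ = 4 := by omega
      rcases this with rfl | rfl | rfl
      · exact hr₀π h2
      · exact hr₀π h3
      · exact absurd hr₀ (by decide)
    have hTwo : TwoIn π (Nat.card ↥U) :=
      ⟨2, 3, Nat.prime_two, Nat.prime_three, by decide, h2, h3, by omega, by omega⟩
    have hOne : OneOut π (Nat.card ↥U) := ⟨r₀, hr₀, hr₀le, hr₀π⟩
    rcases ih _ hlt ↥U π (resSub H U) rfl hR hTwo hOne with ⟨-, hS | hE⟩ | ⟨htr, -⟩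
    · exact hS.1.odd_of_ne_two (by omega)
    · rw [hE.1]; decide
    · exact absurd htr hnt

theorem main_card_compl_singleton (x : α) : Nat.card ↥({x}ᶜ : Set α) = Nat.card α - 1 := by
  rw [Nat.card_coe_set_eq, Set.ncard_compl, Set.ncard_singleton]

/-- The transitive case. -/
theorem main_trans {m : ℕ} (ih : IHyp m) (hcard : Nat.card α = m) (hH : IsPiHall π H)
    (h2 : TwoIn π m) (h1 : OneOut π m) (htr : MulAction.IsPretransitive H α) : Exc π m 8 := by
  classical
  have hm3 : 3 ≤ m := main_three_le π h2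
  -- not primitive
  have hnp : ¬ MulAction.IsPreprimitive H α := by
    intro hp
    obtain ⟨r, hr, hrm, hrπ⟩ := h1
    exact hrπ (prim_all_primes π H hH hp (hcard ▸ h2) r hr (hcard ▸ hrm))
  -- m not prime
  have hmnp : ¬ m.Prime := by
    intro hmp
    apply hnp
    haveI := htr
    exact MulAction.IsPreprimitive.of_prime_card (hcard ▸ hmp)
  have hne : Nonempty α := by
    rw [← Nat.card_pos_iff.trans ⟨fun h => h.1, fun h => ⟨h, inferInstance⟩⟩]
    omega
  obtain ⟨x⟩ := hne
  have hK := hall_stabilizer π H hH htr x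
  have hcardK : Nat.card ↥({x}ᶜ : Set α) = m - 1 := by
    rw [main_card_compl_singleton, hcard]
  have hle : ∀ r : ℕ, r.Prime → r ≤ m → r ≤ m - 1 := by
    intro r hr hrm
    have : r ≠ m := fun h => hmnp (h ▸ hr)
    omega
  have h2' : TwoIn π (m - 1) := by
    obtain ⟨r, s, hr, hs, hrs, hrπ, hsπ, hrm, hsm⟩ := h2
    exact ⟨r, s, hr, hs, hrs, hrπ, hsπ, hle r hr hrm, hle s hs hsm⟩
  have h1' : OneOut π (m - 1) := by
    obtain ⟨r, hr, hrm, hrπ⟩ := h1
    exact ⟨r, hr, hle r hr hrm, hrπ⟩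
  rcases ih (m - 1) (by omega) ↥({x}ᶜ : Set α) π _ hcardK hK h2' h1' with
    ⟨-, hS | hE⟩ | ⟨htrK, -⟩
  · -- StdCase π (m-1): index m-1, impossible
    exfalso
    obtain ⟨hlp, hS⟩ := hS
    -- m ≠ 4
    have hm6 : 6 ≤ m := by
      have hl2 := hlp.two_le
      by_contra hlt
      have : m = 3 ∨ m = 4 ∨ m = 5 := by omega
      rcases this with rfl | rfl | rfl
      · exact hmnp (by norm_num)
      · -- TwoIn π 4 forces 3 ∈ π
        obtain ⟨r, s, hr, hs, hrs, hrπ, hsπ, hrm, hsm⟩ := h2'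
        have hr3 : r = 2 ∨ r = 3 := by
          have := hr.two_le; omega
        have hs3 : s = 2 ∨ s = 3 := by
          have := hs.two_le; omega
        have h3π : 3 ∈ π := by
          rcases hr3 with rfl | rfl
          · rcases hs3 with rfl | rfl
            · exact absurd rfl hrs
            · exact hsπ
          · exact hrπ
        have := (hS 3 (by norm_num) (by omega)).mp h3π
        omega
      · exact hmnp (by norm_num)
    -- every prime factor of the index is m-1
    have hidx_dvd : H.index ∣ m.factorial := by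
      have := Subgroup.index_dvd_card H
      rwa [Nat.card_perm, hcard] at this
    have hprime_idx : ∀ {d : ℕ}, d.Prime → d ∣ H.index → d = m - 1 := by
      intro d hd hdi
      have hdm : d ≤ m := (hd.dvd_factorial).mp (hdi.trans hidx_dvd)
      have hdl := hle d hd hdm
      have hdπ : d ∉ π := fun h => hH.2 d hd h hdi
      by_contra hne
      exact hdπ ((hS d hd hdl).mpr (by omega))
    have hidx_ne : H.index ≠ 0 := Subgroup.index_ne_zero_of_finite
    have hpow := Nat.eq_prime_pow_of_unique_prime_dvd hidx_ne hprime_idx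
    set k := H.index.primeFactorsList.length with hk
    -- k ≠ 0
    have hk0 : k ≠ 0 := by
      intro h0
      rw [h0, pow_zero] at hpow
      have htop : H = ⊤ := Subgroup.index_eq_one.mp hpow
      have hdvd : (m - 1) ∣ Nat.card H := by
        rw [htop, Subgroup.card_top, Nat.card_perm, hcard]
        exact (hlp.dvd_factorial).mpr (by omega)
      have := hH.1 (m - 1) hlp hdvd
      have := (hS (m - 1) hlp le_rfl).mp this
      omega
    -- k < 2
    have hk2 : k < 2 := by
      by_contra hge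
      have hsq : (m - 1) ^ 2 ∣ m.factorial := by
        refine dvd_trans ?_ hidx_dvd
        rw [hpow]
        exact pow_dvd_pow _ (by omega)
      obtain ⟨l, hl⟩ : ∃ l, m = l + 2 := ⟨m - 2, by omega⟩
      subst hl
      have hl1 : l + 2 - 1 = l + 1 := by omega
      rw [hl1] at hsq hlp
      rw [Nat.factorial_succ, Nat.factorial_succ, pow_two] at hsq
      have h3 : (l + 1) * (l + 1) ∣ (l + 1) * ((l + 1 + 1) * l.factorial) := by
        convert hsq using 1; ring
      have h4 : (l + 1) ∣ (l + 1 + 1) * l.factorial :=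
        Nat.dvd_of_mul_dvd_mul_left (by omega) h3
      rcases (hlp.dvd_mul).mp h4 with h5 | h5
      · have := (Nat.dvd_add_right (dvd_refl (l + 1))).mp h5
        have := Nat.le_of_dvd (by omega) this
        have := hlp.two_le
        omega
      · have := (hlp.dvd_factorial).mp h5
        omega
    have hk1 : k = 1 := by omega
    rw [hk1, pow_one] at hpow
    exact no_index_pred H (hcard ▸ hm6) (by rw [hpow, hcard])
  · -- Exc π (m-1) 7
    obtain ⟨h7, hE⟩ := hE
    have hm8 : m = 8 := by omega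
    refine ⟨hm8, fun r hr hrm => ?_⟩
    exact hE r hr (hle r hr hrm)
  · exact absurd (preprimitive_of_stabilizer_pretransitive H htr x htrK) hnp

theorem main_support_subset_orbit (g : Equiv.Perm α) (hg : g ∈ H) (hc : g.IsCycle) (x : α)
    (hx : x ∈ g.support) : (g.support : Set α) ⊆ MulAction.orbit H x := by
  intro y hy
  have hy' : y ∈ g.support := hy
  obtain ⟨i, hi⟩ := hc.sameCycle (Equiv.Perm.mem_support.mp hx) (Equiv.Perm.mem_support.mp hy')
  refine ⟨(⟨g, hg⟩ : H) ^ i, ?_⟩
  rw [← hi]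
  rfl

/-- The intransitive case, when `2 ∉ π` or `3 ∉ π`: impossible. -/
theorem main_intrans_A {m : ℕ} (ih : IHyp m) (hcard : Nat.card α = m) (hH : IsPiHall π H)
    (h2 : TwoIn π m) (hntr : ¬ MulAction.IsPretransitive H α) (h23 : ¬ (2 ∈ π ∧ 3 ∈ π)) : False := by
  classical
  obtain ⟨r, s, hr, hs, hrs, hrπ, hsπ, hrm, hsm⟩ := h2
  -- wlog r < s
  wlog hlt : r < s generalizing r s
  · exact this s r hs hr (Ne.symm hrs) hsπ hrπ hsm hrm (by omega)
  have hs3 : 3 ≤ s := by have := hr.two_le; omega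
  obtain ⟨g, hg, hgc, hgs⟩ := exists_cycle_mem π H hH s hs hsπ (hcard ▸ hsm)
  have hne : g.support.Nonempty := by
    rw [← Finset.card_pos]; omega
  obtain ⟨x, hx⟩ := hne
  set A := MulAction.orbit H x with hA
  have hsub := main_support_subset_orbit H g hg hgc x hx
  have hcardA : s ≤ Nat.card ↥A := by
    rw [Nat.card_coe_set_eq, ← hgs, ← Set.ncard_coe_finset]
    exact Set.ncard_le_ncard hsub (Set.toFinite _)
  obtain ⟨y, hy⟩ := main_orbit_ne_univ H hntr x
  have hltA : Nat.card ↥A < m := hcard ▸ main_card_lt A y hy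
  have hR := (hall_restrict π H hH A (main_orbit_inv H x)).1
  have htrA := resSub_orbit_pretransitive H x
  have hTwo : TwoIn π (Nat.card ↥A) :=
    ⟨r, s, hr, hs, hrs, hrπ, hsπ, by omega, hcardA⟩
  have hOne : OneOut π (Nat.card ↥A) := by
    by_cases h2π : 2 ∈ π
    · have h3π : 3 ∉ π := fun h => h23 ⟨h2π, h⟩
      exact ⟨3, Nat.prime_three, by omega, h3π⟩
    · exact ⟨2, Nat.prime_two, by omega, h2π⟩
  rcases ih _ hltA ↥A π (resSub H A) rfl hR hTwo hOne with ⟨hnt, -⟩ | ⟨-, hE⟩
  · exact hnt htrA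
  · obtain ⟨h8, hE⟩ := hE
    apply h23
    exact ⟨(hE 2 Nat.prime_two (by omega)).mpr (Or.inl rfl),
      (hE 3 Nat.prime_three (by omega)).mpr (Or.inr rfl)⟩

theorem main_orbit_disjoint (x y : α) (hy : y ∉ MulAction.orbit H x) :
    Disjoint (MulAction.orbit H x) (MulAction.orbit H y) := by
  rw [Set.disjoint_left]
  intro w hwx hwy
  apply hy
  have h1 : MulAction.orbit H w = MulAction.orbit H x := MulAction.orbit_eq_iff.mpr hwx
  have h2 : MulAction.orbit H w = MulAction.orbit H y := MulAction.orbit_eq_iff.mpr hwy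
  rw [← h1, h2]
  exact MulAction.mem_orbit_self y

theorem main_union_inv (s t : Set α) (hs : ∀ g ∈ H, ∀ x ∈ s, g x ∈ s) (ht : ∀ g ∈ H, ∀ x ∈ t, g x ∈ t) :
    ∀ g ∈ H, ∀ x ∈ s ∪ t, g x ∈ s ∪ t := by
  rintro g hg x (hx | hx)
  · exact Or.inl (hs g hg x hx)
  · exact Or.inr (ht g hg x hx)

theorem main_card_union (s t : Set α) (hd : Disjoint s t) :
    Nat.card ↥(s ∪ t) = Nat.card ↥s + Nat.card ↥t := by
  rw [Nat.card_coe_set_eq, Nat.card_coe_set_eq, Nat.card_coe_set_eq]
  exact Set.ncard_union_eq hd (Set.toFinite _) (Set.toFinite _)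

/-- In the case `2, 3 ∈ π`, an intransitive Hall subgroup has exactly two orbits. -/
theorem main_two_orbits {m : ℕ} (ih : IHyp m) (hcard : Nat.card α = m) (hH : IsPiHall π H)
    (h2 : 2 ∈ π) (h3 : 3 ∈ π) (x y : α) (hy : y ∉ MulAction.orbit H x) :
    MulAction.orbit H x ∪ MulAction.orbit H y = Set.univ := by
  classical
  by_contra hne
  obtain ⟨z, hz⟩ := (Set.ne_univ_iff_exists_notMem _).mp hne
  have hzx : z ∉ MulAction.orbit H x := fun h => hz (Or.inl h)
  have hzy : z ∉ MulAction.orbit H y := fun h => hz (Or.inr h)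
  have hyz : y ∉ MulAction.orbit H z := fun h => hzy (by
    rw [MulAction.orbit_eq_iff.mpr h]; exact MulAction.mem_orbit_self z)
  have hxy : x ∉ MulAction.orbit H y := fun h => hy (by
    rw [MulAction.orbit_eq_iff.mpr h]; exact MulAction.mem_orbit_self y)
  have hxz : x ∉ MulAction.orbit H z := fun h => hzx (by
    rw [MulAction.orbit_eq_iff.mpr h]; exact MulAction.mem_orbit_self z)
  set A := MulAction.orbit H x
  set B := MulAction.orbit H y
  set C := MulAction.orbit H z
  have hA := main_orbit_inv H x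
  have hB := main_orbit_inv H y
  have hC := main_orbit_inv H z
  have o1 := main_union_odd π H ih hH h2 h3 (A ∪ B) (main_union_inv H A B hA hB) x y
    (Or.inl (MulAction.mem_orbit_self x)) (Or.inr (MulAction.mem_orbit_self y)) hy
    (hcard ▸ main_card_lt (A ∪ B) z hz)
  have o2 := main_union_odd π H ih hH h2 h3 (A ∪ C) (main_union_inv H A C hA hC) x z
    (Or.inl (MulAction.mem_orbit_self x)) (Or.inr (MulAction.mem_orbit_self z)) hzx
    (hcard ▸ main_card_lt (A ∪ C) y (by rintro (h | h); exact hy h; exact hyz h))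
  have o3 := main_union_odd π H ih hH h2 h3 (B ∪ C) (main_union_inv H B C hB hC) y z
    (Or.inl (MulAction.mem_orbit_self y)) (Or.inr (MulAction.mem_orbit_self z)) hzy
    (hcard ▸ main_card_lt (B ∪ C) x (by rintro (h | h); exact hxy h; exact hxz h))
  rw [main_card_union A B (main_orbit_disjoint H x y hy)] at o1
  rw [main_card_union A C (main_orbit_disjoint H x z hzx)] at o2
  rw [main_card_union B C (main_orbit_disjoint H y z hzy)] at o3
  obtain ⟨k1, hk1⟩ := o1
  obtain ⟨k2, hk2⟩ := o2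
  obtain ⟨k3, hk3⟩ := o3
  omega

/-- Arithmetic endgame: two transitive constituents of sizes `a ≥ b`, all primes `≤ a` in `π`. -/
theorem main_endgame_full {m a b : ℕ} (hab : a + b = m) (hba : b ≤ a) (hb1 : 1 ≤ b)
    (h2 : 2 ∈ π) (h3 : 3 ∈ π)
    (hfull : ∀ r : ℕ, r.Prime → r ≤ a → r ∈ π) (h1 : OneOut π m)
    (hbin : ∀ p : ℕ, p.Prime → p ∈ π → ¬ p ∣ Nat.choose m b) : StdCase π m ∨ Exc π m 7 := by
  classical
  -- the least prime not in π
  have hex : ∃ q : ℕ, q.Prime ∧ q ∉ π := by
    obtain ⟨r, hr, -, hrπ⟩ := h1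
    exact ⟨r, hr, hrπ⟩
  set q₀ := Nat.find hex with hq₀
  obtain ⟨hq₀p, hq₀π⟩ := Nat.find_spec hex
  have hq₀min : ∀ k : ℕ, k.Prime → k < q₀ → k ∈ π := by
    intro k hk hlt
    by_contra hkπ
    exact Nat.find_min hex hlt ⟨hk, hkπ⟩
  have hq₀m : q₀ ≤ m := by
    obtain ⟨r, hr, hrm, hrπ⟩ := h1
    exact (Nat.find_min' hex ⟨hr, hrπ⟩).trans hrm
  have hq₀a : a < q₀ := by
    by_contra hle
    exact hq₀π (hfull q₀ hq₀p (by omega))
  rcases Nat.lt_or_ge b 2 with hb2 | hb2
  · -- b = 1
    left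
    have hb : b = 1 := by omega
    have hmq : m = q₀ := by omega
    refine ⟨hmq ▸ hq₀p, fun r hr hrm => ⟨fun hrπ => ?_, fun hlt => ?_⟩⟩
    · have : r ≠ q₀ := by
        rintro rfl
        exact hq₀π hrπ
      omega
    · exact hfull r hr (by omega)
  · -- b ≥ 2 : lemma N
    right
    have hN := lemmaN a b hb2 hba ⟨q₀, hq₀p, hq₀a, by omega⟩
      (fun p hp hpa => by rw [hab]; exact hbin p hp (hfull p hp hpa))
    obtain ⟨ha4, hb3⟩ := hN
    subst ha4 hb3
    have hm7 : m = 7 := by omega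
    subst hm7
    refine ⟨rfl, fun r hr hr7 => ?_⟩
    have h35 : Nat.choose 7 3 = 35 := by decide
    rw [h35] at hbin
    have hr2 := hr.two_le
    have : r = 2 ∨ r = 3 ∨ r = 4 ∨ r = 5 ∨ r = 6 ∨ r = 7 := by omega
    rcases this with rfl | rfl | rfl | rfl | rfl | rfl
    · exact ⟨fun _ => Or.inl rfl, fun _ => h2⟩
    · exact ⟨fun _ => Or.inr rfl, fun _ => h3⟩
    · exact absurd hr (by decide)
    · exact ⟨fun h => absurd (by decide : 5 ∣ 35) (hbin 5 hr h), fun h => by omega⟩
    · exact absurd hr (by decide)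
    · exact ⟨fun h => absurd (by decide : 7 ∣ 35) (hbin 7 hr h), fun h => by omega⟩

/-- Arithmetic endgame: one constituent of size 8 (with `5 ∉ π`). -/
theorem main_endgame_eight {m b : ℕ} (hab : 8 + b = m) (hb1 : 1 ≤ b)
    (h2 : 2 ∈ π) (h3 : 3 ∈ π) (h5 : 5 ∉ π)
    (hb : (∀ r : ℕ, r.Prime → r ≤ b → r ∈ π) ∨ b = 8)
    (hbin : ∀ p : ℕ, p.Prime → p ∈ π → ¬ p ∣ Nat.choose m b) : False := by
  rcases hb with hb | hb
  · have hb4 : b ≤ 4 := by
      by_contra hlt
      exact h5 (hb 5 (by norm_num) (by omega))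
    have : b = 1 ∨ b = 2 ∨ b = 3 ∨ b = 4 := by omega
    rcases this with rfl | rfl | rfl | rfl
    · have hm : m = 9 := by omega
      subst hm
      exact hbin 3 Nat.prime_three h3 (by decide)
    · have hm : m = 10 := by omega
      subst hm
      exact hbin 3 Nat.prime_three h3 (by decide)
    · have hm : m = 11 := by omega
      subst hm
      exact hbin 3 Nat.prime_three h3 (by decide)
    · have hm : m = 12 := by omega
      subst hm
      exact hbin 3 Nat.prime_three h3 (by decide)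
  · subst hb
    have hm : m = 16 := by omega
    subst hm
    exact hbin 2 Nat.prime_two h2 (by decide)

/-- The intransitive case when `2, 3 ∈ π`. -/
theorem main_intrans_B {m : ℕ} (ih : IHyp m) (hcard : Nat.card α = m) (hH : IsPiHall π H)
    (h1 : OneOut π m) (hntr : ¬ MulAction.IsPretransitive H α) (h2 : 2 ∈ π) (h3 : 3 ∈ π)
    (hm3 : 3 ≤ m) : StdCase π m ∨ Exc π m 7 := by
  classical
  have hne : Nonempty α := by
    rw [← Nat.card_pos_iff.trans ⟨fun h => h.1, fun h => ⟨h, inferInstance⟩⟩]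
    omega
  obtain ⟨x⟩ := hne
  obtain ⟨y, hy⟩ := main_orbit_ne_univ H hntr x
  have huniv := main_two_orbits π H ih hcard hH h2 h3 x y hy
  have hdisj := main_orbit_disjoint H x y hy
  set A := MulAction.orbit H x with hAdef
  have hcompl : Aᶜ = MulAction.orbit H y := by
    ext w
    constructor
    · intro hw
      have : w ∈ A ∪ MulAction.orbit H y := huniv ▸ Set.mem_univ w
      rcases this with h | h
      · exact absurd h hw
      · exact h
    · intro hw hwA
      exact (Set.disjoint_left.mp hdisj) hwA hw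
  have hAinv := main_orbit_inv H x
  have hBinv : ∀ g ∈ H, ∀ w ∈ Aᶜ, g w ∈ Aᶜ := by
    rw [hcompl]; exact main_orbit_inv H y
  have hBtr : MulAction.IsPretransitive (resSub H Aᶜ) ↥(Aᶜ) := by
    have : ∀ S : Set α, S = MulAction.orbit H y → MulAction.IsPretransitive (resSub H S) ↥S := by
      rintro S rfl
      exact resSub_orbit_pretransitive H y
    exact this _ hcompl
  have hAtr : MulAction.IsPretransitive (resSub H A) ↥A := resSub_orbit_pretransitive H x
  obtain ⟨-, -, hbin⟩ := hall_restrict π H hH A hAinv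
  rw [hcard] at hbin
  have hsum : Nat.card ↥A + Nat.card ↥(Aᶜ) = m := by
    rw [Nat.card_coe_set_eq, Nat.card_coe_set_eq, Set.ncard_add_ncard_compl, ← hcard]
  have hApos : 0 < Nat.card ↥A := main_card_pos A x (MulAction.mem_orbit_self x)
  have hBpos : 0 < Nat.card ↥(Aᶜ) := main_card_pos Aᶜ y (by rw [hcompl]; exact MulAction.mem_orbit_self y)
  have hAlt : Nat.card ↥A < m := by omega
  have hBlt : Nat.card ↥(Aᶜ) < m := by omega
  have tA := main_constituent π H ih hH h2 h3 A hAinv hAtr hAlt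
  have tB := main_constituent π H ih hH h2 h3 Aᶜ hBinv hBtr hBlt
  set j := Nat.card ↥A with hj
  set j' := Nat.card ↥(Aᶜ) with hj'
  have hbin' : ∀ p : ℕ, p.Prime → p ∈ π → ¬ p ∣ Nat.choose m j' := by
    intro p hp hpπ
    have : Nat.choose m j' = Nat.choose m j := by
      have hj'' : j' = m - j := by omega
      rw [hj'', Nat.choose_symm (by omega)]
    rw [this]
    exact hbin p hp hpπ
  rcases tA with fA | ⟨hA8, h5, -⟩
  · rcases tB with fB | ⟨hB8, h5, -⟩
    · rcases le_total j' j with hle | hle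
      · exact main_endgame_full π hsum hle hBpos h2 h3 fA h1 hbin'
      · exact main_endgame_full π (by omega) hle hApos h2 h3 fB h1 hbin
    · exfalso
      exact main_endgame_eight π (b := j) (by omega) hApos h2 h3 h5 (Or.inl fA) hbin
  · exfalso
    refine main_endgame_eight π (b := j') (by omega) hBpos h2 h3 h5 ?_ hbin'
    rcases tB with fB | ⟨hB8, -, -⟩
    · exact Or.inl fB
    · exact Or.inr hB8

end aux

/-- **Main theorem** (Hall / Thompson): Hall `π`-subgroups of symmetric groups in the non-trivial range. -/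
theorem main : ∀ (m : ℕ) (α : Type) [Fintype α] [DecidableEq α] (π : Set ℕ)
    (H : Subgroup (Equiv.Perm α)),
    Nat.card α = m → IsPiHall π H → TwoIn π m → OneOut π m →
    (¬ MulAction.IsPretransitive H α ∧ (StdCase π m ∨ Exc π m 7)) ∨
      (MulAction.IsPretransitive H α ∧ Exc π m 8) := by
  intro m
  induction m using Nat.strong_induction_on with
  | _ m ih =>
    intro α _ _ π H hcard hH h2 h1
    have ih' : IHyp m := fun k hk α _ _ π H => ih k hk α π H
    by_cases htr : MulAction.IsPretransitive H α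
    · exact Or.inr ⟨htr, main_trans π H ih' hcard hH h2 h1 htr⟩
    · refine Or.inl ⟨htr, ?_⟩
      by_cases h23 : 2 ∈ π ∧ 3 ∈ π
      · exact main_intrans_B π H ih' hcard hH h1 htr h23.1 h23.2 (main_three_le π h2)
      · exact (main_intrans_A π H ih' hcard hH h2 htr h23).elim

end Cfsg.Agent.Lib.Helper15.Hs
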