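import Cfsg.Agent.Lib.Helper25.Ind

set_option autoImplicit false

namespace Cfsg.Agent.Lib.Helper15

open Cfsg
open scoped ComplexConjugate

variable {G : Type*} [Group G] [Fintype G]

/-- `Ind(θ · Res χ) = Ind(θ) · χ` for a class function `χ`. -/
theorem indFun_mul_restrict (N : Subgroup G) (θ : N → ℂ) {χ : G → ℂ} (hχ : IsClassFunction G χ) :
    indFun N (fun n : N => θ n * χ n) = indFun N θ * χ := by
  funext g
  rw [Pi.mul_apply, Cfsg.Agent.Lib.Helper25.indFun_apply, Cfsg.Agent.Lib.Helper25.indFun_apply,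
    mul_assoc, Finset.sum_mul]
  congr 1
  refine Finset.sum_congr rfl (fun x _ => ?_)
  by_cases hx : x⁻¹ * g * x ∈ N
  · rw [Cfsg.Agent.Lib.Helper25.extendByZero_of_mem N _ hx,
      Cfsg.Agent.Lib.Helper25.extendByZero_of_mem N _ hx]
    have := hχ g x⁻¹
    rw [inv_inv] at this
    simp only [this]
  · rw [Cfsg.Agent.Lib.Helper25.extendByZero_of_not_mem N _ hx,
      Cfsg.Agent.Lib.Helper25.extendByZero_of_not_mem N _ hx, zero_mul]

/-- For `N` normal and `θ` invariant under `G`-conjugation, `(Ind θ)|_N = |G:N| θ`. -/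
theorem indFun_restrict_of_invariant (N : Subgroup G) [hN : N.Normal] (θ : N → ℂ)
    (hinv : ∀ (g : G) (n : N), θ ⟨g * n * g⁻¹, hN.conj_mem (n : G) n.2 g⟩ = θ n) (n : N) :
    indFun N θ (n : G) = (N.index : ℂ) * θ n := by
  rw [Cfsg.Agent.Lib.Helper25.indFun_apply]
  have h1 : ∀ x : G, extendByZero N θ (x⁻¹ * (n : G) * x) = θ n := by
    intro x
    have hx : x⁻¹ * (n : G) * x ∈ N := by
      have := hN.conj_mem (n : G) n.2 x⁻¹
      rwa [inv_inv] at this
    rw [Cfsg.Agent.Lib.Helper25.extendByZero_of_mem N _ hx]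
    have := hinv x⁻¹ n
    rw [← this]
    congr 1
    apply Subtype.ext
    simp
  simp only [h1, Finset.sum_const, Finset.card_univ, nsmul_eq_mul]
  have hNne : (Nat.card N : ℂ) ≠ 0 := by exact_mod_cast Nat.card_pos.ne'
  have hGN : (Fintype.card G : ℂ) = (Nat.card N : ℂ) * (N.index : ℂ) := by
    rw [← Nat.card_eq_fintype_card, ← Subgroup.card_mul_index N]
    push_cast
    rfl
  rw [hGN]
  field_simp

/-- For `N` normal and `θ` invariant, `[Ind θ, Ind θ] = |G:N| [θ, θ]`. -/
theorem classInner_indFun_self_of_invariant (N : Subgroup G) [hN : N.Normal] [Fintype N]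
    (θ : N → ℂ)
    (hinv : ∀ (g : G) (n : N), θ ⟨g * n * g⁻¹, hN.conj_mem (n : G) n.2 g⟩ = θ n) :
    classInner (indFun N θ) (indFun N θ) = (N.index : ℂ) * classInner θ θ := by
  rw [Cfsg.Agent.Lib.Helper25.frobenius_reciprocity N θ _
    (Cfsg.Agent.Lib.Helper25.indFun_isClassFunction N θ)]
  have : (fun h : N => indFun N θ (h : G)) = (N.index : ℂ) • θ := by
    funext n
    rw [indFun_restrict_of_invariant N θ hinv n]
    rfl
  rw [this, Cfsg.Agent.Lib.Helper25.classInner_smul_right]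
  simp

end Cfsg.Agent.Lib.Helper15
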