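import Mathlib
import Cfsg.Prelude.Def_Characters
import Cfsg.Agent.Lib.Helper15.IrrCrit
import Cfsg.Agent.Lib.Helper15.LinearChar
import Cfsg.Agent.Lib.Helper15.GlaubData
import Cfsg.Agent.Lib.Helper75.Twist
import Cfsg.Agent.Lib.Helper75.Clifford
import Cfsg.Agent.Lib.Helper3.CharOps
import Cfsg.Agent.Lib.Helper25.CharUtil
import Cfsg.Agent.S4448

set_option autoImplicit false
set_option linter.style.haveILetI false
set_option linter.unusedSectionVars false
open Cfsg
open scoped ComplexConjugate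

/-!
# Invariant constituents over an abelian section (coprime averaging)
-/

namespace Cfsg.Agent.Lib.Helper15

open Cfsg.Agent.Lib.Helper75

universe u

/-- Multiplying a fixed element by two products whose factors agree after multiplication. -/
theorem mul_prod_congr {M : Type*} [CommMonoid M] {ι : Type*} (s : Finset ι) (f : M)
    (a b : ι → M) (h : ∀ i ∈ s, f * a i = f * b i) :
    f * ∏ i ∈ s, a i = f * ∏ i ∈ s, b i := by
  classical
  induction s using Finset.induction_on with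
  | empty => simp
  | insert i s hi ih =>
    rw [Finset.prod_insert hi, Finset.prod_insert hi]
    have h1 := h i (Finset.mem_insert_self i s)
    have h2 := ih (fun j hj => h j (Finset.mem_insert_of_mem hj))
    calc f * (a i * ∏ j ∈ s, a j) = (f * a i) * ∏ j ∈ s, a j := by rw [mul_assoc]
      _ = (f * b i) * ∏ j ∈ s, a j := by rw [h1]
      _ = b i * (f * ∏ j ∈ s, a j) := by rw [mul_comm f (b i), mul_assoc]
      _ = b i * (f * ∏ j ∈ s, b j) := by rw [h2]
      _ = f * (b i * ∏ j ∈ s, b j) := by rw [← mul_assoc, mul_comm (b i) f, mul_assoc]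

theorem mul_pow_congr {M : Type*} [CommMonoid M] (f a b : M) (h : f * a = f * b) (w : ℕ) :
    f * a ^ w = f * b ^ w := by
  have := mul_prod_congr (Finset.range w) f (fun _ => a) (fun _ => b) (fun _ _ => h)
  simpa using this

/-- Two characters with a common irreducible constituent are not orthogonal. -/
theorem classInner_ne_zero_of_common {X : Type*} [Group X] [Fintype X] {a b σ : X → ℂ}
    (ha : IsCharacter X a) (hb : IsCharacter X b) (hσ : IsIrrCharacter X σ)
    (h1 : classInner a σ ≠ 0) (h2 : classInner b σ ≠ 0) : classInner a b ≠ 0 := by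
  classical
  have : Fintype (IrrCharacter X) := Fintype.ofFinite _
  obtain ⟨m, hm1, hm2⟩ := exists_nat_decomp ha
  obtain ⟨n, hn1, hn2⟩ := exists_nat_decomp hb
  have h3 : classInner a b = ((∑ ψ : IrrCharacter X, m ψ * n ψ : ℕ) : ℂ) := by
    conv_lhs => rw [hm2, hn2]
    rw [Cfsg.Agent.Lib.Helper3.classInner_sum_sum]
    push_cast
    apply Finset.sum_congr rfl
    intro ψ _
    rw [Complex.conj_natCast]
  rw [h3]
  have hmσ : m ⟨σ, hσ⟩ ≠ 0 := by
    intro h
    apply h1
    rw [hm1 ⟨σ, hσ⟩, h, Nat.cast_zero]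
  have hnσ : n ⟨σ, hσ⟩ ≠ 0 := by
    intro h
    apply h2
    rw [hn1 ⟨σ, hσ⟩, h, Nat.cast_zero]
  have h4 : 0 < ∑ ψ : IrrCharacter X, m ψ * n ψ := by
    apply Finset.sum_pos'
    · intro ψ _
      exact Nat.zero_le _
    · exact ⟨⟨σ, hσ⟩, Finset.mem_univ _, Nat.mul_pos (Nat.pos_of_ne_zero hmσ) (Nat.pos_of_ne_zero hnσ)⟩
  exact_mod_cast h4.ne'

section AbelianStep

variable {Γ : Type u} [Group Γ] [Fintype Γ]

theorem conjFun_mul_fun (K : Subgroup Γ) [hK : K.Normal] (s : Γ) (a b : K → ℂ) :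
    conjFun K s (a * b) = conjFun K s a * conjFun K s b := rfl

theorem conjFun_prod_fun (K : Subgroup Γ) [hK : K.Normal] (s : Γ) {ι : Type*} (t : Finset ι)
    (a : ι → K → ℂ) : conjFun K s (∏ i ∈ t, a i) = ∏ i ∈ t, conjFun K s (a i) := by
  funext k
  rw [conjFun_apply, Finset.prod_apply, Finset.prod_apply]
  rfl

theorem conjFun_pow_fun (K : Subgroup Γ) [hK : K.Normal] (s : Γ) (a : K → ℂ) (w : ℕ) :
    conjFun K s (a ^ w) = conjFun K s a ^ w := rfl

/-- The abelian step: over an invariant `δ ∈ Irr(D)` with `K / D` abelian there is an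
`S₁`-invariant irreducible character of `K`, provided `|S₁ : N|` is prime to `|K : D|`
(`N ≤ K` acts trivially). -/
theorem abelian_step (N D K S₁ : Subgroup Γ) [hN : N.Normal] [hD : D.Normal] [hK : K.Normal]
    [Fintype D] (hNK : N ≤ K) (hDK : D ≤ K) (hcomm : ⁅K, K⁆ ≤ D)
    (hcop : Nat.Coprime (N.relIndex S₁) (D.relIndex K))
    {δ : D → ℂ} (hδ : IsIrrCharacter D δ) (hδinv : ∀ s ∈ S₁, conjFun D s δ = δ) :
    ∃ κ : K → ℂ, IsIrrCharacter K κ ∧
      classInner (fun d : D => κ ⟨d, hDK d.2⟩) δ ≠ 0 ∧ ∀ s ∈ S₁, conjFun K s κ = κ := by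
  classical
  haveI : Fintype K := Fintype.ofFinite _
  haveI : Fintype (D.subgroupOf K) := Fintype.ofFinite _
  haveI hD'n : (D.subgroupOf K).Normal := hD.subgroupOf K
  haveI hN'n : (N.subgroupOf S₁).Normal := hN.subgroupOf S₁
  obtain ⟨κ₀, hκ₀, hκ₀δ⟩ := Cfsg.Agent.S4448.exists_over_sub hDK hδ
  have hresch : ∀ κ : K → ℂ, IsCharacter K κ → IsCharacter D (fun d : D => κ ⟨d, hDK d.2⟩) :=
    fun κ h => Cfsg.Agent.Lib.Helper25.IsCharacter.comp_hom (Subgroup.inclusion hDK) h
  have hover : ∀ s ∈ S₁, classInner (fun d : D => conjFun K s κ₀ ⟨d, hDK d.2⟩) δ ≠ 0 := by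
    intro s hs
    have h1 := classInner_conjFun D s (fun d : D => κ₀ ⟨d, hDK d.2⟩) δ
    rw [hδinv s hs] at h1
    have h2 : (fun d : D => conjFun K s κ₀ ⟨d, hDK d.2⟩)
        = conjFun D s (fun d : D => κ₀ ⟨d, hDK d.2⟩) := rfl
    rw [h2, h1]
    exact hκ₀δ
  have hab : ∀ x y : K, x * y * x⁻¹ * y⁻¹ ∈ D.subgroupOf K := by
    intro x y
    rw [Subgroup.mem_subgroupOf]
    apply hcomm
    have := Subgroup.commutator_mem_commutator x.2 y.2
    rw [commutatorElement_def] at this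
    simpa using this
  have htw : ∀ κ₁ : K → ℂ, IsIrrCharacter K κ₁ →
      classInner (fun d : D => κ₁ ⟨d, hDK d.2⟩) δ ≠ 0 →
      ∃ β : K → ℂ, IsCharacter K β ∧ β 1 = 1 ∧ (∀ k : K, (k : Γ) ∈ D → β k = 1) ∧
        κ₁ = κ₀ * β := by
    intro κ₁ h1 h2
    have hne : classInner (fun d : D => κ₁ ⟨d, hDK d.2⟩) (fun d : D => κ₀ ⟨d, hDK d.2⟩) ≠ 0 :=
      classInner_ne_zero_of_common
        (hresch κ₁ (Cfsg.Agent.Lib.Helper3.IsIrrCharacter.isCharacter h1))
        (hresch κ₀ (Cfsg.Agent.Lib.Helper3.IsIrrCharacter.isCharacter hκ₀)) hδ h2 hκ₀δ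
    have hne' : classInner (fun n : D.subgroupOf K => κ₁ n) (fun n : D.subgroupOf K => κ₀ n)
        ≠ 0 := by
      have := classInner_comp_equiv (Subgroup.subgroupOfEquivOfLe hDK)
        (fun d : D => κ₁ ⟨d, hDK d.2⟩) (fun d : D => κ₀ ⟨d, hDK d.2⟩)
      rw [← this] at hne
      exact hne
    obtain ⟨β, hβ, hβ1, hβD, hβeq⟩ := exists_linear_twist (D.subgroupOf K) hab h1 hκ₀ hne'
    exact ⟨β, Cfsg.Agent.Lib.Helper3.IsIrrCharacter.isCharacter hβ, hβ1,
      fun k hk => hβD k hk, hβeq⟩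
  -- the index set
  have hFQ : Fintype (↥S₁ ⧸ N.subgroupOf S₁) := Fintype.ofFinite _
  set rep : (↥S₁ ⧸ N.subgroupOf S₁) → S₁ := fun q => Quotient.out q with hrepdef
  have hrep : ∀ q : ↥S₁ ⧸ N.subgroupOf S₁, (QuotientGroup.mk (rep q) : ↥S₁ ⧸ N.subgroupOf S₁) = q :=
    fun q => QuotientGroup.out_eq' q
  -- dependence on cosets only
  have hcos : ∀ s s' : S₁, (QuotientGroup.mk s : ↥S₁ ⧸ N.subgroupOf S₁) = QuotientGroup.mk s' →
      ∀ κ : K → ℂ, IsIrrCharacter K κ → conjFun K (s' : Γ) κ = conjFun K (s : Γ) κ := by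
    intro s s' h κ hκ
    have h1 : (s : Γ)⁻¹ * (s' : Γ) ∈ N := by
      have := QuotientGroup.eq.1 h
      rw [Subgroup.mem_subgroupOf] at this
      simpa using this
    have h2 : (s' : Γ) = (s : Γ) * ((s : Γ)⁻¹ * (s' : Γ)) := by group
    rw [h2, ← conjFun_conjFun]
    exact conjFun_of_mem K (hNK h1) (Cfsg.Agent.Lib.Helper3.IsCharacter.isClassFunction
      (Cfsg.Agent.Lib.Helper3.IsIrrCharacter.isCharacter (conjFun_isIrrCharacter K _ hκ)))
  -- the cocycle
  choose lam hlam using fun q : ↥S₁ ⧸ N.subgroupOf S₁ =>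
    htw (conjFun K ((rep q : S₁) : Γ) κ₀) (conjFun_isIrrCharacter K _ hκ₀)
      (hover _ (rep q).2)
  have hdag : ∀ (t : S₁) (q : ↥S₁ ⧸ N.subgroupOf S₁),
      κ₀ * lam (q * QuotientGroup.mk t)
        = κ₀ * (lam (QuotientGroup.mk t) * conjFun K (t : Γ) (lam q)) := by
    intro t q
    have h1 : conjFun K (t : Γ) (conjFun K ((rep q : S₁) : Γ) κ₀)
        = κ₀ * lam (q * QuotientGroup.mk t) := by
      rw [conjFun_conjFun, ← (hlam (q * QuotientGroup.mk t)).2.2.2]
      have h2 : (QuotientGroup.mk (rep (q * QuotientGroup.mk t)) : ↥S₁ ⧸ N.subgroupOf S₁)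
          = QuotientGroup.mk (rep q * t) := by
        rw [hrep, QuotientGroup.mk_mul, hrep]
      have := hcos _ _ h2 κ₀ hκ₀
      rw [Subgroup.coe_mul] at this
      exact this
    have h3 : conjFun K (t : Γ) κ₀ = κ₀ * lam (QuotientGroup.mk t) := by
      rw [← (hlam (QuotientGroup.mk t)).2.2.2]
      exact (hcos _ _ (hrep (QuotientGroup.mk t)).symm κ₀ hκ₀).symm
    rw [← h1, (hlam q).2.2.2, conjFun_mul_fun, h3, mul_assoc]
  -- orders
  set e : ℕ := D.relIndex K with he
  set r : ℕ := N.relIndex S₁ with hr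
  have hcard : Fintype.card (↥S₁ ⧸ N.subgroupOf S₁) = r := by
    rw [← Nat.card_eq_fintype_card]
    rfl
  have hlin : ∀ q, IsCharacter K (lam q) ∧ lam q 1 = 1 := fun q => ⟨(hlam q).1, (hlam q).2.1⟩
  have hlame : ∀ q, lam q ^ e = 1 := by
    intro q
    funext k
    rw [Pi.pow_apply, Pi.one_apply]
    have h1 : lam q (k ^ e) = lam q k ^ e := by
      have := map_pow (linCharHom (hlin q)) k e
      simpa [linCharHom_apply] using this
    rw [← h1]
    apply (hlam q).2.2.1
    have := Subgroup.pow_index_mem (D.subgroupOf K) k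
    rw [Subgroup.mem_subgroupOf] at this
    exact this
  obtain ⟨w, hw⟩ : ∃ w : ℕ, ∀ q, lam q ^ (r * w) = lam q := by
    by_cases he1 : e = 1
    · refine ⟨0, fun q => ?_⟩
      have := hlame q
      rw [he1, pow_one] at this
      rw [mul_zero, pow_zero, this]
    · have he0 : e ≠ 0 := by
        rw [he]
        exact Subgroup.index_ne_zero_of_finite (H := D.subgroupOf K)
      have he2 : 1 < e := by omega
      obtain ⟨w, -, hw⟩ := Nat.exists_mul_mod_eq_one_of_coprime hcop he2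
      refine ⟨w, fun q => ?_⟩
      have h1 : r * w = e * (r * w / e) + 1 := by
        have := Nat.div_add_mod (r * w) e
        rw [hw] at this
        exact this.symm
      rw [h1, pow_succ, pow_mul, hlame q, one_pow, one_mul]
  -- the averaged character
  set μ : K → ℂ := ∏ q : ↥S₁ ⧸ N.subgroupOf S₁, lam q with hμ
  set Mhom : K →* ℂ := (∏ q : ↥S₁ ⧸ N.subgroupOf S₁, linCharHom (hlin q)) ^ w with hMhom
  have hMfun : μ ^ w = fun g => Mhom g := by
    funext g
    rw [hMhom, hμ, Pi.pow_apply, Finset.prod_apply, MonoidHom.pow_apply,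
      MonoidHom.finsetProd_apply]
    congr 1
  have hMchar := isCharacter_of_hom Mhom
  refine ⟨κ₀ * μ ^ w, ?_, ?_, ?_⟩
  · rw [hMfun]
    exact isIrrCharacter_mul_of_linear hMchar.1 hMchar.2 hκ₀
  · have h1 : (fun d : D => (κ₀ * μ ^ w) ⟨d, hDK d.2⟩) = fun d : D => κ₀ ⟨d, hDK d.2⟩ := by
      funext d
      have h2 : μ ⟨d, hDK d.2⟩ = 1 := by
        rw [hμ, Finset.prod_apply]
        apply Finset.prod_eq_one
        intro q _
        exact (hlam q).2.2.1 ⟨d, hDK d.2⟩ d.2
      rw [Pi.mul_apply, Pi.pow_apply, h2, one_pow, mul_one]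
    rw [h1]
    exact hκ₀δ
  · intro s hs
    set t : S₁ := ⟨s, hs⟩ with ht
    have hst : (t : Γ) = s := rfl
    have h1 : κ₀ * μ = κ₀ * (lam (QuotientGroup.mk t) ^ r * conjFun K s μ) := by
      have h2 : μ = ∏ q : ↥S₁ ⧸ N.subgroupOf S₁, lam (q * QuotientGroup.mk t) := by
        rw [hμ]
        exact (Fintype.prod_equiv (Equiv.mulRight (QuotientGroup.mk t : ↥S₁ ⧸ N.subgroupOf S₁))
          _ _ (fun q => rfl)).symm
      conv_lhs => rw [h2]
      rw [mul_prod_congr Finset.univ κ₀ _ _ (fun q _ => hdag t q), Finset.prod_mul_distrib,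
        Finset.prod_const, Finset.card_univ, hcard, hst, hμ, conjFun_prod_fun]
    have h3 := mul_pow_congr κ₀ μ _ h1 w
    rw [mul_pow, ← pow_mul, hw] at h3
    have h4 : conjFun K s κ₀ = κ₀ * lam (QuotientGroup.mk t) := by
      rw [← (hlam (QuotientGroup.mk t)).2.2.2]
      exact (hcos _ _ (hrep (QuotientGroup.mk t)).symm κ₀ hκ₀).symm
    rw [conjFun_mul_fun, conjFun_pow_fun, h4, h3, mul_assoc]

end AbelianStep

section Chain

variable {Γ : Type u} [Group Γ] [Fintype Γ]

/-- Climbing an abelian series: if every normal `X` strictly between `N` and `G` is not perfect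
modulo `N`, then an `S₁`-invariant `θ ∈ Irr(N)` lies under an `S₁`-invariant irreducible
character of `G`, provided `|S₁ : N|` is prime to `|G : N|`. -/
theorem exists_invariant_of_chain (N G S₁ : Subgroup Γ) [hN : N.Normal] [hG : G.Normal]
    [Fintype N] (hNG : N ≤ G)
    (hcop : Nat.Coprime (N.relIndex S₁) (N.relIndex G))
    (hsolv : ∀ X : Subgroup Γ, X.Normal → N ≤ X → X ≤ G → X ≠ N → N ⊔ ⁅X, X⁆ ≠ X)
    {θ : N → ℂ} (hθ : IsIrrCharacter N θ) (hinv : ∀ s ∈ S₁, conjFun N s θ = θ) :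
    ∃ χ : G → ℂ, IsIrrCharacter G χ ∧ classInner (fun n : N => χ ⟨n, hNG n.2⟩) θ ≠ 0 ∧
      ∀ s ∈ S₁, conjFun G s χ = χ := by
  classical
  have key : ∀ n : ℕ, ∀ (K : Subgroup Γ) [hK : K.Normal] (hNK : N ≤ K), K ≤ G → Nat.card K = n →
      ∃ κ : K → ℂ, IsIrrCharacter K κ ∧ classInner (fun n : N => κ ⟨n, hNK n.2⟩) θ ≠ 0 ∧
        ∀ s ∈ S₁, conjFun K s κ = κ := by
    intro n
    induction n using Nat.strong_induction_on with
    | _ n ih =>
      intro K hK hNK hKG hn
      by_cases hKN : K = N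
      · subst hKN
        refine ⟨θ, hθ, ?_, hinv⟩
        have : (fun n : K => θ ⟨n, hNK n.2⟩) = θ := rfl
        rw [this, Cfsg.Agent.Lib.Helper3.classInner_irr hθ hθ, if_pos rfl]
        exact one_ne_zero
      · set D : Subgroup Γ := N ⊔ ⁅K, K⁆ with hD
        haveI hDn : D.Normal := by
          rw [hD]
          infer_instance
        have hND : N ≤ D := le_sup_left
        have hDK : D ≤ K := sup_le hNK (Subgroup.commutator_le_self K)
        have hDne : D ≠ K := hsolv K hK hNK hKG hKN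
        have hlt : Nat.card D < n := by
          rw [← hn]
          exact Nat.lt_of_le_of_ne (Subgroup.card_le_of_le hDK)
            (fun h => hDne (Subgroup.eq_of_le_of_card_ge hDK h.ge))
        haveI : Fintype D := Fintype.ofFinite _
        haveI : Fintype K := Fintype.ofFinite _
        obtain ⟨δ, hδ, hδθ, hδinv⟩ := ih (Nat.card D) hlt D hND (hDK.trans hKG) rfl
        have hcop' : Nat.Coprime (N.relIndex S₁) (D.relIndex K) := by
          apply Nat.Coprime.coprime_dvd_right _ hcop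
          have h1 := Subgroup.relIndex_mul_relIndex N D K hND hDK
          have h2 := Subgroup.relIndex_mul_relIndex N K G hNK hKG
          rw [← h2, ← h1]
          exact Dvd.intro_left _ rfl |>.mul_right _
        obtain ⟨κ, hκ, hκδ, hκinv⟩ := abelian_step N D K S₁ hNK hDK le_sup_right hcop' hδ hδinv
        refine ⟨κ, hκ, ?_, hκinv⟩
        exact Cfsg.Agent.S4448.const_trans hND hDK
          (Cfsg.Agent.Lib.Helper3.IsIrrCharacter.isCharacter hκ) hδ hθ hκδ hδθ
  exact key (Nat.card G) G hNG le_rfl rfl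

/-- A complement modulo `N` for a normal Hall section `G / N`. -/
theorem exists_compl_mod (N G : Subgroup Γ) [hN : N.Normal] [hG : G.Normal] (hNG : N ≤ G)
    (hcop : (G.index).Coprime (N.relIndex G)) :
    ∃ S₁ : Subgroup Γ, S₁ ⊔ G = ⊤ ∧ N.relIndex S₁ = G.index := by
  set f : Γ →* Γ ⧸ N := QuotientGroup.mk' N with hf
  have hfs : Function.Surjective f := QuotientGroup.mk'_surjective N
  have hker : f.ker = N := QuotientGroup.ker_mk' N
  have hNbot : N = (⊥ : Subgroup (Γ ⧸ N)).comap f := by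
    rw [MonoidHom.comap_bot, hker]
  haveI : (G.map f).Normal := Subgroup.Normal.map hG f hfs
  have hcard : Nat.card (G.map f) = N.relIndex G := by
    conv_rhs => rw [hNbot]
    rw [Subgroup.relIndex_comap, Subgroup.relIndex_bot_left]
  have hidx : (G.map f).index = G.index :=
    Subgroup.index_map_eq G hfs (by rw [hker]; exact hNG)
  have hcop' : Nat.Coprime (Nat.card (G.map f)) (G.map f).index := by
    rw [hcard, hidx]
    exact hcop.symm
  obtain ⟨C, hC⟩ := Subgroup.exists_right_complement'_of_coprime hcop'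
  refine ⟨C.comap f, ?_, ?_⟩
  · have h1 : G = (G.map f).comap f :=
      (Subgroup.comap_map_eq_self (by rw [hker]; exact hNG)).symm
    conv_lhs => rw [h1]
    rw [Subgroup.comap_sup_eq f _ _ hfs, sup_comm, hC.sup_eq_top, Subgroup.comap_top]
  · have h2 : N.relIndex (C.comap f)
        = ((⊥ : Subgroup (Γ ⧸ N)).comap f).relIndex (C.comap f) := by
      rw [← hNbot]
    rw [h2, Subgroup.relIndex_comap, Subgroup.map_comap_eq_self_of_surjective hfs,
      Subgroup.relIndex_bot_left, ← hidx]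
    exact (hC.symm.index_eq_card).symm

/-- Invariance under `S₁` and under `G` gives invariance under `S₁ ⊔ G = ⊤`. -/
theorem invariant_of_sup_eq_top (G S₁ : Subgroup Γ) [hG : G.Normal] (hsup : S₁ ⊔ G = ⊤)
    {χ : G → ℂ} (hχ : IsClassFunction G χ) (h : ∀ s ∈ S₁, conjFun G s χ = χ) (x : Γ) :
    conjFun G x χ = χ := by
  have hx : x ∈ ((S₁ ⊔ G : Subgroup Γ) : Set Γ) := by rw [hsup]; trivial
  rw [Subgroup.mul_normal] at hx
  obtain ⟨s, hs, g, hg, rfl⟩ := Set.mem_mul.1 hx
  rw [← conjFun_conjFun, h s hs]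
  exact conjFun_of_mem G hg hχ

end Chain

section Solv

variable {Γ : Type u} [Group Γ]

/-- If `G / N` is solvable then no subgroup `X` strictly between `N` and `G` is perfect
modulo `N`. -/
theorem not_perfect_of_solvable (N G X : Subgroup Γ) [hN : N.Normal]
    (hsolv : Group.IsSolvable (↥G ⧸ N.subgroupOf G)) (hNX : N ≤ X) (hXG : X ≤ G) (hXN : X ≠ N) :
    N ⊔ ⁅X, X⁆ ≠ X := by
  intro h
  apply hXN
  apply le_antisymm _ hNX
  haveI hN' : (N.subgroupOf G).Normal := hN.subgroupOf G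
  set f : ↥G →* ↥G ⧸ N.subgroupOf G := QuotientGroup.mk' (N.subgroupOf G) with hf
  set Xb : Subgroup (↥G ⧸ N.subgroupOf G) := (X.subgroupOf G).map f with hXb
  have hclaim : Xb ≤ ⁅Xb, Xb⁆ := by
    set Y : Subgroup Γ := ((⁅Xb, Xb⁆).comap f).map G.subtype with hY
    have hXY : X ≤ Y := by
      rw [← h]
      apply sup_le
      · intro n hn
        rw [hY, Subgroup.mem_map]
        refine ⟨⟨n, (hNX.trans hXG) hn⟩, ?_, rfl⟩
        rw [Subgroup.mem_comap]
        have : f ⟨n, (hNX.trans hXG) hn⟩ = 1 := by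
          rw [hf, QuotientGroup.mk'_apply, QuotientGroup.eq_one_iff]
          exact hn
        rw [this]
        exact Subgroup.one_mem _
      · rw [Subgroup.commutator_le]
        intro a ha b hb
        rw [hY, Subgroup.mem_map]
        have ha' : f ⟨a, hXG ha⟩ ∈ Xb := Subgroup.mem_map.2 ⟨⟨a, hXG ha⟩, ha, rfl⟩
        have hb' : f ⟨b, hXG hb⟩ ∈ Xb := Subgroup.mem_map.2 ⟨⟨b, hXG hb⟩, hb, rfl⟩
        refine ⟨(⟨a, hXG ha⟩ : ↥G) * ⟨b, hXG hb⟩ * (⟨a, hXG ha⟩ : ↥G)⁻¹ * (⟨b, hXG hb⟩ : ↥G)⁻¹,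
          ?_, ?_⟩
        · rw [Subgroup.mem_comap]
          have h3 := Subgroup.commutator_mem_commutator ha' hb'
          rw [commutatorElement_def] at h3
          rw [map_mul, map_mul, map_mul, map_inv, map_inv]
          exact h3
        · rw [commutatorElement_def]
          rfl
    intro y hy
    obtain ⟨x', hx', rfl⟩ := Subgroup.mem_map.1 hy
    have h1 : (x' : Γ) ∈ Y := hXY hx'
    rw [hY, Subgroup.mem_map] at h1
    obtain ⟨y', hy', hyx⟩ := h1
    have : y' = x' := Subtype.ext hyx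
    rw [← this]
    exact hy'
  have hder : ∀ n : ℕ, Xb ≤ derivedSeries (↥G ⧸ N.subgroupOf G) n := by
    intro n
    induction n with
    | zero => exact le_top
    | succ n ih =>
      rw [derivedSeries_succ]
      exact hclaim.trans (Subgroup.commutator_mono ih ih)
  obtain ⟨n, hn⟩ := (Group.isSolvable_def _).1 hsolv
  have hbot : Xb ≤ ⊥ := hn ▸ hder n
  intro x hx
  have h1 : f ⟨x, hXG hx⟩ ∈ Xb := Subgroup.mem_map.2 ⟨⟨x, hXG hx⟩, hx, rfl⟩
  have h2 := Subgroup.mem_bot.1 (hbot h1)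
  rw [hf, QuotientGroup.mk'_apply, QuotientGroup.eq_one_iff] at h2
  exact h2

/-- Case `G / N` solvable of Isaacs 13.31. -/
theorem invariant_constituent_of_solvable_below [Fintype Γ] (G N : Subgroup Γ) [hG : G.Normal]
    [hN : N.Normal] [Fintype N] (hNG : N ≤ G) (hcop : (G.index).Coprime (N.relIndex G))
    (hsolv : Group.IsSolvable (↥G ⧸ N.subgroupOf G)) {θ : N → ℂ} (hθ : IsIrrCharacter N θ)
    (hinv : ∀ x : Γ, conjFun N x θ = θ) :
    ∃ χ : G → ℂ, IsIrrCharacter G χ ∧ classInner (fun n : N => χ ⟨n, hNG n.2⟩) θ ≠ 0 ∧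
      ∀ x : Γ, conjFun G x χ = χ := by
  obtain ⟨S₁, hS₁, hidx⟩ := exists_compl_mod N G hNG hcop
  have hcop' : Nat.Coprime (N.relIndex S₁) (N.relIndex G) := by
    rw [hidx]
    exact hcop
  obtain ⟨χ, hχ, hχθ, hχinv⟩ := exists_invariant_of_chain N G S₁ hNG hcop'
    (fun X _ hNX hXG hXN => not_perfect_of_solvable N G X hsolv hNX hXG hXN) hθ
    (fun s _ => hinv s)
  refine ⟨χ, hχ, hχθ, fun x => ?_⟩
  exact invariant_of_sup_eq_top G S₁ hS₁
    (Cfsg.Agent.Lib.Helper3.IsCharacter.isClassFunction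
      (Cfsg.Agent.Lib.Helper3.IsIrrCharacter.isCharacter hχ)) hχinv x

end Solv

end Cfsg.Agent.Lib.Helper15
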