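import Mathlib
import Cfsg.Prelude.Def_Characters
import Cfsg.Agent.Lib.Helper15.InvConst
import Cfsg.Agent.Lib.Helper81.FTLemma
import Cfsg.Agent.Lib.Helper25.CohAbelian
import Cfsg.Agent.S4449

set_option autoImplicit false
set_option linter.style.haveILetI false
set_option linter.unusedSectionVars false
open Cfsg
open scoped ComplexConjugate

/-!
# Invariant constituents over a central subgroup (Isaacs 13.31, central case)
-/

namespace Cfsg.Agent.Lib.Helper15

open Cfsg.Agent.Lib.Helper75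

universe u

section DirectProduct

variable {Γ : Type u} [Group Γ]

/-- A linear character is irreducible. -/
theorem isIrrCharacter_of_linear {X : Type u} [Group X] [Fintype X] {lam : X → ℂ}
    (h : IsCharacter X lam ∧ lam 1 = 1) : IsIrrCharacter X lam := by
  have h1 := isIrrCharacter_mul_of_linear h.1 h.2
    (Cfsg.Agent.Lib.Helper3.isIrrCharacter_one (G := X))
  have h2 : (fun _ : X => (1 : ℂ)) * lam = lam := by
    funext x
    rw [Pi.mul_apply, one_mul]
  rw [h2] at h1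
  exact h1

/-- Characters of an internal central product `G = A × K`. -/
theorem exists_irr_of_central_product (G A K : Subgroup Γ) [Fintype G]
    (hAG : A ≤ G) (hKG : K ≤ G)
    (hcomm : ∀ a ∈ A, ∀ k ∈ K, a * k = k * a) (hdisj : ∀ x, x ∈ A → x ∈ K → x = 1)
    (hgen : ∀ g ∈ G, ∃ a ∈ A, ∃ k ∈ K, g = a * k)
    {κ : K → ℂ} (hκ : IsIrrCharacter K κ) {ν : A → ℂ} (hν : IsCharacter A ν ∧ ν 1 = 1) :
    ∃ χ : G → ℂ, IsIrrCharacter G χ ∧
      ∀ (a : Γ) (ha : a ∈ A) (k : Γ) (hk : k ∈ K),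
        χ ⟨a * k, G.mul_mem (hAG ha) (hKG hk)⟩ = ν ⟨a, ha⟩ * κ ⟨k, hk⟩ := by
  classical
  have hc : ∀ (a : A) (k : K),
      Commute (Subgroup.inclusion hAG a) (Subgroup.inclusion hKG k) := by
    intro a k
    show _ * _ = _ * _
    apply Subtype.ext
    exact hcomm a a.2 k k.2
  set μ : A × K →* G :=
    MonoidHom.noncommCoprod (Subgroup.inclusion hAG) (Subgroup.inclusion hKG) hc with hμ
  have hμapp : ∀ (a : A) (k : K), ((μ (a, k) : G) : Γ) = a * k := by
    intro a k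
    rw [hμ, MonoidHom.noncommCoprod_apply]
    rfl
  have hbij : Function.Bijective μ := by
    constructor
    · rw [injective_iff_map_eq_one]
      rintro ⟨a, k⟩ h
      have h1 : (a : Γ) * k = 1 := by
        rw [← hμapp, h]
        rfl
      have h2 : (a : Γ) = (k : Γ)⁻¹ := eq_inv_of_mul_eq_one_left h1
      have ha1 : (a : Γ) = 1 := hdisj a a.2 (by rw [h2]; exact K.inv_mem k.2)
      have hk1 : (k : Γ) = 1 := by
        rw [ha1, one_mul] at h1
        exact h1
      exact Prod.ext (Subtype.ext ha1) (Subtype.ext hk1)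
    · intro g
      obtain ⟨a, ha, k, hk, hg⟩ := hgen g g.2
      exact ⟨(⟨a, ha⟩, ⟨k, hk⟩), Subtype.ext (by rw [hμapp]; exact hg.symm)⟩
  set e : A × K ≃* G := MulEquiv.ofBijective μ hbij with he
  have hesymm : ∀ (a : Γ) (ha : a ∈ A) (k : Γ) (hk : k ∈ K),
      e.symm ⟨a * k, G.mul_mem (hAG ha) (hKG hk)⟩ = (⟨a, ha⟩, ⟨k, hk⟩) := by
    intro a ha k hk
    rw [MulEquiv.symm_apply_eq]
    apply Subtype.ext
    rw [he, MulEquiv.ofBijective_apply, hμapp]
  set pK : G →* K := (MonoidHom.snd A K).comp e.symm.toMonoidHom with hpK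
  set pA : G →* A := (MonoidHom.fst A K).comp e.symm.toMonoidHom with hpA
  have hpKs : Function.Surjective pK := by
    intro k
    refine ⟨e (1, k), ?_⟩
    rw [hpK]
    simp
  have h1 : IsIrrCharacter G (fun g => κ (pK g)) :=
    Cfsg.Agent.Lib.Helper79.isIrrCharacter_comp_surjective hκ pK hpKs
  have h2 : IsCharacter G (fun g => ν (pA g)) :=
    Cfsg.Agent.Lib.Helper25.IsCharacter.comp_hom pA hν.1
  have h3 : (fun g => ν (pA g)) 1 = 1 := by
    show ν (pA 1) = 1
    rw [map_one]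
    exact hν.2
  refine ⟨(fun g => κ (pK g)) * (fun g => ν (pA g)), isIrrCharacter_mul_of_linear h2 h3 h1, ?_⟩
  intro a ha k hk
  rw [Pi.mul_apply]
  show κ (pK _) * ν (pA _) = _
  have e1 : pK ⟨a * k, G.mul_mem (hAG ha) (hKG hk)⟩ = ⟨k, hk⟩ := by
    rw [hpK, MonoidHom.comp_apply, MulEquiv.coe_toMonoidHom, hesymm a ha k hk]
    rfl
  have e2 : pA ⟨a * k, G.mul_mem (hAG ha) (hKG hk)⟩ = ⟨a, ha⟩ := by
    rw [hpA, MonoidHom.comp_apply, MulEquiv.coe_toMonoidHom, hesymm a ha k hk]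
    rfl
  rw [e1, e2, mul_comm]

end DirectProduct

section CentralChar

/-- An irreducible character restricted to a central subgroup is a multiple of any linear
constituent. -/
theorem central_char_of_constituent {Γ : Type u} [Group Γ] (K Z : Subgroup Γ) [Fintype K]
    [Fintype Z] (hZK : Z ≤ K) (hZc : ∀ z ∈ Z, ∀ k ∈ K, z * k = k * z)
    {κ : K → ℂ} (hκ : IsIrrCharacter K κ)
    {lam : Z → ℂ} (hlam : IsIrrCharacter Z lam)
    (hne : classInner (fun z : Z => κ ⟨z, hZK z.2⟩) lam ≠ 0) (z : Z) :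
    κ ⟨z, hZK z.2⟩ = κ 1 * lam z := by
  classical
  obtain ⟨n, hn, hκ1⟩ := Cfsg.Agent.Lib.Helper25.irr_degree hκ
  have hκ0 : κ 1 ≠ 0 := by
    rw [hκ1]
    exact_mod_cast hn.ne'
  have hcen : ∀ a : Z, (⟨a, hZK a.2⟩ : K) ∈ Subgroup.center K := by
    intro a
    rw [Subgroup.mem_center_iff]
    intro g
    apply Subtype.ext
    exact (hZc a a.2 g g.2).symm
  let f : Z →* ℂ :=
    { toFun := fun z => κ ⟨z, hZK z.2⟩ / κ 1
      map_one' := div_self hκ0
      map_mul' := by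
        intro a b
        have h := Cfsg.Agent.Lib.Helper81.irr_center_mul hκ (hcen a) (⟨b, hZK b.2⟩ : K)
        show κ (⟨a, hZK a.2⟩ * ⟨b, hZK b.2⟩) / κ 1
          = κ ⟨a, hZK a.2⟩ / κ 1 * (κ ⟨b, hZK b.2⟩ / κ 1)
        field_simp
        exact h }
  have hf := isCharacter_of_hom f
  have hfirr : IsIrrCharacter Z (fun z => f z) := isIrrCharacter_of_linear hf
  have hfapp : ∀ z : Z, f z = κ ⟨z, hZK z.2⟩ / κ 1 := fun z => rfl
  have h1 : (fun z : Z => κ ⟨z, hZK z.2⟩) = κ 1 • (fun z => f z) := by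
    funext z
    rw [Pi.smul_apply, smul_eq_mul, hfapp, mul_div_cancel₀ _ hκ0]
  rw [h1, Cfsg.Agent.Lib.Helper25.classInner_smul_left,
    Cfsg.Agent.Lib.Helper3.classInner_irr hfirr hlam] at hne
  have h2 : (fun z => f z) = lam := by
    by_contra hcon
    rw [if_neg hcon, mul_zero] at hne
    exact hne rfl
  have h3 := congrFun h1 z
  rw [h2] at h3
  exact h3

end CentralChar

section HallPart

variable {Γ : Type u} [Group Γ]

/-- The elements of a central subgroup `N` of order prime to `m`. -/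
def coprimePart (N : Subgroup Γ) (hNZ : N ≤ Subgroup.center Γ) (m : ℕ) : Subgroup Γ where
  carrier := {n | n ∈ N ∧ (orderOf n).Coprime m}
  one_mem' := ⟨N.one_mem, by rw [orderOf_one]; exact Nat.coprime_one_left m⟩
  mul_mem' := by
    rintro a b ⟨ha, hca⟩ ⟨hb, hcb⟩
    refine ⟨N.mul_mem ha hb, ?_⟩
    have hcomm : Commute a b := (Subgroup.mem_center_iff.1 (hNZ ha) b).symm
    exact Nat.Coprime.coprime_dvd_left
      (hcomm.orderOf_mul_dvd_lcm.trans (Nat.lcm_dvd_mul _ _)) (Nat.Coprime.mul_left hca hcb)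
  inv_mem' := by
    rintro a ⟨ha, hca⟩
    exact ⟨N.inv_mem ha, by rw [orderOf_inv]; exact hca⟩

theorem mem_coprimePart {N : Subgroup Γ} {hNZ : N ≤ Subgroup.center Γ} {m : ℕ} {x : Γ} :
    x ∈ coprimePart N hNZ m ↔ x ∈ N ∧ (orderOf x).Coprime m := Iff.rfl

theorem coprimePart_le (N : Subgroup Γ) (hNZ : N ≤ Subgroup.center Γ) (m : ℕ) :
    coprimePart N hNZ m ≤ N := fun _ hx => hx.1

variable [Finite Γ]

theorem coprime_card_coprimePart (N : Subgroup Γ) (hNZ : N ≤ Subgroup.center Γ) (m : ℕ) :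
    (Nat.card (coprimePart N hNZ m)).Coprime m := by
  apply Nat.coprime_of_dvd
  intro p hp hpA hpm
  haveI : Fact p.Prime := ⟨hp⟩
  obtain ⟨x, hx⟩ := exists_prime_orderOf_dvd_card' p hpA
  have h1 : orderOf (x : Γ) = p := by rw [Subgroup.orderOf_coe, hx]
  have h2 := x.2.2
  rw [h1] at h2
  exact (Nat.Prime.coprime_iff_not_dvd hp).1 h2 hpm

theorem prime_dvd_of_dvd_relIndex_coprimePart (N : Subgroup Γ) (hNZ : N ≤ Subgroup.center Γ)
    (m : ℕ) {p : ℕ} (hp : p.Prime) (hdvd : p ∣ (coprimePart N hNZ m).relIndex N) : p ∣ m := by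
  by_contra hpm
  haveI : Fact p.Prime := ⟨hp⟩
  set A := coprimePart N hNZ m with hA
  haveI hAn : (A.subgroupOf N).Normal := by
    constructor
    intro n hn g
    have h1 : ((g * n * g⁻¹ : N) : Γ) = (n : Γ) := by
      have hc := Subgroup.mem_center_iff.1 (hNZ n.2) (g : Γ)
      rw [Subgroup.coe_mul, Subgroup.coe_mul, Subgroup.coe_inv, hc, mul_inv_cancel_right]
    rw [Subgroup.mem_subgroupOf, h1]
    exact hn
  have hcard : Nat.card (↥N ⧸ A.subgroupOf N) = A.relIndex N := rfl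
  rw [← hcard] at hdvd
  obtain ⟨xb, hxb⟩ := exists_prime_orderOf_dvd_card' p hdvd
  obtain ⟨x, rfl⟩ := QuotientGroup.mk_surjective xb
  have h1 : ((x ^ p : N) : ↥N ⧸ A.subgroupOf N) = 1 := by
    rw [QuotientGroup.mk_pow, ← hxb, pow_orderOf_eq_one]
  rw [QuotientGroup.eq_one_iff, Subgroup.mem_subgroupOf] at h1
  have h2 : (orderOf ((x : Γ) ^ p)).Coprime m := by
    have := h1.2
    rwa [Subgroup.coe_pow] at this
  have h3 : orderOf (x : Γ) ∣ p * orderOf ((x : Γ) ^ p) := by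
    apply orderOf_dvd_of_pow_eq_one
    rw [pow_mul, pow_orderOf_eq_one]
  have h4 : (orderOf (x : Γ)).Coprime m :=
    Nat.Coprime.coprime_dvd_left h3
      (Nat.Coprime.mul_left ((Nat.Prime.coprime_iff_not_dvd hp).2 hpm) h2)
  have h5 : (x : ↥N ⧸ A.subgroupOf N) = 1 := by
    rw [QuotientGroup.eq_one_iff, Subgroup.mem_subgroupOf]
    exact ⟨x.2, h4⟩
  rw [h5, orderOf_one] at hxb
  exact hp.one_lt.ne hxb

theorem coprime_relIndex_coprimePart (N : Subgroup Γ) (hNZ : N ≤ Subgroup.center Γ)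
    (m : ℕ) {j : ℕ} (hj : j.Coprime m) : j.Coprime ((coprimePart N hNZ m).relIndex N) := by
  apply Nat.coprime_of_dvd
  intro p hp hpj hpr
  have hpm := prime_dvd_of_dvd_relIndex_coprimePart N hNZ m hp hpr
  have := Nat.dvd_gcd hpj hpm
  rw [hj] at this
  exact hp.one_lt.ne' (Nat.dvd_one.1 this)

end HallPart

section CentralCase

variable {Γ : Type u} [Group Γ] [Fintype Γ]

/-- Isaacs 13.31 for a central subgroup `N`, with `Γ / G` solvable. -/
theorem invariant_constituent_central (G N : Subgroup Γ) [hG : G.Normal]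
    [Fintype N] (hNG : N ≤ G) (hNZ : N ≤ Subgroup.center Γ)
    (hcop : (G.index).Coprime (N.relIndex G)) (hsolv : Group.IsSolvable (Γ ⧸ G))
    {θ : N → ℂ} (hθ : IsIrrCharacter N θ) :
    ∃ χ : G → ℂ, IsIrrCharacter G χ ∧ classInner (fun n : N => χ ⟨n, hNG n.2⟩) θ ≠ 0 ∧
      ∀ x : Γ, Helper75.conjFun G x χ = χ := by
  classical
  haveI : Fintype G := Fintype.ofFinite _
  set m := N.relIndex G with hm
  set A := coprimePart N hNZ m with hA
  have hAN : A ≤ N := coprimePart_le N hNZ m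
  have hAG : A ≤ G := hAN.trans hNG
  have hAZ : A ≤ Subgroup.center Γ := hAN.trans hNZ
  set b := A.relIndex G with hb
  have hbmul : A.relIndex N * m = b := Subgroup.relIndex_mul_relIndex A N G hAN hNG
  have hAm : (Nat.card A).Coprime m := coprime_card_coprimePart N hNZ m
  have hAb : (Nat.card A).Coprime b := by
    rw [← hbmul]
    exact Nat.Coprime.mul_right (coprime_relIndex_coprimePart N hNZ m hAm) hAm
  have hjb : (G.index).Coprime b := by
    rw [← hbmul]
    exact Nat.Coprime.mul_right (coprime_relIndex_coprimePart N hNZ m hcop) hcop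
  have hcommA : ∀ a ∈ A, ∀ k : Γ, a * k = k * a :=
    fun a ha k => (Subgroup.mem_center_iff.1 (hAZ ha) k).symm
  -- Schur–Zassenhaus inside `G`
  haveI hA'n : (A.subgroupOf G).Normal := by
    constructor
    intro n hn g
    have h1 : ((g * n * g⁻¹ : G) : Γ) = (n : Γ) := by
      rw [Subgroup.coe_mul, Subgroup.coe_mul, Subgroup.coe_inv,
        ← hcommA n (Subgroup.mem_subgroupOf.1 hn) g, mul_inv_cancel_right]
    rw [Subgroup.mem_subgroupOf, h1]
    exact hn
  have hcardA' : Nat.card (A.subgroupOf G) = Nat.card A :=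
    Nat.card_congr (Subgroup.subgroupOfEquivOfLe hAG).toEquiv
  have hidxA' : (A.subgroupOf G).index = b := rfl
  have hSZ : (Nat.card (A.subgroupOf G)).Coprime (A.subgroupOf G).index := by
    rw [hcardA', hidxA']
    exact hAb
  obtain ⟨K₀, hK₀⟩ := Subgroup.exists_right_complement'_of_coprime hSZ
  set K : Subgroup Γ := K₀.map G.subtype with hK
  have hKG : K ≤ G := by
    rw [hK]
    exact Subgroup.map_subtype_le K₀
  have hmemK : ∀ x : Γ, x ∈ K ↔ ∃ h : x ∈ G, (⟨x, h⟩ : G) ∈ K₀ := by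
    intro x
    rw [hK, Subgroup.mem_map]
    constructor
    · rintro ⟨y, hy, rfl⟩
      exact ⟨y.2, hy⟩
    · rintro ⟨h, hx⟩
      exact ⟨⟨x, h⟩, hx, rfl⟩
  have hcardK₀ : Nat.card K₀ = b := hK₀.symm.index_eq_card.symm
  have hcardK : Nat.card K = b := by
    rw [← hcardK₀]
    exact (Nat.card_congr (K₀.equivMapOfInjective G.subtype G.subtype_injective).toEquiv).symm
  have hdisj : ∀ x, x ∈ A → x ∈ K → x = 1 := by
    intro x hxA hxK
    obtain ⟨hxG, hxK₀⟩ := (hmemK x).1 hxK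
    have h1 : (⟨x, hxG⟩ : G) ∈ A.subgroupOf G ⊓ K₀ :=
      ⟨Subgroup.mem_subgroupOf.2 hxA, hxK₀⟩
    rw [hK₀.isCompl.inf_eq_bot, Subgroup.mem_bot] at h1
    exact congrArg Subtype.val h1
  have hgen : ∀ g ∈ G, ∃ a ∈ A, ∃ k ∈ K, g = a * k := by
    intro g hg
    obtain ⟨⟨a, k⟩, hak⟩ := hK₀.2 ⟨g, hg⟩
    refine ⟨((a : G) : Γ), Subgroup.mem_subgroupOf.1 a.2, ((k : G) : Γ),
      (hmemK _).2 ⟨(k : G).2, k.2⟩, ?_⟩
    have := congrArg Subtype.val hak
    simpa using this.symm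
  have hKpow : ∀ k ∈ K, k ^ b = 1 := by
    intro k hk
    have h1 : (⟨k, hk⟩ : K) ^ Nat.card K = 1 := pow_card_eq_one'
    rw [hcardK] at h1
    have := congrArg Subtype.val h1
    simpa using this
  have hKchar : ∀ x : Γ, x ∈ K ↔ x ∈ G ∧ x ^ b = 1 := by
    intro x
    constructor
    · intro hx
      exact ⟨hKG hx, hKpow x hx⟩
    · rintro ⟨hxG, hxb⟩
      obtain ⟨a, ha, k, hk, rfl⟩ := hgen x hxG
      have h1 : (a * k) ^ b = a ^ b * k ^ b :=
        (show Commute a k from hcommA a ha k).mul_pow b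
      rw [h1, hKpow k hk, mul_one] at hxb
      have h3 : orderOf a ∣ b := orderOf_dvd_of_pow_eq_one hxb
      have h4 : orderOf a ∣ Nat.card A := by
        have := orderOf_dvd_natCard (⟨a, ha⟩ : A)
        rwa [← Subgroup.orderOf_coe] at this
      have h5 := Nat.dvd_gcd h4 h3
      rw [Nat.Coprime.gcd_eq_one hAb] at h5
      have h6 : a = 1 := orderOf_eq_one_iff.1 (Nat.dvd_one.1 h5)
      rw [h6, one_mul]
      exact hk
  haveI hKn : K.Normal := by
    constructor
    intro k hk x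
    rw [hKchar] at hk ⊢
    refine ⟨hG.conj_mem k hk.1 x, ?_⟩
    rw [conj_pow, hk.2, mul_one, mul_inv_cancel]
  -- Schur–Zassenhaus in `Γ`
  have hb0 : 0 < b := by
    rw [← hcardK]
    exact Nat.card_pos
  have hKidx : K.index = G.index * Nat.card A := by
    have e1 := Subgroup.card_mul_index K
    have e2 := Subgroup.card_mul_index G
    have e3 := Subgroup.card_mul_index (A.subgroupOf G)
    rw [hcardA', hidxA'] at e3
    rw [hcardK] at e1
    have h1 : K.index * b = G.index * Nat.card A * b := by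
      rw [mul_comm K.index b, e1, ← e2, ← e3]
      ring
    exact Nat.eq_of_mul_eq_mul_right hb0 h1
  have hSZ2 : (Nat.card K).Coprime K.index := by
    rw [hcardK, hKidx]
    exact Nat.Coprime.mul_right hjb.symm hAb.symm
  obtain ⟨S, hS⟩ := Subgroup.exists_right_complement'_of_coprime hSZ2
  have hcopKS : (Nat.card K).Coprime (Nat.card S) := by
    rw [← hS.symm.index_eq_card]
    exact hSZ2
  have hKS : ∀ x, x ∈ K → x ∈ S → x = 1 := by
    intro x hxK hxS
    have h1 : x ∈ K ⊓ S := ⟨hxK, hxS⟩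
    rw [hS.isCompl.inf_eq_bot, Subgroup.mem_bot] at h1
    exact h1
  -- `S` is solvable
  have hSsolv : Group.IsSolvable S := by
    haveI : Group.IsSolvable (G.subgroupOf S) := by
      apply Group.isSolvable_of_comm
      intro s t
      apply Subtype.ext
      apply Subtype.ext
      have hsG : ((s : S) : Γ) ∈ G := Subgroup.mem_subgroupOf.1 s.2
      obtain ⟨a₁, ha₁, k₁, hk₁, hs⟩ := hgen _ hsG
      set s' : Γ := ((s : S) : Γ) with hs'
      set t' : Γ := ((t : S) : Γ) with ht'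
      have hc : s' * t' * s'⁻¹ * t'⁻¹ = k₁ * (t' * k₁⁻¹ * t'⁻¹) := by
        rw [hs]
        calc a₁ * k₁ * t' * (a₁ * k₁)⁻¹ * t'⁻¹
            = a₁ * (k₁ * t' * k₁⁻¹) * a₁⁻¹ * t'⁻¹ := by group
          _ = (k₁ * t' * k₁⁻¹) * a₁ * a₁⁻¹ * t'⁻¹ := by rw [hcommA a₁ ha₁ (k₁ * t' * k₁⁻¹)]
          _ = k₁ * (t' * k₁⁻¹ * t'⁻¹) := by group
      have hcK : s' * t' * s'⁻¹ * t'⁻¹ ∈ K := by
        rw [hc]
        exact K.mul_mem hk₁ (hKn.conj_mem _ (K.inv_mem hk₁) t')
      have hcS : s' * t' * s'⁻¹ * t'⁻¹ ∈ S :=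
        S.mul_mem (S.mul_mem (S.mul_mem (s : S).2 (t : S).2) (S.inv_mem (s : S).2))
          (S.inv_mem (t : S).2)
      have h1 := hKS _ hcK hcS
      rw [mul_inv_eq_one, mul_inv_eq_iff_eq_mul] at h1
      exact h1
    let gq : S →* Γ ⧸ G := (QuotientGroup.mk' G).comp S.subtype
    refine Group.isSolvable_of_ker_le_range (G.subgroupOf S).subtype gq ?_
    intro s hs
    rw [Subgroup.range_subtype]
    rw [MonoidHom.mem_ker] at hs
    have : ((s : Γ) : Γ ⧸ G) = 1 := hs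
    rw [QuotientGroup.eq_one_iff] at this
    exact Subgroup.mem_subgroupOf.2 this
  -- apply the coprime action theorem
  haveI : Fintype K := Fintype.ofFinite _
  set Z : Subgroup Γ := N ⊓ K with hZ
  haveI : Fintype Z := Fintype.ofFinite _
  have hZK : Z ≤ K := inf_le_right
  have hZN : Z ≤ N := inf_le_left
  have hcommN : ∀ n ∈ N, ∀ k : Γ, n * k = k * n :=
    fun n hn k => (Subgroup.mem_center_iff.1 (hNZ hn) k).symm
  have hθ1 : θ 1 = 1 := by
    apply Cfsg.Agent.Lib.Helper25.degree_one_of_commutators hθ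
    intro g k
    have : g * k * g⁻¹ * k⁻¹ = 1 := by
      apply Subtype.ext
      rw [Subgroup.coe_mul, Subgroup.coe_mul, Subgroup.coe_mul, Subgroup.coe_inv,
        Subgroup.coe_inv, hcommN g g.2 k, mul_inv_cancel_right, Subgroup.coe_one,
        mul_inv_cancel]
    rw [this]
  have hθlin : IsCharacter N θ ∧ θ 1 = 1 :=
    ⟨Cfsg.Agent.Lib.Helper3.IsIrrCharacter.isCharacter hθ, hθ1⟩
  set θ' : Z → ℂ := fun z => θ ⟨z, hZN z.2⟩ with hθ'
  have hθ'lin : IsCharacter Z θ' ∧ θ' 1 = 1 :=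
    ⟨Cfsg.Agent.Lib.Helper25.IsCharacter.comp_hom (Subgroup.inclusion hZN) hθlin.1, hθ1⟩
  have hθ'irr : IsIrrCharacter Z θ' := isIrrCharacter_of_linear hθ'lin
  have hconjZ : ∀ x : Γ, ∀ n ∈ Z, x * n * x⁻¹ = n := by
    intro x n hn
    rw [← hcommN n (hZN hn) x, mul_inv_cancel_right]
  obtain ⟨κ', hκ'θ, hκ'inv⟩ := Cfsg.Agent.S4449.result K S Z
    (fun s _ g hg => hKn.conj_mem g hg s) hZK
    (fun g _ n hn => by rw [hconjZ g n hn]; exact hn)
    (fun s _ n hn => by rw [hconjZ s n hn]; exact hn) hcopKS hSsolv ⟨θ', hθ'irr⟩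
    (by
      intro s _ g g' hgg
      have : g' = g := Subtype.ext (by rw [hgg, hconjZ s g g.2])
      rw [this])
  set κ : K → ℂ := (κ' : K → ℂ) with hκdef
  have hκ : IsIrrCharacter K κ := κ'.2
  have hκS : ∀ s ∈ S, Helper75.conjFun K s κ = κ := by
    intro s hs
    funext k
    rw [conjFun_apply]
    exact hκ'inv s hs k ⟨s * k * s⁻¹, hKn.conj_mem k k.2 s⟩ rfl
  have hκinv : ∀ x : Γ, Helper75.conjFun K x κ = κ := by
    intro x
    refine invariant_of_sup_eq_top K S ?_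
      (Cfsg.Agent.Lib.Helper3.IsCharacter.isClassFunction
        (Cfsg.Agent.Lib.Helper3.IsIrrCharacter.isCharacter hκ)) hκS x
    rw [sup_comm]
    exact hS.sup_eq_top
  -- the character of `G`
  set ν : A → ℂ := fun a => θ ⟨a, hAN a.2⟩ with hν
  have hνlin : IsCharacter A ν ∧ ν 1 = 1 :=
    ⟨Cfsg.Agent.Lib.Helper25.IsCharacter.comp_hom (Subgroup.inclusion hAN) hθlin.1, hθ1⟩
  obtain ⟨χ, hχ, hχform⟩ := exists_irr_of_central_product G A K hAG hKG
    (fun a ha k _ => hcommA a ha k) hdisj hgen hκ hνlin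
  obtain ⟨d, hd, hκ1⟩ := Cfsg.Agent.Lib.Helper25.irr_degree hκ
  have hκ0 : κ 1 ≠ 0 := by
    rw [hκ1]
    exact_mod_cast hd.ne'
  have hκZ := central_char_of_constituent K Z hZK
    (fun z hz k _ => hcommN z (hZN hz) k) hκ hθ'irr hκ'θ
  refine ⟨χ, hχ, ?_, ?_⟩
  · have h1 : (fun n : N => χ ⟨n, hNG n.2⟩) = κ 1 • θ := by
      funext n
      obtain ⟨a, ha, k, hk, hn⟩ := hgen n (hNG n.2)
      have hkN : k ∈ N := by
        have : k = a⁻¹ * n := by rw [hn, inv_mul_cancel_left]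
        rw [this]
        exact N.mul_mem (N.inv_mem (hAN ha)) n.2
      have hkZ : k ∈ Z := ⟨hkN, hk⟩
      have e1 : (⟨n, hNG n.2⟩ : G) = ⟨a * k, G.mul_mem (hAG ha) (hKG hk)⟩ := Subtype.ext hn
      have e2 : n = (⟨a, hAN ha⟩ : N) * ⟨k, hkN⟩ := Subtype.ext hn
      rw [e1, hχform a ha k hk, Pi.smul_apply, smul_eq_mul]
      have e3 := hκZ ⟨k, hkZ⟩
      rw [e3]
      conv_rhs => rw [e2, linChar_mul hθlin]
      ring
    rw [h1, Cfsg.Agent.Lib.Helper25.classInner_smul_left,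
      Cfsg.Agent.Lib.Helper3.classInner_irr hθ hθ, if_pos rfl, mul_one]
    exact hκ0
  · intro x
    funext g
    rw [conjFun_apply]
    obtain ⟨a, ha, k, hk, hg⟩ := hgen g g.2
    have hxk : x * k * x⁻¹ ∈ K := hKn.conj_mem k hk x
    have e1 : (⟨x * g * x⁻¹, hG.conj_mem g g.2 x⟩ : G)
        = ⟨a * (x * k * x⁻¹), G.mul_mem (hAG ha) (hKG hxk)⟩ := by
      apply Subtype.ext
      show x * (g : Γ) * x⁻¹ = a * (x * k * x⁻¹)
      rw [hg, ← mul_assoc x a k, ← hcommA a ha x]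
      simp only [mul_assoc]
    have e2 : g = ⟨a * k, G.mul_mem (hAG ha) (hKG hk)⟩ := Subtype.ext hg
    rw [e1, hχform a ha _ hxk]
    conv_rhs => rw [e2, hχform a ha k hk]
    have e3 := congrFun (hκinv x) ⟨k, hk⟩
    rw [conjFun_apply] at e3
    rw [e3]

end CentralCase

end Cfsg.Agent.Lib.Helper15
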