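import Mathlib
import Cfsg.Prelude.Def_Characters
import Cfsg.Agent.Lib.Helper15.InvCentral
import Cfsg.Agent.Lib.Helper15.FiniteCover
import Cfsg.Agent.Lib.Helper79.Ito

set_option autoImplicit false
set_option linter.style.haveILetI false
set_option linter.unusedSectionVars false
open Cfsg
open scoped ComplexConjugate

/-!
# Isaacs 13.31, the case `Γ / G` solvable: reduction to a central subgroup through a finite cover
-/

namespace Cfsg.Agent.Lib.Helper15

universe u

section QuotTransport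

variable {E Γ : Type*} [Group E] [Group Γ] (π : E →* Γ) (hπ : Function.Surjective π)
  (M : Subgroup E) [hM : M.Normal] (G N : Subgroup Γ)

theorem qt_normal [hG : G.Normal] : ((G.comap π).map (QuotientGroup.mk' M)).Normal :=
  Subgroup.Normal.map (hG.comap π) _ (QuotientGroup.mk'_surjective M)

include hπ in
theorem qt_index (hMG : M ≤ G.comap π) :
    ((G.comap π).map (QuotientGroup.mk' M)).index = G.index := by
  rw [Subgroup.index_map_eq _ (QuotientGroup.mk'_surjective M)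
    (by rw [QuotientGroup.ker_mk']; exact hMG), Subgroup.index_comap_of_surjective _ hπ]

include hπ in
theorem qt_relIndex (hMN : M ≤ N.comap π) :
    ((N.comap π).map (QuotientGroup.mk' M)).relIndex ((G.comap π).map (QuotientGroup.mk' M))
      = N.relIndex G := by
  rw [← Subgroup.relIndex_comap, Subgroup.comap_map_eq_self
    (by rw [QuotientGroup.ker_mk']; exact hMN), Subgroup.relIndex_comap,
    Subgroup.map_comap_eq_self_of_surjective hπ]

theorem qt_solvable [hG : G.Normal] (hMG : M ≤ G.comap π) (hs : Group.IsSolvable (Γ ⧸ G))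
    (Gs : Subgroup (E ⧸ M)) [Gs.Normal] (hGs : Gs = (G.comap π).map (QuotientGroup.mk' M)) :
    Group.IsSolvable ((E ⧸ M) ⧸ Gs) := by
  let ψ : E ⧸ M →* Γ ⧸ G := QuotientGroup.map M G π hMG
  have hψ : ∀ e : E, ψ (e : E ⧸ M) = ((π e : Γ) : Γ ⧸ G) := fun e => rfl
  have hker : Gs ≤ ψ.ker := by
    rw [hGs]
    rintro y ⟨e, he, rfl⟩
    rw [MonoidHom.mem_ker, QuotientGroup.mk'_apply, hψ, QuotientGroup.eq_one_iff]
    exact he
  let φ : (E ⧸ M) ⧸ Gs →* Γ ⧸ G := QuotientGroup.lift Gs ψ hker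
  have hinj : Function.Injective φ := by
    rw [injective_iff_map_eq_one]
    intro x hx
    obtain ⟨y, rfl⟩ := QuotientGroup.mk_surjective x
    obtain ⟨e, rfl⟩ := QuotientGroup.mk_surjective y
    have h1 : φ ((e : E ⧸ M) : (E ⧸ M) ⧸ Gs) = ((π e : Γ) : Γ ⧸ G) := rfl
    rw [h1, QuotientGroup.eq_one_iff] at hx
    rw [QuotientGroup.eq_one_iff, hGs]
    exact ⟨e, hx, rfl⟩
  exact Group.isSolvable_of_isSolvable_injective hinj

theorem qt_central (hdecomp : ∀ e ∈ N.comap π, ∃ ζ : E, (∀ δ, δ * ζ = ζ * δ) ∧ e * ζ⁻¹ ∈ M) :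
    (N.comap π).map (QuotientGroup.mk' M) ≤ Subgroup.center (E ⧸ M) := by
  rintro y ⟨e, he, rfl⟩
  obtain ⟨ζ, hζ, hm⟩ := hdecomp e he
  have h1 : QuotientGroup.mk' M e = QuotientGroup.mk' M ζ := by
    rw [QuotientGroup.mk'_apply, QuotientGroup.mk'_apply, QuotientGroup.eq]
    have h2 : e⁻¹ * ζ = (e * ζ⁻¹)⁻¹ := by
      rw [mul_inv_rev, inv_inv, hζ e⁻¹]
    rw [h2]
    exact M.inv_mem hm
  rw [h1, Subgroup.mem_center_iff]
  intro z
  obtain ⟨δ, rfl⟩ := QuotientGroup.mk_surjective z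
  show (δ : E ⧸ M) * (ζ : E ⧸ M) = ζ * δ
  rw [← QuotientGroup.mk_mul, ← QuotientGroup.mk_mul, hζ δ]

end QuotTransport

section Tools

/-- An irreducible character restricted to a central subgroup is a multiple of any linear
constituent (whole group version). -/
theorem central_char_of_constituent_top {K : Type u} [Group K] [Fintype K] (Z : Subgroup K)
    [Fintype Z] (hZ : Z ≤ Subgroup.center K) {κ : K → ℂ} (hκ : IsIrrCharacter K κ)
    {lam : Z → ℂ} (hlam : IsIrrCharacter Z lam)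
    (hne : classInner (fun z : Z => κ z) lam ≠ 0) (z : Z) : κ z = κ 1 * lam z := by
  classical
  obtain ⟨n, hn, hκ1⟩ := Cfsg.Agent.Lib.Helper25.irr_degree hκ
  have hκ0 : κ 1 ≠ 0 := by
    rw [hκ1]
    exact_mod_cast hn.ne'
  let f : Z →* ℂ :=
    { toFun := fun z => κ z / κ 1
      map_one' := div_self hκ0
      map_mul' := by
        intro a b
        have h := Cfsg.Agent.Lib.Helper81.irr_center_mul hκ (hZ a.2) (b : K)
        show κ ((a : K) * (b : K)) / κ 1 = κ a / κ 1 * (κ b / κ 1)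
        field_simp
        exact h }
  have hf := isCharacter_of_hom f
  have hfirr : IsIrrCharacter Z (fun z => f z) := isIrrCharacter_of_linear hf
  have hfapp : ∀ z : Z, f z = κ z / κ 1 := fun z => rfl
  have h1 : (fun z : Z => κ z) = κ 1 • (fun z => f z) := by
    funext z
    rw [Pi.smul_apply, smul_eq_mul, hfapp, mul_div_cancel₀ _ hκ0]
  rw [h1, Cfsg.Agent.Lib.Helper25.classInner_smul_left,
    Cfsg.Agent.Lib.Helper3.classInner_irr hfirr hlam] at hne
  have h2 : (fun z => f z) = lam := by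
    by_contra hcon
    rw [if_neg hcon, mul_zero] at hne
    exact hne rfl
  have h3 := congrFun h1 z
  rw [h2] at h3
  exact h3

/-- Deflation along a surjective homomorphism. -/
theorem deflate_along {A B : Type u} [Group A] [Group B] [Finite A] (f : A →* B)
    (hf : Function.Surjective f) {φ : A → ℂ} (hφ : IsIrrCharacter A φ)
    (hker : ∀ a ∈ f.ker, φ a = φ 1) :
    ∃ β : B → ℂ, IsIrrCharacter B β ∧ ∀ a, β (f a) = φ a := by
  obtain ⟨ψ, hψ, hψe⟩ := Cfsg.Agent.Lib.Helper79.isIrrCharacter_deflate hφ f.ker hker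
  let e := QuotientGroup.quotientKerEquivOfSurjective f hf
  refine ⟨fun b => ψ (e.symm b), ?_, ?_⟩
  · exact Cfsg.Agent.Lib.Helper79.isIrrCharacter_comp_surjective hψ e.symm.toMonoidHom
      e.symm.surjective
  · intro a
    have h1 : e.symm (f a) = (a : A ⧸ f.ker) := by
      rw [MulEquiv.symm_apply_eq]
      rfl
    show ψ (e.symm (f a)) = φ a
    rw [h1, hψe]

end Tools

section Main

variable {Γ : Type u} [Group Γ] [Fintype Γ]

/-- Isaacs 13.31, the case `Γ / G` solvable. -/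
theorem invariant_constituent_of_solvable_above (G N : Subgroup Γ) [hG : G.Normal]
    [hN : N.Normal] [Fintype N] (hNG : N ≤ G) (hcop : (G.index).Coprime (N.relIndex G))
    (hsolv : Group.IsSolvable (Γ ⧸ G)) {θ : N → ℂ} (hθ : IsIrrCharacter N θ)
    (hinv : ∀ x : Γ, Helper75.conjFun N x θ = θ) :
    ∃ χ : G → ℂ, IsIrrCharacter G χ ∧ classInner (fun n : N => χ ⟨n, hNG n.2⟩) θ ≠ 0 ∧
      ∀ x : Γ, Helper75.conjFun G x χ = χ := by
  classical
  obtain ⟨n, ρ, hρ, rfl⟩ := hθ
  have hinv' : ∀ (g : Γ) (x : N), ρ.character (MulAut.conjNormal g x) = ρ.character x := by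
    intro g x
    have h := congrFun (hinv g) x
    rw [Helper75.conjFun_eq_comp] at h
    exact h
  haveI hfin : Finite (cover N ρ) := finite_cover N ρ hρ hinv'
  haveI : Fintype (cover N ρ) := Fintype.ofFinite _
  have hsurj := covFst_surjective N ρ hρ hinv'
  have hirr := covRep_irreducible N ρ hρ
  haveI : Fintype (covOfN N ρ).range := Fintype.ofFinite _
  have hτ : IsIrrCharacter (cover N ρ) (covRep N ρ).character := ⟨n, covRep N ρ, hirr, rfl⟩
  have hτι : ∀ m : N, (covRep N ρ).character (covOfN N ρ m) = ρ.character m := by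
    intro m
    unfold Representation.character
    rw [covRep_covOfN]
  have hτN : IsIrrCharacter (covOfN N ρ).range
      (fun x : (covOfN N ρ).range => (covRep N ρ).character x) := by
    refine ⟨n, resRep (covRep N ρ) (covOfN N ρ).range, ?_, rfl⟩
    exact Cfsg.Agent.Lib.Helper79.isIrreducible_of_forall_exists ρ _
      (fun m => ⟨⟨covOfN N ρ m, ⟨m, rfl⟩⟩, covRep_covOfN N ρ m⟩) hρ
  -- a character of `Γ` over `θ`, written as a Gallagher product on the cover
  obtain ⟨ψ₀, hψ₀, hψ₀θ⟩ := Cfsg.Agent.S4448.exists_over' N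
    (⟨n, ρ, hρ, rfl⟩ : IsIrrCharacter N ρ.character)
  have hψ' : IsIrrCharacter (cover N ρ) (fun γ => ψ₀ (covFst N ρ γ)) :=
    Cfsg.Agent.Lib.Helper79.isIrrCharacter_comp_surjective hψ₀ (covFst N ρ) hsurj
  let eN : N ≃ (covOfN N ρ).range :=
    (MonoidHom.ofInjective (covOfN_injective N ρ)).toEquiv
  have heN : ∀ m : N, ((eN m : (covOfN N ρ).range) : cover N ρ) = covOfN N ρ m := fun m => rfl
  have hne' : classInner (fun x : (covOfN N ρ).range => (fun γ => ψ₀ (covFst N ρ γ)) x)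
      (fun x : (covOfN N ρ).range => (covRep N ρ).character x) ≠ 0 := by
    have : classInner (fun x : (covOfN N ρ).range => (fun γ => ψ₀ (covFst N ρ γ)) x)
        (fun x : (covOfN N ρ).range => (covRep N ρ).character x)
        = classInner (fun x : N => ψ₀ x) ρ.character := by
      unfold classInner
      rw [← Nat.card_congr eN]
      congr 1
      symm
      refine Fintype.sum_equiv eN _ _ (fun m => ?_)
      simp only [heN, covFst_covOfN]
      unfold Representation.character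
      rw [covRep_covOfN]
    rw [this]
    exact hψ₀θ
  obtain ⟨β₁, hβ₁, hβ₁N, hψeq, -⟩ := exists_mul_ext (covOfN N ρ).range hτ hτN hψ' hne'
  obtain ⟨β₁', hβ₁', hβ₁'eq⟩ := Cfsg.Agent.Lib.Helper79.isIrrCharacter_deflate hβ₁
    (covOfN N ρ).range (fun x hx => by
      have := hβ₁N ⟨x, hx⟩ 1
      rw [mul_one] at this
      exact this)
  obtain ⟨d₁, hd₁, hβ₁1⟩ := Cfsg.Agent.Lib.Helper25.irr_degree hβ₁
  have hβ₁0 : β₁ 1 ≠ 0 := by
    rw [hβ₁1]
    exact_mod_cast hd₁.ne'
  -- the quotient of the cover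
  have hMN : (covOfN N ρ).range ≤ N.comap (covFst N ρ) := by
    rintro x ⟨m, rfl⟩
    rw [Subgroup.mem_comap, covFst_covOfN]
    exact m.2
  have hMG : (covOfN N ρ).range ≤ G.comap (covFst N ρ) :=
    hMN.trans (Subgroup.comap_mono hNG)
  obtain ⟨Gs, hGs⟩ : ∃ Gs : Subgroup (cover N ρ ⧸ (covOfN N ρ).range),
      Gs = (G.comap (covFst N ρ)).map (QuotientGroup.mk' (covOfN N ρ).range) := ⟨_, rfl⟩
  obtain ⟨Ns, hNs⟩ : ∃ Ns : Subgroup (cover N ρ ⧸ (covOfN N ρ).range),
      Ns = (N.comap (covFst N ρ)).map (QuotientGroup.mk' (covOfN N ρ).range) := ⟨_, rfl⟩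
  haveI hGsn : Gs.Normal := by
    rw [hGs]
    exact qt_normal (covFst N ρ) (covOfN N ρ).range G
  have hNsGs : Ns ≤ Gs := by
    rw [hNs, hGs]
    exact Subgroup.map_mono (Subgroup.comap_mono hNG)
  have hdecomp : ∀ e ∈ N.comap (covFst N ρ), ∃ ζ : cover N ρ,
      (∀ δ, δ * ζ = ζ * δ) ∧ e * ζ⁻¹ ∈ (covOfN N ρ).range := by
    intro e he
    refine ⟨(covOfN N ρ ⟨covFst N ρ e, he⟩)⁻¹ * e,
      fun δ => cover_kernel_central N ρ hρ _ (by
        rw [map_mul, map_inv, covFst_covOfN, inv_mul_cancel]) δ, ?_⟩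
    rw [mul_inv_rev, inv_inv, ← mul_assoc, mul_inv_cancel, one_mul]
    exact ⟨_, rfl⟩
  have hNsZ : Ns ≤ Subgroup.center (cover N ρ ⧸ (covOfN N ρ).range) := by
    rw [hNs]
    exact qt_central (covFst N ρ) (covOfN N ρ).range N hdecomp
  have hidx : Gs.index = G.index := by
    rw [hGs]
    exact qt_index (covFst N ρ) hsurj (covOfN N ρ).range G hMG
  have hrel : Ns.relIndex Gs = N.relIndex G := by
    rw [hNs, hGs]
    exact qt_relIndex (covFst N ρ) hsurj (covOfN N ρ).range G N hMN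
  have hcop' : (Gs.index).Coprime (Ns.relIndex Gs) := by
    rw [hidx, hrel]
    exact hcop
  have hsolv' : Group.IsSolvable ((cover N ρ ⧸ (covOfN N ρ).range) ⧸ Gs) :=
    qt_solvable (covFst N ρ) (covOfN N ρ).range G hMG hsolv Gs hGs
  haveI : Fintype (cover N ρ ⧸ (covOfN N ρ).range) := Fintype.ofFinite _
  haveI : Fintype Ns := Fintype.ofFinite _
  haveI : Fintype Gs := Fintype.ofFinite _
  have hqNs : ∀ e : cover N ρ, covFst N ρ e ∈ N →
      (QuotientGroup.mk' (covOfN N ρ).range e) ∈ Ns := by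
    intro e he
    rw [hNs]
    exact Subgroup.mem_map_of_mem _ (Subgroup.mem_comap.2 he)
  have hqGs : ∀ e : cover N ρ, covFst N ρ e ∈ G →
      (QuotientGroup.mk' (covOfN N ρ).range e) ∈ Gs := by
    intro e he
    rw [hGs]
    exact Subgroup.mem_map_of_mem _ (Subgroup.mem_comap.2 he)
  -- the central character on `Ns`
  obtain ⟨θs, hθs, hθsβ⟩ := Cfsg.Agent.Lib.Helper79.exists_irr_constituent_restrict Ns hβ₁'
  have hβ₁'Ns := central_char_of_constituent_top Ns hNsZ hβ₁' hθs hθsβ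
  have key : ∀ ζ : cover N ρ, covFst N ρ ζ = 1 →
      ∀ h : QuotientGroup.mk' (covOfN N ρ).range ζ ∈ Ns,
        θs ⟨QuotientGroup.mk' (covOfN N ρ).range ζ, h⟩ * (covRep N ρ).character ζ
          = (covRep N ρ).character 1 := by
    intro ζ hζ h
    have h1 := congrFun hψeq ζ
    have h2 := congrFun hψeq 1
    simp only [Pi.mul_apply] at h1 h2
    rw [hζ] at h1
    rw [map_one] at h2
    have h3 : β₁ ζ = β₁ 1 * θs ⟨QuotientGroup.mk' (covOfN N ρ).range ζ, h⟩ := by
      have e1 := hβ₁'Ns ⟨QuotientGroup.mk' (covOfN N ρ).range ζ, h⟩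
      have e2 := hβ₁'eq ζ
      have e3 := hβ₁'eq 1
      rw [QuotientGroup.mk_one] at e3
      rw [← e2, ← e3]
      exact e1
    rw [h3] at h1
    rw [h1, mul_assoc] at h2
    exact mul_left_cancel₀ hβ₁0 h2
  -- the central case
  obtain ⟨χs, hχs, hχsθ, hχsinv⟩ :=
    invariant_constituent_central Gs Ns hNsGs hNsZ hcop' hsolv' hθs
  have hχsN := central_char_of_constituent Gs Ns hNsGs
    (fun z hz k _ => (Subgroup.mem_center_iff.1 (hNsZ hz) k).symm) hχs hθs hχsθ
  -- characters of the preimage of `G`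
  haveI : Fintype (G.comap (covFst N ρ)) := Fintype.ofFinite _
  have hτX : IsIrrCharacter (G.comap (covFst N ρ))
      (fun x : G.comap (covFst N ρ) => (covRep N ρ).character x) := by
    refine ⟨n, resRep (covRep N ρ) (G.comap (covFst N ρ)), ?_, rfl⟩
    exact Cfsg.Agent.Lib.Helper79.isIrreducible_of_forall_exists ρ _
      (fun m => ⟨⟨covOfN N ρ m, hMG ⟨m, rfl⟩⟩, covRep_covOfN N ρ m⟩) hρ
  haveI : Fintype ((covOfN N ρ).range.subgroupOf (G.comap (covFst N ρ))) := Fintype.ofFinite _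
  have hτXM : IsIrrCharacter ((covOfN N ρ).range.subgroupOf (G.comap (covFst N ρ)))
      (fun m : (covOfN N ρ).range.subgroupOf (G.comap (covFst N ρ)) =>
        (fun x : G.comap (covFst N ρ) => (covRep N ρ).character x) m) := by
    refine ⟨n, resRep (resRep (covRep N ρ) (G.comap (covFst N ρ)))
      ((covOfN N ρ).range.subgroupOf (G.comap (covFst N ρ))), ?_, rfl⟩
    exact Cfsg.Agent.Lib.Helper79.isIrreducible_of_forall_exists ρ _
      (fun m => ⟨⟨⟨covOfN N ρ m, hMG ⟨m, rfl⟩⟩, Subgroup.mem_subgroupOf.2 ⟨m, rfl⟩⟩,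
        covRep_covOfN N ρ m⟩) hρ
  let qX : G.comap (covFst N ρ) →* Gs :=
    ((QuotientGroup.mk' (covOfN N ρ).range).comp (G.comap (covFst N ρ)).subtype).codRestrict Gs
      (fun x => hqGs x (Subgroup.mem_comap.1 x.2))
  have hqXapp : ∀ x : G.comap (covFst N ρ),
      ((qX x : Gs) : cover N ρ ⧸ (covOfN N ρ).range)
        = QuotientGroup.mk' (covOfN N ρ).range (x : cover N ρ) := fun x => rfl
  have hqXsurj : Function.Surjective qX := by
    intro y
    have hy : (y : cover N ρ ⧸ (covOfN N ρ).range) ∈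
        (G.comap (covFst N ρ)).map (QuotientGroup.mk' (covOfN N ρ).range) := by
      rw [← hGs]
      exact y.2
    obtain ⟨e, he, hey⟩ := hy
    exact ⟨⟨e, he⟩, Subtype.ext hey⟩
  have hβ : IsIrrCharacter (G.comap (covFst N ρ)) (fun x => χs (qX x)) :=
    Cfsg.Agent.Lib.Helper79.isIrrCharacter_comp_surjective hχs qX hqXsurj
  have hβM : ∀ (m : (covOfN N ρ).range.subgroupOf (G.comap (covFst N ρ)))
      (x : G.comap (covFst N ρ)),
      (fun x => χs (qX x)) ((m : G.comap (covFst N ρ)) * x) = (fun x => χs (qX x)) x := by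
    intro m x
    show χs (qX ((m : G.comap (covFst N ρ)) * x)) = χs (qX x)
    have h1 : qX (m : G.comap (covFst N ρ)) = 1 := by
      apply Subtype.ext
      rw [hqXapp, Subgroup.coe_one, QuotientGroup.mk'_apply, QuotientGroup.eq_one_iff]
      exact Subgroup.mem_subgroupOf.1 m.2
    rw [map_mul, h1, one_mul]
  have hχt := isIrrCharacter_mul_ext
    ((covOfN N ρ).range.subgroupOf (G.comap (covFst N ρ))) hτX hτXM hβ hβM
  -- deflation to `G`
  let πX : G.comap (covFst N ρ) →* G :=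
    ((covFst N ρ).comp (G.comap (covFst N ρ)).subtype).codRestrict G
      (fun x => Subgroup.mem_comap.1 x.2)
  have hπXapp : ∀ x : G.comap (covFst N ρ), ((πX x : G) : Γ) = covFst N ρ (x : cover N ρ) :=
    fun x => rfl
  have hπXsurj : Function.Surjective πX := by
    intro g
    obtain ⟨e, he⟩ := hsurj (g : Γ)
    exact ⟨⟨e, Subgroup.mem_comap.2 (by rw [he]; exact g.2)⟩, Subtype.ext he⟩
  have hχs1 : ∀ x : G.comap (covFst N ρ), covFst N ρ (x : cover N ρ) = 1 →
      χs (qX x) * (covRep N ρ).character x = χs 1 * (covRep N ρ).character 1 := by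
    intro x hx
    have hxN : QuotientGroup.mk' (covOfN N ρ).range (x : cover N ρ) ∈ Ns :=
      hqNs _ (by rw [hx]; exact N.one_mem)
    have e1 := hχsN ⟨_, hxN⟩
    have e2 : qX x = ⟨QuotientGroup.mk' (covOfN N ρ).range (x : cover N ρ), hNsGs hxN⟩ :=
      Subtype.ext (hqXapp x)
    rw [e2, e1, mul_assoc, key (x : cover N ρ) hx hxN]
  have hker : ∀ x ∈ πX.ker, ((fun x => χs (qX x)) *
      (fun x : G.comap (covFst N ρ) => (covRep N ρ).character x)) x
      = ((fun x => χs (qX x)) *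
      (fun x : G.comap (covFst N ρ) => (covRep N ρ).character x)) 1 := by
    intro x hx
    have hx1 : covFst N ρ (x : cover N ρ) = 1 := by
      rw [← hπXapp, MonoidHom.mem_ker.1 hx]
      rfl
    rw [Pi.mul_apply, Pi.mul_apply]
    show χs (qX x) * (covRep N ρ).character x = χs (qX 1) * (covRep N ρ).character (1 : cover N ρ)
    rw [hχs1 x hx1, map_one]
  obtain ⟨χ, hχ, hχeq⟩ := deflate_along πX hπXsurj hχt hker
  have hχeq' : ∀ x : G.comap (covFst N ρ),
      χ (πX x) = χs (qX x) * (covRep N ρ).character x := fun x => hχeq x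
  obtain ⟨ds, hds, hχs1'⟩ := Cfsg.Agent.Lib.Helper25.irr_degree hχs
  have hχs0 : χs 1 ≠ 0 := by
    rw [hχs1']
    exact_mod_cast hds.ne'
  refine ⟨χ, hχ, ?_, ?_⟩
  · have h1 : (fun m : N => χ ⟨m, hNG m.2⟩) = χs 1 • ρ.character := by
      funext m
      have hx : covOfN N ρ m ∈ G.comap (covFst N ρ) := hMG ⟨m, rfl⟩
      have e1 : (⟨m, hNG m.2⟩ : G) = πX ⟨covOfN N ρ m, hx⟩ := Subtype.ext rfl
      have e2 : qX ⟨covOfN N ρ m, hx⟩ = 1 := by
        apply Subtype.ext
        rw [hqXapp, Subgroup.coe_one, QuotientGroup.mk'_apply, QuotientGroup.eq_one_iff]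
        exact ⟨m, rfl⟩
      rw [e1, hχeq', e2, Pi.smul_apply, smul_eq_mul]
      show χs 1 * (covRep N ρ).character (covOfN N ρ m) = _
      rw [hτι]
    rw [h1, Cfsg.Agent.Lib.Helper25.classInner_smul_left,
      Cfsg.Agent.Lib.Helper3.classInner_irr ⟨n, ρ, hρ, rfl⟩ ⟨n, ρ, hρ, rfl⟩, if_pos rfl, mul_one]
    exact hχs0
  · intro y
    funext g
    rw [Helper75.conjFun_apply]
    obtain ⟨ey, hey⟩ := hsurj y
    obtain ⟨eg, heg⟩ := hsurj (g : Γ)
    have hxg : eg ∈ G.comap (covFst N ρ) := Subgroup.mem_comap.2 (by rw [heg]; exact g.2)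
    have hxg' : ey * eg * ey⁻¹ ∈ G.comap (covFst N ρ) :=
      (hG.comap (covFst N ρ)).conj_mem eg hxg ey
    have e1 : (⟨y * g * y⁻¹, hG.conj_mem g g.2 y⟩ : G) = πX ⟨ey * eg * ey⁻¹, hxg'⟩ := by
      apply Subtype.ext
      rw [hπXapp]
      show y * (g : Γ) * y⁻¹ = covFst N ρ (ey * eg * ey⁻¹)
      rw [map_mul, map_mul, map_inv, hey, heg]
    have e2 : g = πX ⟨eg, hxg⟩ := Subtype.ext heg.symm
    rw [e1, hχeq']
    conv_rhs => rw [e2, hχeq']
    have e3 : (covRep N ρ).character (ey * eg * ey⁻¹) = (covRep N ρ).character eg :=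
      Cfsg.Agent.Lib.Helper3.IsCharacter.isClassFunction
        (Cfsg.Agent.Lib.Helper3.IsIrrCharacter.isCharacter hτ) eg ey
    have e4 : χs (qX ⟨ey * eg * ey⁻¹, hxg'⟩) = χs (qX ⟨eg, hxg⟩) := by
      have h1 := congrFun (hχsinv (QuotientGroup.mk' (covOfN N ρ).range ey)) (qX ⟨eg, hxg⟩)
      rw [Helper75.conjFun_apply] at h1
      rw [← h1]
      congr 1
    show χs (qX ⟨ey * eg * ey⁻¹, hxg'⟩) * (covRep N ρ).character (ey * eg * ey⁻¹)
      = χs (qX ⟨eg, hxg⟩) * (covRep N ρ).character eg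
    rw [e3, e4]

end Main

end Cfsg.Agent.Lib.Helper15
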