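import Mathlib
import Cfsg.Agent.Lib.Helper15.DegCoprime
import Cfsg.Agent.Lib.Helper15.GlaubData

set_option autoImplicit false
set_option linter.unusedSectionVars false
set_option linter.style.haveILetI false

/-!
# `G = K H` with `K` a normal Hall subgroup: degrees prime to `|H|` in `G` and in `N_G(H)`
-/

namespace Cfsg.Agent.Lib.Helper15

open Cfsg
open scoped ComplexConjugate

universe u

section NormComplement

variable {G : Type u} [Group G] [Finite G] (K H : Subgroup G) [hK : K.Normal]

omit [Finite G] in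
/-- elements of `K ∩ N_G(H)` centralise `H` when `K ∩ H = 1`. -/
theorem comm_of_mem_normalizer (hdisj : K ⊓ H = ⊥) {x h : G} (hxK : x ∈ K)
    (hxN : x ∈ Subgroup.normalizer (H : Set G)) (hh : h ∈ H) : h * x * h⁻¹ = x := by
  have h1 : h * x * h⁻¹ * x⁻¹ ∈ K ⊓ H := by
    refine Subgroup.mem_inf.2 ⟨K.mul_mem (hK.conj_mem x hxK h) (K.inv_mem hxK), ?_⟩
    have h2 : x * h⁻¹ * x⁻¹ ∈ H := (Subgroup.mem_normalizer_iff.1 hxN h⁻¹).1 (H.inv_mem hh)
    have h3 : h * x * h⁻¹ * x⁻¹ = h * (x * h⁻¹ * x⁻¹) := by group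
    rw [h3]
    exact H.mul_mem hh h2
  rw [hdisj, Subgroup.mem_bot] at h1
  exact mul_inv_eq_one.1 h1

omit [Finite G] in
theorem inf_normalizer_eq_inf_centralizer (hdisj : K ⊓ H = ⊥) :
    K ⊓ Subgroup.normalizer (H : Set G) = K ⊓ Subgroup.centralizer (H : Set G) := by
  apply le_antisymm
  · intro x hx
    refine Subgroup.mem_inf.2 ⟨hx.1, ?_⟩
    rw [Subgroup.mem_centralizer_iff]
    intro h hh
    have := comm_of_mem_normalizer K H hdisj hx.1 hx.2 hh
    calc h * x = h * x * h⁻¹ * h := by group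
      _ = x * h := by rw [this]
  · intro x hx
    refine Subgroup.mem_inf.2 ⟨hx.1, ?_⟩
    exact Subgroup.centralizer_le_normalizer _ hx.2

/-- invariance under `G = K H` versus invariance under `H`. -/
theorem inv_iff_inv_complement (hKH : K ⊔ H = ⊤) (θ : IrrCharacter K) :
    (∀ (g : G) (n : K), (θ : K → ℂ) ⟨g * n * g⁻¹, hK.conj_mem n n.2 g⟩ = (θ : K → ℂ) n) ↔
      (∀ s ∈ H, ∀ g g' : K, (g' : G) = s * g * s⁻¹ → (θ : K → ℂ) g' = (θ : K → ℂ) g) := by
  constructor
  · intro h s _ g g' hgg'
    rw [← h s g]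
    exact congrArg _ (Subtype.ext hgg')
  · intro h g n
    have hg : g ∈ ((K ⊔ H : Subgroup G) : Set G) := by rw [hKH]; trivial
    rw [Subgroup.normal_mul] at hg
    obtain ⟨k, hk, s, hs, rfl⟩ := Set.mem_mul.1 hg
    have h1 := h s hs n ⟨s * n * s⁻¹, hK.conj_mem n n.2 s⟩ rfl
    rw [← h1]
    have hcl := Cfsg.Agent.Lib.Helper3.IsCharacter.isClassFunction
      (Cfsg.Agent.Lib.Helper3.IsIrrCharacter.isCharacter θ.2)
    rw [← hcl ⟨s * n * s⁻¹, hK.conj_mem n n.2 s⟩ ⟨k, hk⟩]
    refine congrArg _ (Subtype.ext ?_)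
    show k * s * ↑n * (k * s)⁻¹ = k * (s * ↑n * s⁻¹) * k⁻¹
    group

/-- transport of the set of irreducible characters along an isomorphism -/
def irrEquiv {A B : Type u} [Group A] [Group B] (e : A ≃* B) : IrrCharacter B ≃ IrrCharacter A where
  toFun := irrComp e
  invFun := irrComp e.symm
  left_inv := irrComp_symm_irrComp e
  right_inv := irrComp_irrComp_symm e

/-- the count, assuming the Glauberman count for `H` acting on `K`. -/
theorem card_degree_coprime_eq (hKH : K ⊔ H = ⊤) (hcop : (Nat.card K).Coprime (Nat.card H))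
    (hcount : Nat.card {θ : IrrCharacter K // ∀ s ∈ H, ∀ g g' : K, (g' : G) = s * g * s⁻¹ →
        (θ : K → ℂ) g' = (θ : K → ℂ) g}
      = Nat.card (IrrCharacter (K ⊓ Subgroup.centralizer (H : Set G) : Subgroup G))) :
    Nat.card {χ : IrrCharacter G // (charDegree (χ : G → ℂ)).Coprime (Nat.card H)}
      = Nat.card {η : IrrCharacter (Subgroup.normalizer (H : Set G)) //
          (charDegree (η : Subgroup.normalizer (H : Set G) → ℂ)).Coprime (Nat.card H)} := by
  classical
  haveI : Fintype G := Fintype.ofFinite _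
  haveI : Fintype K := Fintype.ofFinite _
  haveI : Fintype (Subgroup.normalizer (H : Set G)) := Fintype.ofFinite _
  haveI : Fintype (K.subgroupOf (Subgroup.normalizer (H : Set G))) := Fintype.ofFinite _
  have hdisj : K ⊓ H = ⊥ := (Subgroup.disjoint_of_coprime_natCard hcop).eq_bot
  have hidx : K.index = Nat.card H :=
    (Cfsg.Agent.Lib.Helper24.card_eq_index_of_sup_eq_top K H hKH hcop).symm
  have hcompl : H.IsComplement' K := by
    apply Subgroup.isComplement'_of_disjoint_and_mul_eq_univ
    · exact (Subgroup.disjoint_of_coprime_natCard hcop).symm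
    · rw [← Subgroup.mul_normal, sup_comm, hKH]
      rfl
  -- the left side
  have hL : Nat.card {χ : IrrCharacter G // (charDegree (χ : G → ℂ)).Coprime (Nat.card H)}
      = Nat.card (IrrCharacter (K ⊓ Subgroup.centralizer (H : Set G) : Subgroup G))
        * Nat.card (H →* ℂˣ) := by
    rw [← hidx, card_coprime_degree K (by rwa [hidx]), card_linMod_of_complement K hcompl,
      ← hcount]
    congr 1
    exact Nat.card_congr (Equiv.subtypeEquivRight (inv_iff_inv_complement K H hKH))
  rw [hL]
  -- the right side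
  have hHN : H ≤ Subgroup.normalizer (H : Set G) := Subgroup.le_normalizer
  have hsup' : K.subgroupOf (Subgroup.normalizer (H : Set G))
      ⊔ H.subgroupOf (Subgroup.normalizer (H : Set G)) = ⊤ := by
    rw [eq_top_iff]
    intro n _
    have hn : (n : G) ∈ ((K ⊔ H : Subgroup G) : Set G) := by rw [hKH]; trivial
    rw [Subgroup.normal_mul] at hn
    obtain ⟨k, hk, h, hh, hkh⟩ := Set.mem_mul.1 hn
    have hkN : k ∈ Subgroup.normalizer (H : Set G) := by
      have : k = (n : G) * h⁻¹ := by rw [← hkh]; group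
      rw [this]
      exact Subgroup.mul_mem _ n.2 (Subgroup.inv_mem _ (hHN hh))
    have hn' : n = (⟨k, hkN⟩ : Subgroup.normalizer (H : Set G)) * ⟨h, hHN hh⟩ :=
      Subtype.ext hkh.symm
    rw [hn']
    exact Subgroup.mul_mem_sup (Subgroup.mem_subgroupOf.2 hk) (Subgroup.mem_subgroupOf.2 hh)
  have hcardH' : Nat.card (H.subgroupOf (Subgroup.normalizer (H : Set G))) = Nat.card H :=
    Nat.card_congr (Subgroup.subgroupOfEquivOfLe hHN).toEquiv
  -- `K' ≃ K ⊓ C(H)`
  let eK' : K.subgroupOf (Subgroup.normalizer (H : Set G))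
      ≃* (K ⊓ Subgroup.centralizer (H : Set G) : Subgroup G) :=
    { toFun := fun x => ⟨((x : Subgroup.normalizer (H : Set G)) : G), by
        rw [← inf_normalizer_eq_inf_centralizer K H hdisj]
        exact Subgroup.mem_inf.2 ⟨Subgroup.mem_subgroupOf.1 x.2, x.1.2⟩⟩
      invFun := fun y => ⟨⟨(y : G), Subgroup.centralizer_le_normalizer _ y.2.2⟩,
        Subgroup.mem_subgroupOf.2 y.2.1⟩
      left_inv := fun x => rfl
      right_inv := fun y => rfl
      map_mul' := fun x y => rfl }
  have hcardK' : Nat.card (K.subgroupOf (Subgroup.normalizer (H : Set G))) ∣ Nat.card K := by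
    rw [Nat.card_congr eK'.toEquiv]
    exact Subgroup.card_dvd_of_le inf_le_left
  have hcop' : (Nat.card (K.subgroupOf (Subgroup.normalizer (H : Set G)))).Coprime
      (Nat.card (H.subgroupOf (Subgroup.normalizer (H : Set G)))) := by
    rw [hcardH']
    exact Nat.Coprime.coprime_dvd_left hcardK' hcop
  have hidx' : (K.subgroupOf (Subgroup.normalizer (H : Set G))).index = Nat.card H := by
    rw [← hcardH']
    exact (Cfsg.Agent.Lib.Helper24.card_eq_index_of_sup_eq_top _ _ hsup' hcop').symm
  have hcompl' : (H.subgroupOf (Subgroup.normalizer (H : Set G))).IsComplement'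
      (K.subgroupOf (Subgroup.normalizer (H : Set G))) := by
    apply Subgroup.isComplement'_of_disjoint_and_mul_eq_univ
    · exact (Subgroup.disjoint_of_coprime_natCard hcop').symm
    · rw [← Subgroup.mul_normal, sup_comm, hsup']
      rfl
  rw [← hidx', card_coprime_degree _ (by rw [hidx', ← hcardH']; exact hcop'),
    card_linMod_of_complement _ hcompl']
  congr 1
  · -- all characters of `K'` are invariant
    rw [Nat.card_congr (irrEquiv eK')]
    symm
    refine Nat.card_congr (Equiv.subtypeUnivEquiv ?_)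
    intro θ g n
    have hg : g ∈ (⊤ : Subgroup (Subgroup.normalizer (H : Set G))) := Subgroup.mem_top g
    rw [← hsup'] at hg
    have hg' : g ∈ ((K.subgroupOf (Subgroup.normalizer (H : Set G))
      ⊔ H.subgroupOf (Subgroup.normalizer (H : Set G)) : Subgroup _) : Set _) := hg
    rw [Subgroup.normal_mul] at hg'
    obtain ⟨k, hk, h, hh, rfl⟩ := Set.mem_mul.1 hg'
    have hcl := Cfsg.Agent.Lib.Helper3.IsCharacter.isClassFunction
      (Cfsg.Agent.Lib.Helper3.IsIrrCharacter.isCharacter θ.2)
    rw [← hcl n ⟨k, hk⟩]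
    refine congrArg _ (Subtype.ext (Subtype.ext ?_))
    have h1 := comm_of_mem_normalizer K H hdisj (Subgroup.mem_subgroupOf.1 n.2) n.1.2
      (Subgroup.mem_subgroupOf.1 hh)
    show ((k : G) * (h : G)) * ((n : Subgroup.normalizer (H : Set G)) : G) * ((k : G) * (h : G))⁻¹
      = (k : G) * ((n : Subgroup.normalizer (H : Set G)) : G) * (k : G)⁻¹
    calc ((k : G) * (h : G)) * ((n : Subgroup.normalizer (H : Set G)) : G) * ((k : G) * (h : G))⁻¹
        = (k : G) * ((h : G) * ((n : Subgroup.normalizer (H : Set G)) : G) * (h : G)⁻¹) * (k : G)⁻¹ := by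
          group
      _ = (k : G) * ((n : Subgroup.normalizer (H : Set G)) : G) * (k : G)⁻¹ := by rw [h1]
  · exact Nat.card_congr (MulEquiv.monoidHomCongrLeftEquiv
      (Subgroup.subgroupOfEquivOfLe hHN)).symm

end NormComplement

end Cfsg.Agent.Lib.Helper15
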