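import Mathlib

set_option autoImplicit false

namespace Cfsg.Agent.Lib.Helper15

open MulAction in
/-- A `p`-group `Q` acting on a finite set `X`; `f : X → M` invariant with values in an
additive group killed by `p`, vanishing at the fixed points. Then `∑ f = 0`. -/
theorem sum_eq_zero_of_pgroup_invariant {Q X M : Type*} [Group Q] [MulAction Q X] [Fintype X]
    [AddCommGroup M] (p : ℕ) [Fact p.Prime] (hQ : IsPGroup p Q)
    (hM : ∀ a : M, p • a = 0) (f : X → M) (hf : ∀ (u : Q) (x : X), f (u • x) = f x)
    (hfix : ∀ x : X, (∀ u : Q, u • x = x) → f x = 0) : ∑ x, f x = 0 := by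
  classical
  have h1 : ∑ x, f x = ∑ b ∈ Finset.univ.image f, (Finset.univ.filter (fun x => f x = b)).card • b := by
    have := Finset.sum_comp (s := (Finset.univ : Finset X)) (f := fun b : M => b) (g := f)
    simpa using this
  rw [h1]
  apply Finset.sum_eq_zero
  intro b _
  by_cases hb : b = 0
  · simp [hb]
  -- the fibre over b is a Q-stable set without fixed points
  let S : SubMulAction Q X :=
    { carrier := {x | f x = b}
      smul_mem' := fun u x hx => by
        show f (u • x) = b
        rw [hf]; exact hx }
  have hcard : Nat.card S = (Finset.univ.filter (fun x => f x = b)).card := by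
    rw [Nat.card_eq_fintype_card]
    rw [Fintype.card_of_subtype]
    intro x
    simp [S]
    rfl
  have hfp : IsEmpty (fixedPoints Q S) := by
    constructor
    rintro ⟨⟨x, hx⟩, hfx⟩
    apply hb
    have hx' : f x = b := hx
    rw [← hx']
    apply hfix
    intro u
    have := hfx u
    exact congrArg Subtype.val this
  have hmod := hQ.card_modEq_card_fixedPoints S
  rw [Nat.card_of_isEmpty (α := fixedPoints Q S)] at hmod
  have hdvd : p ∣ Nat.card S := (Nat.modEq_zero_iff_dvd).1 hmod
  rw [hcard] at hdvd
  obtain ⟨k, hk⟩ := hdvd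
  rw [hk, mul_comm, mul_smul, hM]
  simp

end Cfsg.Agent.Lib.Helper15
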