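import Mathlib
import Cfsg.Agent.Lib.Helper10.MinNormal
import Cfsg.Agent.Lib.Helper53.CenterMeet
import Cfsg.Agent.Lib.Helper15.MackeyNormal

/-!
# Primitive solvable groups

A finite solvable group `Q` with a core-free maximal subgroup `H ≠ 1` has a normal `p`-subgroup `V`
complemented by `H`, and `H` has a nontrivial normal `p'`-subgroup `B` not centralising `V`.
-/

set_option autoImplicit false

namespace Cfsg.Agent.Lib.Helper15

open Subgroup

variable {Q : Type*} [Group Q]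

/-- If `V ◁ Q` is abelian, `V H = Q`, then a subgroup of `V` normalised by `H` is normal. -/
theorem normal_of_le_abelian_of_sup_eq_top (V H Z : Subgroup Q) [hVn : V.Normal]
    (hVc : ∀ a ∈ V, ∀ b ∈ V, a * b = b * a) (hsup : V ⊔ H = ⊤) (hZV : Z ≤ V)
    (hH : ∀ h ∈ H, ∀ z ∈ Z, h * z * h⁻¹ ∈ Z) : Z.Normal := by
  refine ⟨fun z hz g => ?_⟩
  obtain ⟨v, hv, h, hh, rfl⟩ := exists_mul_of_sup_eq_top V H hsup g
  have h1 : h * z * h⁻¹ ∈ Z := hH h hh z hz
  have h2 : v * h * z * (v * h)⁻¹ = v * (h * z * h⁻¹) * v⁻¹ := by group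
  rw [h2]
  have h3 : v * (h * z * h⁻¹) * v⁻¹ = h * z * h⁻¹ := by
    rw [hVc v hv _ (hZV h1), mul_assoc, mul_inv_cancel, mul_one]
  rw [h3]
  exact h1

/-- A subgroup of `H` normalised by `H` and centralised by `V` is normal when `V H = Q`. -/
theorem normal_of_le_of_centralized (V H C : Subgroup Q) [hVn : V.Normal] (hsup : V ⊔ H = ⊤)
    (hH : ∀ h ∈ H, ∀ c ∈ C, h * c * h⁻¹ ∈ C)
    (hV : ∀ v ∈ V, ∀ c ∈ C, v * c = c * v) : C.Normal := by
  refine ⟨fun c hc g => ?_⟩
  obtain ⟨v, hv, h, hh, rfl⟩ := exists_mul_of_sup_eq_top V H hsup g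
  have h1 : h * c * h⁻¹ ∈ C := hH h hh c hc
  have h2 : v * h * c * (v * h)⁻¹ = v * (h * c * h⁻¹) * v⁻¹ := by group
  rw [h2, hV v hv _ h1, mul_assoc, mul_inv_cancel, mul_one]
  exact h1

theorem exists_primitive_data [Finite Q] [Group.IsSolvable Q]
    (H : Subgroup Q) (hmax : IsCoatom H) (hcore : H.normalCore = ⊥) (hH : H ≠ ⊥) :
    ∃ (V B : Subgroup Q), V.Normal ∧ B ≤ H ∧ V ⊓ H = ⊥ ∧ V ⊔ H = ⊤ ∧ (V ⊔ B).Normal ∧
      Nat.Coprime (Nat.card V) (Nat.card B) ∧ ∃ v ∈ V, ∃ b ∈ B, v⁻¹ * b * v ∉ H := by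
  classical
  haveI : Nontrivial Q := by
    by_contra hnt
    rw [not_nontrivial_iff_subsingleton] at hnt
    exact hmax.1 (Subsingleton.elim _ _)
  obtain ⟨p, V, hp, hVn, hVne, hVp, hVc, -, hVmin⟩ :=
    Cfsg.Agent.Lib.Helper10.exists_min_normal_pgroup_of_solvable (G := Q)
  haveI := hVn
  haveI : Fact p.Prime := ⟨hp⟩
  have hVcomm := isMulCommutative_iff_of_setLike.mp hVc
  -- `V ≰ H`
  have hVH : ¬ V ≤ H := by
    intro h
    have : V ≤ H.normalCore := Subgroup.normal_le_normalCore.2 h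
    rw [hcore] at this
    exact hVne (le_bot_iff.1 this)
  have hsup : V ⊔ H = ⊤ := by
    apply hmax.2
    exact lt_of_le_of_ne le_sup_right (fun h => hVH (h ▸ le_sup_left))
  -- `V ⊓ H = ⊥`
  have hinf : V ⊓ H = ⊥ := by
    haveI : (V ⊓ H).Normal :=
      Cfsg.Agent.Lib.Helper10.inf_normal_of_abelian_normal_sup_eq_top V H hVc (sup_comm V H ▸ hsup)
    have : V ⊓ H ≤ H.normalCore := Subgroup.normal_le_normalCore.2 inf_le_right
    rw [hcore] at this
    exact le_bot_iff.1 this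
  -- `C_H(V) = 1`
  have hcent : ∀ c ∈ H, (∀ v ∈ V, v * c = c * v) → c = 1 := by
    intro c hcH hcV
    set C : Subgroup Q := H ⊓ Subgroup.centralizer (V : Set Q) with hC
    have hCn : C.Normal := by
      apply normal_of_le_of_centralized V H C hsup
      · intro h hh c' hc'
        obtain ⟨h1, h2⟩ := Subgroup.mem_inf.1 hc'
        refine Subgroup.mem_inf.2 ⟨H.mul_mem (H.mul_mem hh h1) (H.inv_mem hh), ?_⟩
        rw [Subgroup.mem_centralizer_iff] at h2 ⊢
        intro v hv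
        have hv' : h⁻¹ * v * h ∈ V := by
          have := hVn.conj_mem v hv h⁻¹
          simpa using this
        have := h2 _ hv'
        calc v * (h * c' * h⁻¹) = h * ((h⁻¹ * v * h) * c') * h⁻¹ := by group
          _ = h * (c' * (h⁻¹ * v * h)) * h⁻¹ := by rw [this]
          _ = h * c' * h⁻¹ * v := by group
      · intro v hv c' hc'
        have h2 := (Subgroup.mem_inf.1 hc').2
        rw [Subgroup.mem_centralizer_iff] at h2
        exact h2 v hv
    haveI := hCn
    have hCle : C ≤ H.normalCore := Subgroup.normal_le_normalCore.2 inf_le_left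
    rw [hcore] at hCle
    have hcC : c ∈ C := by
      refine Subgroup.mem_inf.2 ⟨hcH, ?_⟩
      rw [Subgroup.mem_centralizer_iff]
      exact hcV
    exact Subgroup.mem_bot.1 (hCle hcC)
  -- a minimal normal subgroup of `H`
  haveI : Nontrivial H := by
    rw [Subgroup.nontrivial_iff_ne_bot]
    exact hH
  obtain ⟨q, B', hq, hB'n, hB'ne, hB'q, hB'c, -, -⟩ :=
    Cfsg.Agent.Lib.Helper10.exists_min_normal_pgroup_of_solvable (G := H)
  haveI := hB'n
  set B : Subgroup Q := B'.map H.subtype with hBdef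
  have hBH : B ≤ H := by
    rw [hBdef]
    exact Subgroup.map_subtype_le B'
  have hBne : B ≠ ⊥ := by
    intro h
    apply hB'ne
    rw [hBdef, Subgroup.map_eq_bot_iff_of_injective _ (Subgroup.subtype_injective H)] at h
    exact h
  have hBq : IsPGroup q B := by
    rw [hBdef]
    exact hB'q.map H.subtype
  have hBnorm : ∀ h ∈ H, ∀ b ∈ B, h * b * h⁻¹ ∈ B := by
    intro h hh b hb
    rw [hBdef] at hb ⊢
    obtain ⟨b', hb', rfl⟩ := Subgroup.mem_map.1 hb
    exact Subgroup.mem_map.2 ⟨⟨h, hh⟩ * b' * ⟨h, hh⟩⁻¹, hB'n.conj_mem b' hb' ⟨h, hh⟩, rfl⟩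
  -- `B` does not centralise `V`
  have hBV : ¬ ∀ b ∈ B, ∀ v ∈ V, v * b = b * v := by
    intro hall
    apply hBne
    rw [eq_bot_iff]
    intro b hb
    exact Subgroup.mem_bot.2 (hcent b (hBH hb) (fun v hv => hall b hb v hv))
  -- `q ≠ p`
  have hqp : q ≠ p := by
    rintro rfl
    apply hBV
    -- `V ⊔ B` is a `p`-group
    have hP : IsPGroup q (V ⊔ B : Subgroup Q) := IsPGroup.to_sup_of_normal_left hVp hBq
    set P : Subgroup Q := V ⊔ B with hPdef
    have hVP : V ≤ P := le_sup_left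
    have hBP : B ≤ P := le_sup_right
    have hV'ne : V.subgroupOf P ≠ ⊥ := by
      intro h
      rw [Subgroup.subgroupOf_eq_bot] at h
      apply hVne
      rw [eq_bot_iff]
      exact (le_inf le_rfl hVP).trans (disjoint_iff_inf_le.1 h)
    obtain ⟨z, hzV, hz1, hzc⟩ :=
      Cfsg.Agent.Lib.Helper53.normal_meets_center hP (V.subgroupOf P) hV'ne
    -- `Z₁ = V ⊓ C(B)`
    set Z₁ : Subgroup Q := V ⊓ Subgroup.centralizer (B : Set Q) with hZ₁
    have hZ₁n : Z₁.Normal := by
      apply normal_of_le_abelian_of_sup_eq_top V H Z₁ hVcomm hsup inf_le_left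
      intro h hh x hx
      obtain ⟨h1, h2⟩ := Subgroup.mem_inf.1 hx
      refine Subgroup.mem_inf.2 ⟨hVn.conj_mem x h1 h, ?_⟩
      rw [Subgroup.mem_centralizer_iff] at h2 ⊢
      intro b hb
      have hb' : h⁻¹ * b * h ∈ B := by
        have := hBnorm h⁻¹ (H.inv_mem hh) b hb
        simpa using this
      have := h2 _ hb'
      calc b * (h * x * h⁻¹) = h * ((h⁻¹ * b * h) * x) * h⁻¹ := by group
        _ = h * (x * (h⁻¹ * b * h)) * h⁻¹ := by rw [this]
        _ = h * x * h⁻¹ * b := by group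
    have hZ₁ne : Z₁ ≠ ⊥ := by
      intro h
      apply hz1
      have hzmem : (z : Q) ∈ Z₁ := by
        refine Subgroup.mem_inf.2 ⟨Subgroup.mem_subgroupOf.1 hzV, ?_⟩
        rw [Subgroup.mem_centralizer_iff]
        intro b hb
        have := Subgroup.mem_center_iff.1 hzc ⟨b, hBP hb⟩
        exact congrArg Subtype.val this
      rw [h] at hzmem
      exact Subtype.ext (Subgroup.mem_bot.1 hzmem)
    rcases hVmin Z₁ hZ₁n inf_le_left with h | h
    · exact absurd h hZ₁ne
    · intro b hb v hv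
      have hv' : v ∈ Z₁ := h ▸ hv
      have h2 := (Subgroup.mem_inf.1 hv').2
      rw [Subgroup.mem_centralizer_iff] at h2
      exact (h2 b hb).symm
  refine ⟨V, B, hVn, hBH, hinf, hsup, ?_, ?_, ?_⟩
  · -- normality of `V ⊔ B`
    rw [← Subgroup.normalizer_eq_top_iff, eq_top_iff, ← hsup]
    apply sup_le
    · exact le_sup_left.trans Subgroup.le_normalizer
    · intro h hh
      rw [Subgroup.mem_normalizer_iff]
      have key : ∀ g ∈ H, ∀ x ∈ V ⊔ B, g * x * g⁻¹ ∈ V ⊔ B := by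
        intro g hg x hx
        have hx' : x ∈ ((V ⊔ B : Subgroup Q) : Set Q) := hx
        rw [Subgroup.normal_mul] at hx'
        obtain ⟨v, hv, b, hb, rfl⟩ := Set.mem_mul.1 hx'
        have : g * (v * b) * g⁻¹ = (g * v * g⁻¹) * (g * b * g⁻¹) := by group
        rw [this]
        exact (V ⊔ B).mul_mem (Subgroup.mem_sup_left (hVn.conj_mem v hv g))
          (Subgroup.mem_sup_right (hBnorm g hg b hb))
      intro x
      constructor
      · exact key h hh x
      · intro hx
        have := key h⁻¹ (H.inv_mem hh) _ hx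
        simpa [mul_assoc] using this
  · -- coprimality
    haveI : Fact q.Prime := ⟨hq⟩
    obtain ⟨a, ha⟩ := IsPGroup.iff_card.1 hVp
    obtain ⟨b, hb⟩ := IsPGroup.iff_card.1 hBq
    rw [ha, hb]
    apply Nat.Coprime.pow
    exact (Nat.coprime_primes hp hq).2 (Ne.symm hqp)
  · -- noncentralising
    by_contra hno
    push Not at hno
    apply hBV
    intro b hb v hv
    have h1 : v⁻¹ * b * v ∈ H := hno v hv b hb
    have h2 : v⁻¹ * b * v * b⁻¹ ∈ V ⊓ H := by
      refine Subgroup.mem_inf.2 ⟨?_, H.mul_mem h1 (H.inv_mem (hBH hb))⟩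
      have : v⁻¹ * b * v * b⁻¹ = v⁻¹ * (b * v * b⁻¹) := by group
      rw [this]
      exact V.mul_mem (V.inv_mem hv) (hVn.conj_mem v hv b)
    rw [hinf] at h2
    have h3 := Subgroup.mem_bot.1 h2
    have : v * (v⁻¹ * b * v * b⁻¹) * b = v * 1 * b := by rw [h3]
    rw [mul_one] at this
    rw [← this]
    group

end Cfsg.Agent.Lib.Helper15
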