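import Mathlib
import Cfsg.Agent.Lib.Helper12.PsDefs

/-!
# Ps hive (S4321), leaf PSNC: nontrivial `p`-elements are not central.
-/

set_option autoImplicit false

namespace Cfsg.Agent.Lib.Helper12.Ps

open Subgroup Cfsg.Agent.Lib.Helper22.Cg

universe u

/-- PSNC. nontrivial `p`-elements are not central. -/
theorem psNC {G : Type u} [Group G] [Finite G] (p : ℕ) [Fact p.Prime]
    (hZ : ¬ p ∣ Nat.card (center G)) (a : G) (ha : ∃ n : ℕ, orderOf a = p ^ n) (ha1 : a ≠ 1) :
    1 < cs a := by
  have hp : p.Prime := Fact.out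
  by_contra hlt
  have hpos : 0 < cs a := Nat.pos_of_ne_zero (Subgroup.index_ne_zero_of_finite)
  have h1 : cs a = 1 := by omega
  have htop : centralizer ({a} : Set G) = ⊤ := Subgroup.index_eq_one.mp h1
  have hac : a ∈ center G := by
    rw [Subgroup.mem_center_iff]
    intro g
    have hg : g ∈ centralizer ({a} : Set G) := by rw [htop]; exact Subgroup.mem_top g
    rw [Subgroup.mem_centralizer_iff] at hg
    exact (hg a (Set.mem_singleton a)).symm
  obtain ⟨n, hn⟩ := ha
  have hn0 : n ≠ 0 := by
    rintro rfl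
    rw [pow_zero, orderOf_eq_one_iff] at hn
    exact ha1 hn
  apply hZ
  have hdvd : orderOf (⟨a, hac⟩ : center G) ∣ Nat.card (center G) := orderOf_dvd_natCard _
  have hord : orderOf (⟨a, hac⟩ : center G) = orderOf a := by
    rw [← Subgroup.orderOf_coe]
  rw [hord, hn] at hdvd
  exact (dvd_pow_self p hn0).trans hdvd

end Cfsg.Agent.Lib.Helper12.Ps
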