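import Mathlib
import Cfsg.Agent.Lib.Helper12.PsDefs

/-!
# Ps hive (S4321), leaf PSP: the `p`-part of a `p`-singular element.
-/

set_option autoImplicit false

namespace Cfsg.Agent.Lib.Helper12.Ps

open Subgroup Cfsg.Agent.Lib.Helper22.Cg

universe u

/-- PSP. the `p`-part of a `p`-singular element. -/
theorem psP {G : Type u} [Group G] [Finite G] (p : ℕ) [Fact p.Prime] (x : G) (hx : p ∣ orderOf x) :
    ∃ a : G, (∃ n : ℕ, orderOf a = p ^ n) ∧ a ≠ 1 ∧ cs a ∣ cs x := by
  have hp : p.Prime := Fact.out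
  set N := orderOf x with hN
  have hN0 : N ≠ 0 := (orderOf_pos x).ne'
  set m := N / p ^ N.factorization p with hm
  have hmul : p ^ N.factorization p * m = N := Nat.ordProj_mul_ordCompl_eq_self N p
  have hm0 : m ≠ 0 := by
    rintro h0
    rw [h0, mul_zero] at hmul
    exact hN0 hmul.symm
  have hmdvd : m ∣ N := ⟨p ^ N.factorization p, by rw [mul_comm]; exact hmul.symm⟩
  have hord : orderOf (x ^ m) = p ^ N.factorization p := by
    rw [orderOf_pow_of_dvd hm0 hmdvd]
    exact Nat.div_eq_of_eq_mul_left (Nat.pos_of_ne_zero hm0) hmul.symm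
  have hk : N.factorization p ≠ 0 := by
    have := (hp.factorization_pos_of_dvd hN0 hx)
    omega
  refine ⟨x ^ m, ⟨_, hord⟩, ?_, ?_⟩
  · intro h1
    rw [h1, orderOf_one] at hord
    have : 1 < p ^ N.factorization p := Nat.one_lt_pow hk hp.one_lt
    omega
  · apply Subgroup.index_dvd_of_le
    intro g hg
    rw [Subgroup.mem_centralizer_iff] at hg ⊢
    intro y hy
    rw [Set.mem_singleton_iff] at hy
    subst hy
    have hc : Commute x g := (hg x (Set.mem_singleton x))
    exact (hc.pow_left m).eq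

end Cfsg.Agent.Lib.Helper12.Ps
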