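import Mathlib
import Cfsg.Prelude.Def_Characters
import Cfsg.Agent.Lib.Helper15.LinearChar
import Cfsg.Agent.Lib.Helper15.IrrCrit
import Cfsg.Agent.Lib.Helper25.Ind
import Cfsg.Agent.Lib.Helper3.Induced
import Cfsg.Agent.Lib.Helper3.CharOps
import Cfsg.Agent.Lib.Helper3.OddOrder
import Cfsg.Agent.Lib.Helper81.Irr
import Cfsg.Agent.Lib.Helper75.Twist
import Cfsg.Agent.Lib.Helper75.CliffordCorr

set_option autoImplicit false
set_option linter.unusedSectionVars false
set_option linter.style.haveILetI false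

/-!
Strongly real characters induced from a semidirect product `N ⋊ P` (`N` abelian, inverted by a
central involution `z` of `P`): Frobenius–Schur sum of an induced function, the extension of a linear
character of `N` to its inertia group, and the resulting family of strongly real irreducible characters.
-/

namespace Cfsg.Agent.Lib.Helper15.StrReal

open Cfsg Cfsg.Agent.Lib.Helper25 Cfsg.Agent.Lib.Helper3 Cfsg.Agent.Lib.Helper75
open scoped ComplexConjugate

universe u

variable {G : Type u} [Group G]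

/-- A linear character is irreducible. -/
theorem irr_of_linear {X : Type u} [Group X] [Fintype X] {lam : X → ℂ}
    (h : IsCharacter X lam ∧ lam 1 = 1) : IsIrrCharacter X lam := by
  have h1 := isIrrCharacter_mul_of_linear h.1 h.2
    (Cfsg.Agent.Lib.Helper3.isIrrCharacter_one (G := X))
  have h2 : (fun _ : X => (1 : ℂ)) * lam = lam := by
    funext x
    rw [Pi.mul_apply, one_mul]
  rw [h2] at h1
  exact h1

/-- The Frobenius–Schur sum of an induced function. -/
theorem fs_indFun [Fintype G] (T : Subgroup G) (ψ : T → ℂ) :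
    ∑ g : G, indFun T ψ (g * g) =
      (Nat.card G : ℂ) * ((Nat.card T : ℂ)⁻¹ * ∑ g : G, extendByZero T ψ (g * g)) := by
  have h1 : ∀ g : G, indFun T ψ (g * g) =
      (Nat.card T : ℂ)⁻¹ * ∑ x : G, extendByZero T ψ (x⁻¹ * (g * g) * x) := fun g =>
    indFun_apply T ψ (g * g)
  simp_rw [h1]
  rw [← Finset.mul_sum, Finset.sum_comm]
  have h2 : ∀ x : G, ∑ g : G, extendByZero T ψ (x⁻¹ * (g * g) * x) =
      ∑ g : G, extendByZero T ψ (g * g) := by
    intro x
    refine Fintype.sum_equiv (MulAut.conj x⁻¹).toEquiv _ _ (fun g => ?_)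
    congr 1
    simp only [MulEquiv.toEquiv_eq_coe, MulEquiv.coe_toEquiv, MulAut.conj_apply, inv_inv]
    group
  simp_rw [h2]
  rw [Finset.sum_const, Finset.card_univ, nsmul_eq_mul, ← Nat.card_eq_fintype_card (α := G)]
  ring

/-! ### The decomposition `G = N ⋊ P` -/

section Semi

variable (N P : Subgroup G) [hN : N.Normal]

theorem semi_bijective (hdisj : N ⊓ P = ⊥) (hprod : N ⊔ P = ⊤) :
    Function.Bijective (fun x : N × P => (x.1 : G) * (x.2 : G)) := by
  constructor
  · rintro ⟨n₁, h₁⟩ ⟨n₂, h₂⟩ h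
    simp only at h
    have h3 : (n₂ : G)⁻¹ * n₁ = h₂ * (h₁ : G)⁻¹ := by
      have : (n₂ : G)⁻¹ * (n₁ * h₁) * (h₁ : G)⁻¹ = (n₂ : G)⁻¹ * (n₂ * h₂) * (h₁ : G)⁻¹ := by rw [h]
      simpa [mul_assoc] using this
    have h4 : (n₂ : G)⁻¹ * n₁ ∈ N ⊓ P := by
      refine ⟨N.mul_mem (N.inv_mem n₂.2) n₁.2, ?_⟩
      rw [h3]
      exact P.mul_mem h₂.2 (P.inv_mem h₁.2)
    rw [hdisj, Subgroup.mem_bot] at h4
    have h5 : (n₁ : G) = n₂ := by
      have := inv_mul_eq_one.1 h4
      exact this.symm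
    have h6 : (h₁ : G) = h₂ := by
      rw [h5] at h
      exact mul_left_cancel h
    exact Prod.ext (Subtype.ext h5) (Subtype.ext h6)
  · intro g
    have hg : g ∈ N ⊔ P := by rw [hprod]; exact Subgroup.mem_top g
    have hset : g ∈ ((N ⊔ P : Subgroup G) : Set G) := hg
    rw [Subgroup.normal_mul] at hset
    obtain ⟨n, hn, h, hh, rfl⟩ := Set.mem_mul.1 hset
    exact ⟨(⟨n, hn⟩, ⟨h, hh⟩), rfl⟩

/-- The decomposition `N × P ≃ G`. -/
noncomputable def semiEquiv (hdisj : N ⊓ P = ⊥) (hprod : N ⊔ P = ⊤) : N × P ≃ G :=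
  Equiv.ofBijective _ (semi_bijective N P hdisj hprod)

theorem semiEquiv_apply (hdisj : N ⊓ P = ⊥) (hprod : N ⊔ P = ⊤) (x : N × P) :
    semiEquiv N P hdisj hprod x = (x.1 : G) * (x.2 : G) := rfl

theorem semiEquiv_symm_mul (hdisj : N ⊓ P = ⊥) (hprod : N ⊔ P = ⊤) (n : N) (h : P) :
    (semiEquiv N P hdisj hprod).symm ((n : G) * (h : G)) = (n, h) := by
  rw [Equiv.symm_apply_eq]
  rfl

end Semi

/-! ### The inertia group of a linear character of `N` and the extension -/

section Inert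

variable (N : Subgroup G) [hN : N.Normal] (lam : N →* ℂˣ)

/-- The inertia group of the linear character `lam` of the normal subgroup `N`. -/
def inert : Subgroup G where
  carrier := {g | ∀ n : N, lam (MulAut.conjNormal g n) = lam n}
  one_mem' := by intro n; simp
  mul_mem' := by
    intro a b ha hb n
    rw [map_mul, MulAut.mul_apply, ha, hb]
  inv_mem' := by
    intro a ha n
    have := ha (MulAut.conjNormal a⁻¹ n)
    rw [← MulAut.mul_apply, ← map_mul, mul_inv_cancel, map_one, MulAut.one_apply] at this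
    exact this.symm

theorem mem_inert {g : G} : g ∈ inert N lam ↔ ∀ n : N, lam (MulAut.conjNormal g n) = lam n :=
  Iff.rfl

theorem le_inert : N ≤ inert N lam := by
  intro g hg n
  have h1 : MulAut.conjNormal g n = (⟨g, hg⟩ : N) * n * (⟨g, hg⟩ : N)⁻¹ := by
    apply Subtype.ext
    simp [MulAut.conjNormal_apply]
  rw [h1, map_mul, map_mul, map_inv, mul_comm (lam ⟨g, hg⟩), mul_assoc, mul_inv_cancel, mul_one]

/-- The membership condition in the form used by the Clifford correspondence library. -/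
theorem mem_inert_iff' (g : G) : g ∈ inert N lam ↔
    ∀ h : N, (fun n : N => ((lam n : ℂˣ) : ℂ)) ⟨g * h * g⁻¹, hN.conj_mem h h.2 g⟩ =
      (fun n : N => ((lam n : ℂˣ) : ℂ)) h := by
  rw [mem_inert]
  constructor
  · intro h n
    have := h n
    have h1 : MulAut.conjNormal g n = ⟨g * n * g⁻¹, hN.conj_mem n n.2 g⟩ := by
      apply Subtype.ext
      simp [MulAut.conjNormal_apply]
    simp only
    rw [← h1, this]
  · intro h n
    have := h n
    have h1 : MulAut.conjNormal g n = ⟨g * n * g⁻¹, hN.conj_mem n n.2 g⟩ := by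
      apply Subtype.ext
      simp [MulAut.conjNormal_apply]
    simp only at this
    rw [h1]
    exact Units.ext this

variable (P : Subgroup G) (hdisj : N ⊓ P = ⊥) (hprod : N ⊔ P = ⊤)

/-- The function `n h ↦ lam n` on `G = N ⋊ P`. -/
noncomputable def ext (g : G) : ℂ :=
  ((lam ((semiEquiv N P hdisj hprod).symm g).1 : ℂˣ) : ℂ)

theorem ext_mul_apply (n : N) (h : P) :
    ext N lam P hdisj hprod ((n : G) * (h : G)) = ((lam n : ℂˣ) : ℂ) := by
  unfold ext
  rw [semiEquiv_symm_mul]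

theorem ext_of_mem_N (n : N) : ext N lam P hdisj hprod (n : G) = ((lam n : ℂˣ) : ℂ) := by
  have := ext_mul_apply N lam P hdisj hprod n 1
  simpa using this

theorem ext_of_mem_P (h : P) : ext N lam P hdisj hprod (h : G) = 1 := by
  have := ext_mul_apply N lam P hdisj hprod 1 h
  simpa using this

theorem ext_ne_zero (g : G) : ext N lam P hdisj hprod g ≠ 0 := by
  unfold ext
  exact Units.ne_zero _

theorem ext_mul {g₁ : G} (hg₁ : g₁ ∈ inert N lam) (g₂ : G) :
    ext N lam P hdisj hprod (g₁ * g₂) =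
      ext N lam P hdisj hprod g₁ * ext N lam P hdisj hprod g₂ := by
  obtain ⟨⟨n₁, h₁⟩, rfl⟩ := (semiEquiv N P hdisj hprod).surjective g₁
  obtain ⟨⟨n₂, h₂⟩, rfl⟩ := (semiEquiv N P hdisj hprod).surjective g₂
  simp only [semiEquiv_apply] at hg₁ ⊢
  have hh₁ : (h₁ : G) ∈ inert N lam := by
    have : (h₁ : G) = (n₁ : G)⁻¹ * ((n₁ : G) * (h₁ : G)) := by group
    rw [this]
    exact (inert N lam).mul_mem ((inert N lam).inv_mem (le_inert N lam n₁.2)) hg₁
  have h3 : (n₁ : G) * (h₁ : G) * ((n₂ : G) * (h₂ : G)) =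
      ((n₁ * MulAut.conjNormal (h₁ : G) n₂ : N) : G) * ((h₁ * h₂ : P) : G) := by
    simp only [Subgroup.coe_mul, MulAut.conjNormal_apply]
    group
  rw [h3, ext_mul_apply, ext_mul_apply, ext_mul_apply, map_mul, hh₁ n₂]
  push_cast
  rfl

/-- The extension of `lam` to its inertia group, as a hom. -/
noncomputable def extHom : inert N lam →* ℂ where
  toFun t := ext N lam P hdisj hprod (t : G)
  map_one' := by
    have := ext_of_mem_N N lam P hdisj hprod 1
    simpa using this
  map_mul' a b := by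
    rw [Subgroup.coe_mul]
    exact ext_mul N lam P hdisj hprod a.2 b

end Inert

/-! ### The induced characters `χ_μ` -/

section Main

variable [Fintype G] (N : Subgroup G) [hN : N.Normal] (lam : N →* ℂˣ)
  (P : Subgroup G) (hdisj : N ⊓ P = ⊥) (hprod : N ⊔ P = ⊤)

/-- `lam` as a complex-valued function. -/
def theta : N → ℂ := fun n => ((lam n : ℂˣ) : ℂ)

theorem theta_irr : IsIrrCharacter N (theta N lam) := by
  haveI := Fintype.ofFinite N
  exact irr_of_linear (Cfsg.Agent.Lib.Helper15.isCharacter_of_hom ((Units.coeHom ℂ).comp lam))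

/-- `ψ_μ = ext · μ|_T`. -/
noncomputable def psi (μ : G → ℂ) : inert N lam → ℂ :=
  fun t => ext N lam P hdisj hprod (t : G) * μ (t : G)

theorem psi_linear {μ : G → ℂ} (hμ : IsCharacter G μ ∧ μ 1 = 1) :
    IsCharacter (inert N lam) (psi N lam P hdisj hprod μ) ∧ psi N lam P hdisj hprod μ 1 = 1 := by
  constructor
  · exact IsCharacter.mul (Cfsg.Agent.Lib.Helper15.isCharacter_of_hom (extHom N lam P hdisj hprod)).1
      (IsCharacter.restrict hμ.1 (inert N lam))
  · unfold psi
    have h1 := ext_of_mem_N N lam P hdisj hprod 1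
    simp only [OneMemClass.coe_one, map_one, Units.val_one] at h1
    rw [OneMemClass.coe_one, h1, hμ.2, one_mul]

theorem psi_irr {μ : G → ℂ} (hμ : IsCharacter G μ ∧ μ 1 = 1) :
    IsIrrCharacter (inert N lam) (psi N lam P hdisj hprod μ) := by
  haveI := Fintype.ofFinite (inert N lam)
  exact irr_of_linear (psi_linear N lam P hdisj hprod hμ)

theorem psi_hc [Fintype (inert N lam)] {μ : G → ℂ} (hμ : IsCharacter G μ ∧ μ 1 = 1)
    (hμN : ∀ n : N, μ (n : G) = 1) :
    classInner (indFun (N.subgroupOf (inert N lam)) (resSub N (inert N lam) (theta N lam)))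
      (psi N lam P hdisj hprod μ) ≠ 0 := by
  haveI := Fintype.ofFinite (N.subgroupOf (inert N lam))
  rw [Cfsg.Agent.Lib.Helper25.frobenius_reciprocity _ _ _
    (IsCharacter.isClassFunction (psi_linear N lam P hdisj hprod hμ).1)]
  have h1 : (fun h : N.subgroupOf (inert N lam) => psi N lam P hdisj hprod μ h) =
      resSub N (inert N lam) (theta N lam) := by
    funext x
    have hx : ((x : inert N lam) : G) ∈ N := Subgroup.mem_subgroupOf.mp x.2
    have h2 := ext_of_mem_N N lam P hdisj hprod ⟨_, hx⟩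
    have h3 := hμN ⟨_, hx⟩
    simp only at h2 h3
    unfold psi resSub theta
    rw [h2, h3, mul_one]
  rw [h1]
  have h4 := classInner_irr (isIrrCharacter_resSub (le_inert N lam) (theta_irr N lam))
    (isIrrCharacter_resSub (le_inert N lam) (theta_irr N lam))
  rw [if_pos rfl] at h4
  rw [h4]
  exact one_ne_zero

/-- `χ_μ` is irreducible. -/
theorem chi_irr {μ : G → ℂ} (hμ : IsCharacter G μ ∧ μ 1 = 1) (hμN : ∀ n : N, μ (n : G) = 1) :
    IsIrrCharacter G (indFun (inert N lam) (psi N lam P hdisj hprod μ)) := by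
  haveI := Fintype.ofFinite (inert N lam)
  exact (clifford_corr_induction N (inert N lam) (theta N lam) (theta_irr N lam)
    (mem_inert_iff' N lam) (le_inert N lam) _ _ (psi_irr N lam P hdisj hprod hμ)
    (psi_irr N lam P hdisj hprod hμ) (psi_hc N lam P hdisj hprod hμ hμN)
    (psi_hc N lam P hdisj hprod hμ hμN)).1

/-- `μ ↦ χ_μ` is injective up to restriction to the inertia group. -/
theorem chi_inj {μ μ' : G → ℂ} (hμ : IsCharacter G μ ∧ μ 1 = 1) (hμN : ∀ n : N, μ (n : G) = 1)
    (hμ' : IsCharacter G μ' ∧ μ' 1 = 1) (hμN' : ∀ n : N, μ' (n : G) = 1)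
    (h : indFun (inert N lam) (psi N lam P hdisj hprod μ) =
      indFun (inert N lam) (psi N lam P hdisj hprod μ')) :
    ∀ t : inert N lam, μ (t : G) = μ' (t : G) := by
  haveI := Fintype.ofFinite (inert N lam)
  have h1 := (clifford_corr_induction N (inert N lam) (theta N lam) (theta_irr N lam)
    (mem_inert_iff' N lam) (le_inert N lam) _ _ (psi_irr N lam P hdisj hprod hμ)
    (psi_irr N lam P hdisj hprod hμ') (psi_hc N lam P hdisj hprod hμ hμN)
    (psi_hc N lam P hdisj hprod hμ' hμN')).2 h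
  intro t
  have h2 := congrFun h1 t
  unfold psi at h2
  exact mul_left_cancel₀ (ext_ne_zero N lam P hdisj hprod (t : G)) h2

theorem chi_one (μ : G → ℂ) (hμ1 : μ 1 = 1) :
    indFun (inert N lam) (psi N lam P hdisj hprod μ) 1 = ((inert N lam).index : ℂ) := by
  rw [indFun_apply_one]
  unfold psi
  have h1 := ext_of_mem_N N lam P hdisj hprod 1
  simp only [OneMemClass.coe_one, map_one, Units.val_one] at h1
  rw [OneMemClass.coe_one, h1, hμ1, one_mul, mul_one]

end Main

/-! ### The Frobenius–Schur sum of `χ_μ` -/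

section FS

variable [Fintype G] (N : Subgroup G) [hN : N.Normal] (lam : N →* ℂˣ)
  (P : Subgroup G) (hdisj : N ⊓ P = ⊥) (hprod : N ⊔ P = ⊤)

theorem sum_ite_mem_card (H : Subgroup G) [DecidablePred (· ∈ H)] :
    ∑ g : G, (if g ∈ H then (1 : ℂ) else 0) = (Nat.card H : ℂ) := by
  rw [Finset.sum_boole, Nat.card_eq_fintype_card, Fintype.card_subtype]

/-- The hom `n ↦ lam n * lam (h n h⁻¹)`. -/
noncomputable def twistHom (h : G) : N →* ℂ :=
  (Units.coeHom ℂ).comp (lam * lam.comp (MulAut.conjNormal h : N ≃* N).toMonoidHom)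

theorem twistHom_apply (h : G) (n : N) :
    twistHom N lam h n = ((lam n : ℂˣ) : ℂ) * ((lam (MulAut.conjNormal h n) : ℂˣ) : ℂ) := by
  simp [twistHom]

variable (z : G)

theorem conjNormal_z (hzinv : ∀ n : N, z * (n : G) * z⁻¹ = (n : G)⁻¹) (n : N) : MulAut.conjNormal z n = n⁻¹ := by
  apply Subtype.ext
  rw [MulAut.conjNormal_apply, hzinv n]
  rfl

theorem twistHom_eq_one_iff (hzinv : ∀ n : N, z * (n : G) * z⁻¹ = (n : G)⁻¹) (h : G) : twistHom N lam h = 1 ↔ h * z ∈ inert N lam := by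
  constructor
  · intro hf n
    rw [map_mul, MulAut.mul_apply, conjNormal_z N z hzinv]
    have h1 := DFunLike.congr_fun hf n⁻¹
    rw [twistHom_apply, MonoidHom.one_apply] at h1
    have h2 : lam n⁻¹ * lam (MulAut.conjNormal h n⁻¹) = 1 := by
      apply Units.ext
      push_cast
      exact h1
    rw [map_inv] at h2
    exact (inv_mul_eq_one.1 h2).symm
  · intro hT
    ext n
    rw [twistHom_apply, MonoidHom.one_apply]
    have h1 := hT n⁻¹
    rw [map_mul, MulAut.mul_apply, conjNormal_z N z hzinv, inv_inv, map_inv] at h1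
    rw [h1]
    simp

theorem fs_sum (hzinv : ∀ n : N, z * (n : G) * z⁻¹ = (n : G)⁻¹) (hzP : z ∈ P)
    (hz2 : z * z = 1) (hzc : ∀ h : P, z * (h : G) = (h : G) * z)
    {μ : G → ℂ} (hμ : IsCharacter G μ ∧ μ 1 = 1) (hμ2 : ∀ g, μ g * μ g = 1) :
    ∑ g : G, extendByZero (inert N lam) (psi N lam P hdisj hprod μ) (g * g) =
      (Nat.card (inert N lam) : ℂ) := by
  classical
  haveI := Fintype.ofFinite N
  haveI := Fintype.ofFinite P
  -- pointwise formula
  have hpt : ∀ (h : P) (n : N), extendByZero (inert N lam) (psi N lam P hdisj hprod μ)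
      (((n : G) * (h : G)) * ((n : G) * (h : G))) =
      if ((h : G) * (h : G)) ∈ inert N lam then twistHom N lam (h : G) n else 0 := by
    intro h n
    have h3 : (n : G) * (h : G) * ((n : G) * (h : G)) =
        ((n * MulAut.conjNormal (h : G) n : N) : G) * ((h * h : P) : G) := by
      simp only [Subgroup.coe_mul, MulAut.conjNormal_apply]
      group
    by_cases hk : ((h : G) * (h : G)) ∈ inert N lam
    · rw [if_pos hk]
      have hmem : (n : G) * (h : G) * ((n : G) * (h : G)) ∈ inert N lam := by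
        rw [h3]
        exact (inert N lam).mul_mem (le_inert N lam (Subtype.prop _)) hk
      rw [Cfsg.Agent.Lib.Helper25.extendByZero_of_mem _ _ hmem]
      unfold psi
      simp only
      rw [Cfsg.Agent.Lib.Helper15.linChar_mul hμ, hμ2, mul_one, h3, ext_mul_apply,
        twistHom_apply, map_mul]
      push_cast
      rfl
    · rw [if_neg hk]
      have hmem : (n : G) * (h : G) * ((n : G) * (h : G)) ∉ inert N lam := by
        rw [h3]
        intro hc
        apply hk
        have := (inert N lam).mul_mem ((inert N lam).inv_mem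
          (le_inert N lam (n * MulAut.conjNormal (h : G) n).2)) hc
        rwa [inv_mul_cancel_left, Subgroup.coe_mul] at this
      exact Cfsg.Agent.Lib.Helper25.extendByZero_of_not_mem _ _ hmem
  rw [← (semiEquiv N P hdisj hprod).sum_comp, Fintype.sum_prod_type, Finset.sum_comm]
  simp only [semiEquiv_apply, hpt]
  have hinner : ∀ h : P, ∑ n : N, (if ((h : G) * (h : G)) ∈ inert N lam then
      twistHom N lam (h : G) n else 0) =
      if ((h : G) * z) ∈ inert N lam then (Nat.card N : ℂ) else 0 := by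
    intro h
    by_cases hk : ((h : G) * z) ∈ inert N lam
    · have hk2 : ((h : G) * (h : G)) ∈ inert N lam := by
        have : (h : G) * (h : G) = ((h : G) * z) * ((h : G) * z) := by
          calc (h : G) * (h : G) = (h : G) * (h : G) * (z * z) := by rw [hz2, mul_one]
            _ = (h : G) * ((h : G) * z) * z := by group
            _ = (h : G) * (z * (h : G)) * z := by rw [hzc h]
            _ = _ := by group
        rw [this]
        exact (inert N lam).mul_mem hk hk
      rw [if_pos hk]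
      simp only [if_pos hk2]
      rw [sum_hom_units, if_pos ((twistHom_eq_one_iff N lam z hzinv (h : G)).2 hk),
        Nat.card_eq_fintype_card]
    · rw [if_neg hk]
      by_cases hk2 : ((h : G) * (h : G)) ∈ inert N lam
      · simp only [if_pos hk2]
        rw [sum_hom_units, if_neg (mt (twistHom_eq_one_iff N lam z hzinv (h : G)).1 hk)]
        simp
      · simp [hk2]
  simp only [hinner]
  have hre : ∑ h : P, (if ((h : G) * z) ∈ inert N lam then (Nat.card N : ℂ) else 0) =
      ∑ h : P, (if (h : G) ∈ inert N lam then (Nat.card N : ℂ) else 0) := by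
    exact Fintype.sum_equiv (Equiv.mulRight (⟨z, hzP⟩ : P)) _ _ (fun h => by simp)
  rw [hre, ← sum_ite_mem_card (inert N lam),
    ← (semiEquiv N P hdisj hprod).sum_comp, Fintype.sum_prod_type, Finset.sum_comm]
  refine Finset.sum_congr rfl (fun h _ => ?_)
  have hiff : ∀ n : N, semiEquiv N P hdisj hprod (n, h) ∈ inert N lam ↔ (h : G) ∈ inert N lam := by
    intro n
    rw [semiEquiv_apply]
    constructor
    · intro hc
      have := (inert N lam).mul_mem ((inert N lam).inv_mem (le_inert N lam n.2)) hc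
      simpa using this
    · intro hc
      exact (inert N lam).mul_mem (le_inert N lam n.2) hc
  simp only [hiff]
  by_cases hk : (h : G) ∈ inert N lam
  · simp [hk, Nat.card_eq_fintype_card]
  · simp [hk]

/-- `χ_μ` has Frobenius–Schur indicator `1`. -/
theorem fs_chi (hzinv : ∀ n : N, z * (n : G) * z⁻¹ = (n : G)⁻¹) (hzP : z ∈ P)
    (hz2 : z * z = 1) (hzc : ∀ h : P, z * (h : G) = (h : G) * z)
    {μ : G → ℂ} (hμ : IsCharacter G μ ∧ μ 1 = 1) (hμ2 : ∀ g, μ g * μ g = 1) :
    (Nat.card G : ℂ)⁻¹ *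
      ∑ g : G, indFun (inert N lam) (psi N lam P hdisj hprod μ) (g * g) = 1 := by
  rw [fs_indFun, fs_sum N lam P hdisj hprod z hzinv hzP hz2 hzc hμ hμ2]
  have h1 : (Nat.card G : ℂ) ≠ 0 := by exact_mod_cast Nat.card_pos.ne'
  have h2 : (Nat.card (inert N lam) : ℂ) ≠ 0 := by exact_mod_cast Nat.card_pos.ne'
  field_simp

end FS

/-! ### Counting extensions of a linear character -/

section Fiber

variable [Fintype G] (T : Subgroup G)

/-- At most `T.index` irreducible characters of `G` restrict to a given linear character on `T`. -/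
theorem card_le_index_of_restrict_eq {μ0 : G → ℂ} (hμ0 : IsCharacter G μ0 ∧ μ0 1 = 1)
    (S : Finset (IrrCharacter G))
    (hS : ∀ ξ ∈ S, ∀ t : T, (ξ : G → ℂ) (t : G) = μ0 (t : G)) : S.card ≤ T.index := by
  classical
  haveI := Fintype.ofFinite (IrrCharacter G)
  haveI := Fintype.ofFinite T
  have hν : IsCharacter T (fun t : T => μ0 (t : G)) ∧ (fun t : T => μ0 (t : G)) 1 = 1 :=
    ⟨IsCharacter.restrict hμ0.1 T, hμ0.2⟩
  have hνirr := irr_of_linear hν
  have hΘ : IsCharacter G (indFun T (fun t : T => μ0 (t : G))) := isCharacter_indFun T hν.1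
  obtain ⟨m, hm, hdec⟩ := Cfsg.Agent.Lib.Helper15.exists_nat_decomp hΘ
  have hmS : ∀ ξ ∈ S, m ξ = 1 := by
    intro ξ hξ
    have h1 := hm ξ
    rw [Cfsg.Agent.Lib.Helper25.frobenius_reciprocity T _ _
      (IsCharacter.isClassFunction (IsIrrCharacter.isCharacter ξ.2))] at h1
    have h2 : (fun h : T => (ξ : G → ℂ) (h : G)) = (fun t : T => μ0 (t : G)) := funext (hS ξ hξ)
    rw [h2, classInner_irr hνirr hνirr, if_pos rfl] at h1
    exact_mod_cast h1.symm
  have h1 : indFun T (fun t : T => μ0 (t : G)) 1 = (T.index : ℂ) := by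
    rw [indFun_apply_one]
    simp [hμ0.2]
  have h2 := congrFun hdec 1
  rw [h1, Finset.sum_apply] at h2
  simp only [Pi.smul_apply, smul_eq_mul, Cfsg.Agent.Lib.Helper81.irr_apply_one_eq_charDegree] at h2
  have h3 : T.index = ∑ ψ : IrrCharacter G, m ψ * charDegree (ψ : G → ℂ) := by exact_mod_cast h2
  rw [h3]
  calc S.card = ∑ ψ ∈ S, 1 := by simp
    _ ≤ ∑ ψ ∈ S, m ψ * charDegree (ψ : G → ℂ) := Finset.sum_le_sum (fun ψ hψ => by
        rw [hmS ψ hψ, one_mul]
        exact Nat.pos_of_ne_zero (Cfsg.Agent.Lib.Helper81.irr_charDegree_ne_zero ψ))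
    _ ≤ ∑ ψ : IrrCharacter G, m ψ * charDegree (ψ : G → ℂ) :=
        Finset.sum_le_sum_of_subset (Finset.subset_univ S)

end Fiber

/-! ### Group theory: the central involution inverting `N` -/

section Grp

variable [Finite G]

theorem exists_central_involution (P : Subgroup G) (hP : IsPGroup 2 P) (hP1 : P ≠ ⊥) :
    ∃ z : G, z ∈ P ∧ z ≠ 1 ∧ z * z = 1 ∧ ∀ h : P, z * (h : G) = (h : G) * z := by
  haveI : Fact (Nat.Prime 2) := ⟨Nat.prime_two⟩
  haveI : Nontrivial P := (Subgroup.nontrivial_iff_ne_bot P).2 hP1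
  haveI : Nontrivial (Subgroup.center P) := hP.center_nontrivial
  have hZ : IsPGroup 2 (Subgroup.center P) := hP.to_subgroup (Subgroup.center P)
  have hdvd : 2 ∣ Nat.card (Subgroup.center P) := by
    rcases hZ.card_eq_or_dvd with h | h
    · exact absurd h (Finite.one_lt_card).ne'
    · exact h
  obtain ⟨x, hx⟩ := exists_prime_orderOf_dvd_card' 2 hdvd
  refine ⟨((x : P) : G), (x : P).2, ?_, ?_, ?_⟩
  · intro h
    have h1 : x = 1 := by
      apply Subtype.ext
      apply Subtype.ext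
      exact h
    rw [h1, orderOf_one] at hx
    omega
  · have h1 : x ^ 2 = 1 := by rw [← hx]; exact pow_orderOf_eq_one x
    have h2 := congrArg (fun y : Subgroup.center P => ((y : P) : G)) h1
    simp only [Subgroup.coe_pow, Subgroup.coe_one] at h2
    rw [← pow_two]
    exact h2
  · intro h
    have h1 := Subgroup.mem_center_iff.1 x.2 h
    have h2 := congrArg (fun y : P => (y : G)) h1
    simp only [Subgroup.coe_mul] at h2
    exact h2.symm

theorem central_involution_inverts (N P : Subgroup G) [hN : N.Normal]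
    (hcomm : ∀ a b : N, a * b = b * a) (hdisj : N ⊓ P = ⊥) (hprod : N ⊔ P = ⊤)
    (hmin : N ≠ ⊥ ∧ ∀ M : Subgroup G, M.Normal → M ≠ ⊥ → N ≤ M)
    (z : G) (hzP : z ∈ P) (hz1 : z ≠ 1) (hz2 : z * z = 1)
    (hzc : ∀ h : P, z * (h : G) = (h : G) * z) :
    ∀ n : N, z * (n : G) * z⁻¹ = (n : G)⁻¹ := by
  have hzinv : z⁻¹ = z := inv_eq_of_mul_eq_one_left hz2
  -- commutation inside N at the level of G
  have hcomm' : ∀ a b : G, a ∈ N → b ∈ N → a * b = b * a := by
    intro a b ha hb
    exact congrArg Subtype.val (hcomm ⟨a, ha⟩ ⟨b, hb⟩)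
  -- the fixed points of z on N
  let C : Subgroup G := N ⊓ Subgroup.centralizer {z}
  have hCmem : ∀ c : G, c ∈ C ↔ c ∈ N ∧ z * c = c * z := by
    intro c
    simp only [C, Subgroup.mem_inf, Subgroup.mem_centralizer_iff, Set.mem_singleton_iff,
      forall_eq]
  have hCnorm : C.Normal := by
    refine ⟨fun c hc g => ?_⟩
    obtain ⟨⟨m, h⟩, rfl⟩ := (semi_bijective N P hdisj hprod).2 g
    obtain ⟨hcN, hcz⟩ := (hCmem c).1 hc
    have hc' : (h : G) * c * (h : G)⁻¹ ∈ N := hN.conj_mem c hcN h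
    have h1 : (m : G) * (h : G) * c * ((m : G) * (h : G))⁻¹ = (h : G) * c * (h : G)⁻¹ := by
      have h2 := hcomm' (m : G) ((h : G) * c * (h : G)⁻¹) m.2 hc'
      calc (m : G) * (h : G) * c * ((m : G) * (h : G))⁻¹
          = ((m : G) * ((h : G) * c * (h : G)⁻¹)) * (m : G)⁻¹ := by group
        _ = ((h : G) * c * (h : G)⁻¹ * (m : G)) * (m : G)⁻¹ := by rw [h2]
        _ = _ := by group
    simp only at h1 ⊢
    rw [h1, hCmem]
    refine ⟨hc', ?_⟩
    have h3 : z * (h : G)⁻¹ = (h : G)⁻¹ * z := by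
      have := hzc h⁻¹
      simpa using this
    calc z * ((h : G) * c * (h : G)⁻¹) = (z * (h : G)) * c * (h : G)⁻¹ := by group
      _ = ((h : G) * z) * c * (h : G)⁻¹ := by rw [hzc h]
      _ = (h : G) * (z * c) * (h : G)⁻¹ := by group
      _ = (h : G) * (c * z) * (h : G)⁻¹ := by rw [hcz]
      _ = (h : G) * c * (z * (h : G)⁻¹) := by group
      _ = (h : G) * c * ((h : G)⁻¹ * z) := by rw [h3]
      _ = _ := by group
  have hCbot : C = ⊥ := by
    by_contra hne
    have hNC : N ≤ C := hmin.2 C hCnorm hne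
    -- z is central in G
    have hzcent : ∀ g : G, g * z = z * g := by
      intro g
      obtain ⟨⟨m, h⟩, rfl⟩ := (semi_bijective N P hdisj hprod).2 g
      have h1 := ((hCmem (m : G)).1 (hNC m.2)).2
      simp only
      calc (m : G) * (h : G) * z = (m : G) * ((h : G) * z) := by group
        _ = (m : G) * (z * (h : G)) := by rw [hzc h]
        _ = ((m : G) * z) * (h : G) := by group
        _ = (z * (m : G)) * (h : G) := by rw [h1]
        _ = _ := by group
    have hMnorm : (Subgroup.zpowers z).Normal := by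
      refine ⟨fun x hx g => ?_⟩
      obtain ⟨k, rfl⟩ := Subgroup.mem_zpowers_iff.1 hx
      have hc : Commute g (z ^ k) := Commute.zpow_right (hzcent g) k
      have : g * z ^ k * g⁻¹ = z ^ k := by
        rw [hc.eq, mul_assoc, mul_inv_cancel, mul_one]
      rw [this]
      exact hx
    have hMne : Subgroup.zpowers z ≠ ⊥ := by
      intro h
      exact hz1 (Subgroup.zpowers_eq_bot.1 h)
    have hNM : N ≤ Subgroup.zpowers z := hmin.2 _ hMnorm hMne
    have hMP : Subgroup.zpowers z ≤ P := (Subgroup.zpowers_le).2 hzP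
    have : N ≤ N ⊓ P := le_inf le_rfl (hNM.trans hMP)
    rw [hdisj, le_bot_iff] at this
    exact hmin.1 this
  intro n
  have ha : z * (n : G) * z⁻¹ ∈ N := hN.conj_mem n n.2 z
  have hc : (n : G) * (z * (n : G) * z⁻¹) ∈ C := by
    rw [hCmem]
    refine ⟨N.mul_mem n.2 ha, ?_⟩
    have h1 := hcomm' (n : G) (z * (n : G) * z⁻¹) n.2 ha
    rw [hzinv] at h1 ⊢
    calc z * ((n : G) * (z * (n : G) * z)) = (z * (n : G) * z) * (n : G) * z := by group
      _ = (n : G) * (z * (n : G) * z) * z := by rw [← h1]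
      _ = _ := by group
  rw [hCbot, Subgroup.mem_bot] at hc
  exact (eq_inv_of_mul_eq_one_right hc)

end Grp

/-! ### A nontrivial linear character of `N` and the index of its inertia group -/

section Index

variable [Finite G]

theorem exists_nontrivial_lam (N : Subgroup G) (hcomm : ∀ a b : N, a * b = b * a) (hN1 : N ≠ ⊥) :
    ∃ (lam : N →* ℂˣ) (n0 : N), lam n0 ≠ 1 := by
  obtain ⟨n0, hn0⟩ := (Subgroup.ne_bot_iff_exists_ne_one).1 hN1
  let _ : CommGroup N := { (inferInstance : Group N) with mul_comm := hcomm }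
  have h1 : NeZero ((Monoid.exponent N : ℕ) : ℂ) := by
    have : NeZero (Monoid.exponent N) := ⟨Monoid.exponent_ne_zero_of_finite⟩
    exact NeZero.charZero
  obtain ⟨lam, hlam⟩ := CommGroup.exists_apply_ne_one_of_hasEnoughRootsOfUnity N ℂ hn0
  exact ⟨lam, n0, hlam⟩

theorem inert_index_even (N P : Subgroup G) [hN : N.Normal] (lam : N →* ℂˣ)
    (hdisj : N ⊓ P = ⊥) (hprod : N ⊔ P = ⊤)
    (q : ℕ) (hq : q.Prime) (hq2 : q ≠ 2) (hexp : ∀ a ∈ N, a ^ q = 1) (hP : IsPGroup 2 P)
    (n0 : N) (hn0 : lam n0 ≠ 1) (z : G) (hzinv : ∀ n : N, z * (n : G) * z⁻¹ = (n : G)⁻¹) :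
    2 ∣ (inert N lam).index ∧ 2 ≤ (inert N lam).index := by
  haveI : Fact (Nat.Prime 2) := ⟨Nat.prime_two⟩
  haveI := Fintype.ofFinite G
  have hzT : z ∉ inert N lam := by
    intro hz
    apply hn0
    have h1 := hz n0
    rw [conjNormal_z N z hzinv, map_inv] at h1
    have h2 : lam n0 ^ 2 = 1 := by
      rw [pow_two]
      nth_rewrite 1 [← h1]
      exact inv_mul_cancel _
    have h3 : lam n0 ^ q = 1 := by
      rw [← map_pow]
      have : n0 ^ q = 1 := by
        apply Subtype.ext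
        rw [Subgroup.coe_pow]
        exact hexp n0 n0.2
      rw [this, map_one]
    have h4 := pow_gcd_eq_one.2 ⟨h2, h3⟩
    have h5 : Nat.gcd 2 q = 1 := (Nat.coprime_primes Nat.prime_two hq).2 (Ne.symm hq2)
    rw [h5, pow_one] at h4
    exact h4
  have hne1 : (inert N lam).index ≠ 1 := by
    intro h
    rw [Subgroup.index_eq_one] at h
    apply hzT
    rw [h]
    exact Subgroup.mem_top z
  have hdvd : (inert N lam).index ∣ N.index := Subgroup.index_dvd_of_le (le_inert N lam)
  have hNP : N.index = Nat.card P := by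
    have h1 : Nat.card G = Nat.card N * Nat.card P := by
      rw [← Nat.card_prod]
      exact (Nat.card_congr (semiEquiv N P hdisj hprod)).symm
    have h2 := Subgroup.card_mul_index N
    rw [h1] at h2
    exact Nat.eq_of_mul_eq_mul_left Nat.card_pos h2
  obtain ⟨k, hk⟩ := hP.exists_card_eq
  rw [hNP, hk] at hdvd
  obtain ⟨m, -, hm⟩ := (Nat.dvd_prime_pow Nat.prime_two).1 hdvd
  have hm0 : m ≠ 0 := by
    intro h
    rw [h, pow_zero] at hm
    exact hne1 hm
  refine ⟨?_, ?_⟩
  · rw [hm]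
    exact dvd_pow_self 2 hm0
  · rw [hm]
    calc 2 = 2 ^ 1 := (pow_one 2).symm
      _ ≤ 2 ^ m := Nat.pow_le_pow_right (by norm_num) (Nat.one_le_iff_ne_zero.2 hm0)

end Index

/-! ### Assembly -/

section Assembly

variable [Fintype G]

/-- A linear character with Frobenius–Schur indicator `1` has values `±1`. -/
theorem linear_real_of_fs {μ : G → ℂ} (hμ : IsCharacter G μ ∧ μ 1 = 1)
    (h : (Nat.card G : ℂ)⁻¹ * ∑ g : G, μ (g * g) = 1) : ∀ g, μ g * μ g = 1 := by
  classical
  let f : G →* ℂ := Cfsg.Agent.Lib.Helper15.linCharHom hμ * Cfsg.Agent.Lib.Helper15.linCharHom hμ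
  have hf : ∀ g, f g = μ (g * g) := fun g => by
    simp [f, Cfsg.Agent.Lib.Helper15.linChar_mul hμ]
  have hs := sum_hom_units f
  by_cases h1 : f = 1
  · intro g
    have := DFunLike.congr_fun h1 g
    simpa [f] using this
  · rw [if_neg h1] at hs
    exfalso
    simp_rw [← hf] at h
    rw [hs] at h
    simp at h

/-- A linear character of order dividing `2` is trivial on a group of odd prime exponent. -/
theorem linear_real_trivial_on {μ : G → ℂ} (hμ : IsCharacter G μ ∧ μ 1 = 1)
    (hμ2 : ∀ g, μ g * μ g = 1) (q : ℕ) (hq : q.Prime) (hq2 : q ≠ 2) (a : G) (ha : a ^ q = 1) :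
    μ a = 1 := by
  have h2 : μ a ^ 2 = 1 := by rw [pow_two]; exact hμ2 a
  have h3 : μ a ^ q = 1 := by
    have := map_pow (Cfsg.Agent.Lib.Helper15.linCharHom hμ) a q
    simp only [Cfsg.Agent.Lib.Helper15.linCharHom_apply] at this
    rw [← this, ha, hμ.2]
  have h4 := pow_gcd_eq_one.2 ⟨h2, h3⟩
  have h5 : Nat.gcd 2 q = 1 := (Nat.coprime_primes Nat.prime_two hq).2 (Ne.symm hq2)
  rw [h5, pow_one] at h4
  exact h4

theorem strongly_real_bound (N P : Subgroup G) [hN : N.Normal] (q : ℕ) (hq : q.Prime)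
    (hq2 : q ≠ 2) (hcomm : ∀ a b : N, a * b = b * a) (hexp : ∀ a ∈ N, a ^ q = 1)
    (hP : IsPGroup 2 P) (hP1 : P ≠ ⊥) (hdisj : N ⊓ P = ⊥) (hprod : N ⊔ P = ⊤)
    (hmin : N ≠ ⊥ ∧ ∀ M : Subgroup G, M.Normal → M ≠ ⊥ → N ≤ M)
    [Fintype (IrrCharacter G)] [DecidableEq (IrrCharacter G)]
    (p : IrrCharacter G → Prop) [DecidablePred p]
    (hp : ∀ χ : IrrCharacter G, p χ ↔ (charDegree (χ : G → ℂ) = 1 ∨ 2 ∣ charDegree (χ : G → ℂ)) ∧
      (Nat.card G : ℂ)⁻¹ * ∑ g : G, (χ : G → ℂ) (g * g) = 1) :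
    4 * (Finset.univ.filter p).card ≤
      3 * ∑ χ ∈ Finset.univ.filter p, charDegree (χ : G → ℂ) := by
  classical
  obtain ⟨z, hzP, hz1, hz2, hzc⟩ := exists_central_involution P hP hP1
  have hzinv := central_involution_inverts N P hcomm hdisj hprod hmin z hzP hz1 hz2 hzc
  obtain ⟨lam, n0, hn0⟩ := exists_nontrivial_lam N hcomm hmin.1
  obtain ⟨hD2, hDge⟩ := inert_index_even N P lam hdisj hprod q hq hq2 hexp hP n0 hn0 z hzinv
  set D := (inert N lam).index with hD
  set X := Finset.univ.filter p with hX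
  set X1 := X.filter (fun χ : IrrCharacter G => charDegree (χ : G → ℂ) = 1) with hX1
  set X2 := X.filter (fun χ : IrrCharacter G => ¬ charDegree (χ : G → ℂ) = 1) with hX2
  -- properties of members of X1
  have hlin : ∀ μ ∈ X1, IsCharacter G (μ : G → ℂ) ∧ (μ : G → ℂ) 1 = 1 := by
    intro μ hμ
    refine ⟨IsIrrCharacter.isCharacter μ.2, ?_⟩
    rw [Cfsg.Agent.Lib.Helper81.irr_apply_one_eq_charDegree, (Finset.mem_filter.1 hμ).2]
    simp
  have hreal : ∀ μ ∈ X1, ∀ g, (μ : G → ℂ) g * (μ : G → ℂ) g = 1 := by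
    intro μ hμ
    have h1 := (Finset.mem_filter.1 (Finset.mem_filter.1 hμ).1).2
    exact linear_real_of_fs (hlin μ hμ) ((hp μ).1 h1).2
  have htriv : ∀ μ ∈ X1, ∀ n : N, (μ : G → ℂ) (n : G) = 1 := by
    intro μ hμ n
    exact linear_real_trivial_on (hlin μ hμ) (hreal μ hμ) q hq hq2 (n : G) (hexp n n.2)
  -- the map Φ
  let Φ : IrrCharacter G → IrrCharacter G := fun μ =>
    if h : (IsCharacter G (μ : G → ℂ) ∧ (μ : G → ℂ) 1 = 1) ∧ (∀ n : N, (μ : G → ℂ) (n : G) = 1)
    then ⟨indFun (inert N lam) (psi N lam P hdisj hprod (μ : G → ℂ)),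
      chi_irr N lam P hdisj hprod h.1 h.2⟩ else μ
  have hΦ : ∀ μ ∈ X1, ((Φ μ : IrrCharacter G) : G → ℂ) =
      indFun (inert N lam) (psi N lam P hdisj hprod (μ : G → ℂ)) := by
    intro μ hμ
    simp only [Φ, dif_pos (And.intro (hlin μ hμ) (htriv μ hμ))]
  have hΦdeg : ∀ μ ∈ X1, charDegree ((Φ μ : IrrCharacter G) : G → ℂ) = D := by
    intro μ hμ
    apply Cfsg.Agent.Lib.Helper81.charDegree_eq_of_apply_one
    rw [hΦ μ hμ, chi_one N lam P hdisj hprod _ (hlin μ hμ).2]
  have hΦX2 : ∀ μ ∈ X1, Φ μ ∈ X2 := by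
    intro μ hμ
    rw [hX2, Finset.mem_filter, hX, Finset.mem_filter]
    refine ⟨⟨Finset.mem_univ _, (hp _).2 ⟨Or.inr ?_, ?_⟩⟩, ?_⟩
    · rw [hΦdeg μ hμ]
      exact hD2
    · rw [hΦ μ hμ]
      exact fs_chi N lam P hdisj hprod z hzinv hzP hz2 hzc (hlin μ hμ) (hreal μ hμ)
    · rw [hΦdeg μ hμ]
      omega
  -- fibres
  have hfib : ∀ c ∈ X1.image Φ, (X1.filter (fun x => Φ x = c)).card ≤ D := by
    intro c hc
    obtain ⟨μ0, hμ0, rfl⟩ := Finset.mem_image.1 hc
    apply card_le_index_of_restrict_eq (inert N lam) (hlin μ0 hμ0)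
    intro ξ hξ t
    obtain ⟨hξ1, hξ2⟩ := Finset.mem_filter.1 hξ
    have h1 : indFun (inert N lam) (psi N lam P hdisj hprod (ξ : G → ℂ)) =
        indFun (inert N lam) (psi N lam P hdisj hprod (μ0 : G → ℂ)) := by
      rw [← hΦ ξ hξ1, ← hΦ μ0 hμ0, hξ2]
    exact chi_inj N lam P hdisj hprod (hlin ξ hξ1) (htriv ξ hξ1) (hlin μ0 hμ0) (htriv μ0 hμ0) h1 t
  have hcard1 : X1.card ≤ D * (X1.image Φ).card := Finset.card_le_mul_card_image X1 D hfib
  have hsub : X1.image Φ ⊆ X2 := by
    intro c hc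
    obtain ⟨μ0, hμ0, rfl⟩ := Finset.mem_image.1 hc
    exact hΦX2 μ0 hμ0
  -- sums
  have hcardX : X1.card + X2.card = X.card :=
    Finset.card_filter_add_card_filter_not (s := X)
      (fun χ : IrrCharacter G => charDegree (χ : G → ℂ) = 1)
  have hsumX : ∑ χ ∈ X1, charDegree (χ : G → ℂ) + ∑ χ ∈ X2, charDegree (χ : G → ℂ) =
      ∑ χ ∈ X, charDegree (χ : G → ℂ) :=
    Finset.sum_filter_add_sum_filter_not X
      (fun χ : IrrCharacter G => charDegree (χ : G → ℂ) = 1) _
  have hsum1 : ∑ χ ∈ X1, charDegree (χ : G → ℂ) = X1.card * 1 :=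
    Finset.sum_const_nat (fun χ hχ => (Finset.mem_filter.1 hχ).2)
  have hsum2 := Finset.sum_sdiff (f := fun χ : IrrCharacter G => charDegree (χ : G → ℂ)) hsub
  have hsumIm : ∑ χ ∈ X1.image Φ, charDegree (χ : G → ℂ) = (X1.image Φ).card * D := by
    apply Finset.sum_const_nat
    intro c hc
    obtain ⟨μ0, hμ0, rfl⟩ := Finset.mem_image.1 hc
    exact hΦdeg μ0 hμ0
  have hsumRest : (X2 \ X1.image Φ).card • 2 ≤
      ∑ χ ∈ X2 \ X1.image Φ, charDegree (χ : G → ℂ) := by
    apply Finset.card_nsmul_le_sum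
    intro χ hχ
    have hχ2 := (Finset.mem_sdiff.1 hχ).1
    obtain ⟨hχX, hχne⟩ := Finset.mem_filter.1 hχ2
    have h1 := ((hp χ).1 (Finset.mem_filter.1 hχX).2).1
    have h0 := Cfsg.Agent.Lib.Helper81.irr_charDegree_ne_zero χ
    rcases h1 with h1 | h1
    · exact absurd h1 hχne
    · obtain ⟨k, hk⟩ := h1
      omega
  have hcard2 := Finset.card_sdiff_add_card_eq_card hsub
  have hDa : 2 * (X1.image Φ).card ≤ D * (X1.image Φ).card := Nat.mul_le_mul_right _ hDge
  rw [smul_eq_mul] at hsumRest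
  rw [mul_comm] at hsumIm
  generalize D * (X1.image Φ).card = t at *
  omega

end Assembly

end Cfsg.Agent.Lib.Helper15.StrReal
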